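import Cfsg.Agent.Elementary.DerangementIndex
import Mathlib.GroupTheory.Index
import Mathlib.GroupTheory.Coset.Card
import Mathlib.Data.ZMod.Basic
import Mathlib.Algebra.BigOperators.Group.Finset.Basic
import Mathlib.Tactic

/-!
Coprime actions on abelian groups: fixed subgroups, their independence, and orbit counts.
-/

set_option autoImplicit false

namespace Cfsg.Lib.DerangeSqrt

variable {K V : Type*} [Group K] [Finite K] [CommGroup V] [Finite V] [MulDistribMulAction K V]

variable (V) in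
/-- The fixed subgroup of `X` in `V`. -/
def fixV (X : Subgroup K) : Subgroup V where
  carrier := {v | ∀ x ∈ X, x • v = v}
  one_mem' := fun x _ => smul_one x
  mul_mem' := fun {a b} ha hb x hx => by rw [smul_mul', ha x hx, hb x hx]
  inv_mem' := fun {a} ha x hx => by rw [smul_inv', ha x hx]

omit [Finite K] [Finite V] in
theorem mem_fixV {X : Subgroup K} {v : V} : v ∈ fixV V X ↔ ∀ x ∈ X, x • v = v := Iff.rfl

omit [Finite K] [Finite V] in
theorem fixV_anti {X Y : Subgroup K} (h : X ≤ Y) : fixV V Y ≤ fixV V X := fun _ hv x hx => hv x (h hx)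

omit [Finite K] [Finite V] in
theorem mem_fixV_zpowers {g : K} {v : V} : v ∈ fixV V (Subgroup.zpowers g) ↔ g • v = v :=
  ⟨fun h => h g (Subgroup.mem_zpowers g), fun h _ hx =>
    (Subgroup.zpowers_le.2 (show g ∈ MulAction.stabilizer K v from h)) hx⟩

omit [Finite K] [Finite V] in
theorem mem_fixV_sup {X Y : Subgroup K} {v : V} (hX : v ∈ fixV V X) (hY : v ∈ fixV V Y) :
    v ∈ fixV V (X ⊔ Y) := fun _ hx =>
  (sup_le (show X ≤ MulAction.stabilizer K v from hX) hY) hx

omit [Finite K] [Finite V] in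
theorem fixV_invariant {X : Subgroup K} {l : K} (hl : ∀ x ∈ X, l⁻¹ * x * l ∈ X) {v : V}
    (hv : v ∈ fixV V X) : l • v ∈ fixV V X := fun x hx => by
  have h := hv _ (hl x hx)
  rw [mul_smul, mul_smul, inv_smul_eq_iff] at h
  exact h

theorem card_fixV_conj {X Y : Subgroup K} (g : K) (h : ∀ x, x ∈ Y ↔ g⁻¹ * x * g ∈ X) :
    Nat.card (fixV V Y) = Nat.card (fixV V X) := by
  refine Nat.card_congr ⟨fun v => ⟨g⁻¹ • (v : V), fun x hx => ?_⟩, fun v => ⟨g • (v : V), fun x hx => ?_⟩,
    fun v => Subtype.ext (smul_inv_smul g _), fun v => Subtype.ext (inv_smul_smul g _)⟩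
  · have h' : g * x * g⁻¹ ∈ Y := (h _).2 (by simpa [mul_assoc] using hx)
    have := v.2 _ h'
    rw [mul_smul, mul_smul] at this
    exact eq_inv_smul_iff.2 this
  · have := v.2 _ ((h x).1 hx)
    rw [mul_smul, mul_smul, inv_smul_eq_iff] at this
    exact this

omit [Finite K] in
theorem pow_coprime_injective {B : Subgroup K} (hcop : (Nat.card B).Coprime (Nat.card V)) {v w : V}
    (h : v ^ Nat.card B = w ^ Nat.card B) : v = w :=
  (Nat.Coprime.symm hcop).pow_left_bijective.1 h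

/-- Fixed subgroups separated pairwise are independent. -/
theorem prod_card_le {ι : Type*} [Fintype ι] (A : Subgroup K) (hA : ∀ a ∈ A, ∀ b ∈ A, a * b = b * a)
    (hcop : (Nat.card A).Coprime (Nat.card V)) (B : ι → Subgroup K) (hB : ∀ i, B i ≤ A)
    (hsep : ∀ i j, i ≠ j → ∀ v : V, v ∈ fixV V (B i) → v ∈ fixV V (B j) → v = 1) :
    ∏ i, Nat.card (fixV V (B i)) ≤ Nat.card V := by
  classical
  rw [← Nat.card_pi]
  refine Nat.card_le_card_of_injective (fun f => ∏ i, (f i : V)) fun f f' hff => funext fun i => Subtype.ext ?_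
  haveI := Fintype.ofFinite (B i)
  have hcopi : (Nat.card (B i)).Coprime (Nat.card V) :=
    Nat.Coprime.coprime_dvd_left (Subgroup.card_dvd_of_le (hB i)) hcop
  have key : ∀ f : ∀ i, fixV V (B i), ∏ b : B i, (b : K) • (∏ j, (f j : V)) = (f i : V) ^ Nat.card (B i) := by
    intro f
    simp only [Finset.smul_prod']
    rw [Finset.prod_comm, Finset.prod_eq_single i ?_ (fun h => absurd (Finset.mem_univ i) h)]
    · rw [Finset.prod_congr rfl (fun (b : B i) _ => (f i).2 b b.2), Finset.prod_const, Finset.card_univ,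
        Nat.card_eq_fintype_card]
    · intro j _ hji
      refine hsep i j hji.symm _ (fun x hx => ?_) fun x hx => ?_
      · rw [Finset.smul_prod']
        exact Fintype.prod_equiv (Equiv.mulLeft (⟨x, hx⟩ : B i)) _ _ fun b => (mul_smul x (b : K) _).symm
      · rw [Finset.smul_prod']
        refine Finset.prod_congr rfl fun b _ => ?_
        rw [← mul_smul, hA x (hB j hx) b (hB i b.2), mul_smul, (f j).2 x hx]
  refine pow_coprime_injective hcopi ?_
  rw [← key f, ← key f']
  exact congrArg (fun v => ∏ b : B i, (b : K) • v) hff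

/-- In an elementary abelian group without fixed points a fixed point has a stabiliser of rank one less. -/
theorem exists_fixed_maximal {ℓ : ℕ} [hℓ : Fact ℓ.Prime] {A : Subgroup K}
    (hA : ∀ a ∈ A, ∀ b ∈ A, a * b = b * a) (hexp : ∀ a ∈ A, a ^ ℓ = 1)
    (hcop : ℓ.Coprime (Nat.card V)) (hfix : ∀ v : V, v ∈ fixV V A → v = 1) [Nontrivial V] :
    ∃ B : Subgroup K, B ≤ A ∧ (∃ v : V, v ≠ 1 ∧ v ∈ fixV V B) ∧
      ∃ a ∈ A, a ∉ B ∧ A = B ⊔ Subgroup.zpowers a := by
  classical
  haveI := Fintype.ofFinite (Subgroup K)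
  obtain ⟨B, hBmem, hmax⟩ := Finset.exists_max_image
    (Finset.univ.filter fun B : Subgroup K => B ≤ A ∧ ∃ v : V, v ≠ 1 ∧ v ∈ fixV V B)
    (fun B => Nat.card B)
    (⟨⊥, Finset.mem_filter.2 ⟨Finset.mem_univ _, bot_le, by
      obtain ⟨v, hv⟩ := exists_ne (1 : V)
      exact ⟨v, hv, fun x hx => by rw [Subgroup.mem_bot.1 hx, one_smul]⟩⟩⟩)
  obtain ⟨hBA, v, hv1, hvB⟩ := (Finset.mem_filter.1 hBmem).2
  have hext : ∀ g ∈ A, g ∉ B → ∀ u ∈ fixV V B, g • u = u → u = 1 := by
    intro g hg hgB u hu hgu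
    by_contra hu1
    have hle := hmax (B ⊔ Subgroup.zpowers g) (Finset.mem_filter.2 ⟨Finset.mem_univ _,
      sup_le hBA (Subgroup.zpowers_le.2 hg), u, hu1, mem_fixV_sup hu (mem_fixV_zpowers.2 hgu)⟩)
    have := Subgroup.eq_of_le_of_card_ge (le_sup_left (b := Subgroup.zpowers g)) hle
    exact hgB (this.symm ▸ Subgroup.mem_sup_right (Subgroup.mem_zpowers g))
  obtain ⟨a, ha, haB⟩ : ∃ a ∈ A, a ∉ B := by
    by_contra h
    push Not at h
    exact hv1 (hfix v fun x hx => hvB x (h x hx))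
  refine ⟨B, hBA, ⟨v, hv1, hvB⟩, a, ha, haB, le_antisymm ?_ (sup_le hBA (Subgroup.zpowers_le.2 ha))⟩
  intro c hc
  by_contra hcB
  let F : ZMod ℓ × ZMod ℓ → V := fun x => (a ^ x.1.val * c ^ x.2.val) • v
  have hpow : ∀ g ∈ A, ∀ s t : ℕ, s % ℓ = t % ℓ → g ^ s = g ^ t := fun g hg s t hst => by
    rw [← Nat.mod_add_div s ℓ, ← Nat.mod_add_div t ℓ, pow_add, pow_add, pow_mul, pow_mul, hexp g hg, hst]
    simp
  have hFB : ∀ x, F x ∈ fixV V B := fun x y hy => by
    show y • (a ^ x.1.val * c ^ x.2.val) • v = _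
    rw [← mul_smul, hA y (hBA hy) _ (A.mul_mem (A.pow_mem ha _) (A.pow_mem hc _)), mul_smul, hvB y hy]
  have hac : ∀ i j, a ^ i * c ^ j = c ^ j * a ^ i := fun i j => hA _ (A.pow_mem ha i) _ (A.pow_mem hc j)
  have hsmul : ∀ i j : ZMod ℓ, ∀ x, (a ^ i.val * c ^ j.val) • F x = F (i + x.1, j + x.2) := fun i j x => by
    show (a ^ i.val * c ^ j.val) • (a ^ x.1.val * c ^ x.2.val) • v = (a ^ (i + x.1).val * c ^ (j + x.2).val) • v
    rw [← mul_smul, hpow a ha (i + x.1).val (i.val + x.1.val) (by rw [ZMod.val_add, Nat.mod_mod]),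
      hpow c hc (j + x.2).val (j.val + x.2.val) (by rw [ZMod.val_add, Nat.mod_mod]), pow_add, pow_add,
      mul_assoc, ← mul_assoc (c ^ j.val), ← hac, mul_assoc, mul_assoc]
  -- the products over the lines
  have hline : ∀ s t : ZMod ℓ, a ^ s.val * c ^ t.val ∉ B → ∏ k : ZMod ℓ, F (k * s, k * t) = 1 := by
    intro s t hst
    refine hext _ (A.mul_mem (A.pow_mem ha _) (A.pow_mem hc _)) hst _
      ((fixV V B).prod_mem fun k _ => hFB _) ?_
    rw [Finset.smul_prod']
    refine Fintype.prod_equiv (Equiv.addLeft (1 : ZMod ℓ)) _ _ fun k => ?_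
    rw [hsmul, Equiv.coe_addLeft]
    congr 1
    ext <;> simp [add_mul]
  have hall : ∏ x : ZMod ℓ × ZMod ℓ, F x = 1 := by
    refine hext a ha haB _ ((fixV V B).prod_mem fun x _ => hFB x) ?_
    rw [Finset.smul_prod']
    refine Fintype.prod_equiv ((Equiv.addLeft (1 : ZMod ℓ)).prodCongr (Equiv.refl _)) _ _ fun x => ?_
    have h1 : (1 : ZMod ℓ).val = 1 := ZMod.val_one ℓ
    have := hsmul 1 0 x
    rw [h1, ZMod.val_zero, pow_zero, pow_one, mul_one] at this
    rw [this]
    simp [Prod.map]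
  have hnot : ∀ t : ZMod ℓ, a ^ (1 : ZMod ℓ).val * c ^ t.val ∉ B := by
    intro t h
    rw [ZMod.val_one, pow_one] at h
    rcases eq_or_ne t 0 with rfl | ht
    · exact haB (by simpa using h)
    · have hct : c ^ t.val ∈ B ⊔ Subgroup.zpowers a := by
        have := (B ⊔ Subgroup.zpowers a).mul_mem (Subgroup.mem_sup_right
          (inv_mem (Subgroup.mem_zpowers a))) (Subgroup.mem_sup_left h)
        simpa using this
      have := (B ⊔ Subgroup.zpowers a).pow_mem hct t⁻¹.val
      rw [← pow_mul, hpow c hc (t.val * t⁻¹.val) 1 (by rw [← ZMod.val_mul, mul_inv_cancel₀ ht, ZMod.val_one,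
        Nat.one_mod_eq_one.2 hℓ.out.ne_one]), pow_one] at this
      exact hcB this
  have hv0 : F (0, 0) = v := by simp [F]
  have hzero : ∏ j : ZMod ℓ, F (0, j) = 1 := by
    have := hline 0 1 (fun h => hcB (Subgroup.mem_sup_left (by simpa [ZMod.val_one] using h)))
    simpa using this
  have hrow : ∀ k : ZMod ℓ, k ≠ 0 → ∏ t : ZMod ℓ, F (k * 1, k * t) = ∏ j : ZMod ℓ, F (k, j) := fun k hk =>
    Fintype.prod_equiv (Equiv.mulLeft₀ k hk) _ _ fun t => by simp
  have h1 : ∏ t : ZMod ℓ, ∏ k : ZMod ℓ, F (k * 1, k * t) = 1 :=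
    Finset.prod_eq_one fun t _ => hline 1 t (hnot t)
  rw [Finset.prod_comm, ← Finset.mul_prod_erase _ _ (Finset.mem_univ (0 : ZMod ℓ)),
    Finset.prod_congr rfl fun k hk => hrow k (Finset.mem_erase.1 hk).1] at h1
  simp only [zero_mul, hv0, Finset.prod_const, Finset.card_univ, ZMod.card] at h1
  rw [Fintype.prod_prod_type, ← Finset.mul_prod_erase _ _ (Finset.mem_univ (0 : ZMod ℓ)), hzero, one_mul] at hall
  rw [hall, mul_one] at h1
  exact hv1 ((Nat.Coprime.symm hcop).pow_left_bijective.1 (h1.trans (one_pow ℓ).symm))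

variable {W : Subgroup K} [hW : W.Normal]

/-- Orbits of `R` on an invariant set are permuted semiregularly by the quotient by `W`. -/
theorem count_le (hfpf : ∀ y : K, y ∉ W → ∀ v : V, y • v = v → v = 1) {L R : Subgroup K}
    (hcov : ∀ g : K, ∃ l ∈ L, g⁻¹ * l ∈ W) (hRW : R ≤ W)
    (hnorm : ∀ l ∈ L, ∀ r ∈ R, l * r * l⁻¹ ∈ R) (U : Finset V) (h1 : (1 : V) ∉ U) (hU : U.Nonempty)
    (hinv : ∀ l ∈ L, ∀ v ∈ U, l • v ∈ U) (hinvR : ∀ r ∈ R, ∀ v ∈ U, r • v ∈ U) :
    W.index * Nat.card R ≤ ∑ v ∈ U, Nat.card ↥(R ⊓ MulAction.stabilizer K v) := by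
  classical
  haveI := Fintype.ofFinite (K ⧸ W)
  haveI := Fintype.ofFinite V
  obtain ⟨v, hv⟩ := hU
  choose rep hrep hrepW using hcov
  let e : K ⧸ W → V := fun c => rep c.out • v
  let O : K ⧸ W → Finset V := fun c => (MulAction.orbit R (e c)).toFinset
  have hsub : ∀ c, O c ⊆ U := fun c x hx => by
    obtain ⟨r, rfl⟩ := Set.mem_toFinset.1 hx
    exact hinvR r r.2 _ (hinv _ (hrep _) v hv)
  have hdisj : ∀ c c', c ≠ c' → Disjoint (O c) (O c') := by
    intro c c' hne
    refine Finset.disjoint_left.2 fun x hx hx' => hne ?_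
    obtain ⟨r, rfl⟩ := Set.mem_toFinset.1 hx
    obtain ⟨r', hr'⟩ := Set.mem_toFinset.1 hx'
    change (r' : K) • rep c'.out • v = (r : K) • rep c.out • v at hr'
    have hmem : (rep c.out)⁻¹ * ((r : K)⁻¹ * r') * rep c'.out ∈ W := by
      by_contra hy
      refine h1 ((hfpf _ hy v ?_) ▸ hv)
      rw [mul_smul, mul_smul, mul_smul, hr', inv_smul_smul, inv_smul_smul]
    rw [← Quotient.out_eq' c, ← Quotient.out_eq' c']
    refine Quotient.sound' (QuotientGroup.leftRel_apply.2 ?_)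
    have hc := hW.conj_mem _ (W.mul_mem (W.inv_mem (hRW r.2)) (hRW r'.2)) (rep c.out)⁻¹
    rw [inv_inv] at hc
    have hmid : (rep c.out)⁻¹ * rep c'.out ∈ W := by
      have := W.mul_mem (W.inv_mem hc) hmem
      simpa [mul_assoc] using this
    have := W.mul_mem (W.mul_mem (hrepW c.out) hmid) (W.inv_mem (hrepW c'.out))
    simpa [mul_assoc] using this
  have horb : ∀ c, ∑ x ∈ O c, Nat.card ↥(R ⊓ MulAction.stabilizer K x) = Nat.card R := by
    intro c
    have he : ∀ x ∈ O c, Nat.card ↥(R ⊓ MulAction.stabilizer K x) =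
        Nat.card ↥(R ⊓ MulAction.stabilizer K (e c)) := by
      intro x hx
      obtain ⟨r, rfl⟩ := Set.mem_toFinset.1 hx
      have h1 := DerangementIndex.card_eq_orbit_mul R (e c)
      have h2 := DerangementIndex.card_eq_orbit_mul R ((r : K) • e c)
      rw [show MulAction.orbit R ((r : K) • e c) = MulAction.orbit R (e c) from MulAction.orbit_smul r (e c)] at h2
      refine Nat.eq_of_mul_eq_mul_left ?_ (h2.symm.trans h1)
      exact (Set.ncard_pos (Set.toFinite _)).2 ⟨e c, MulAction.mem_orbit_self _⟩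
    rw [Finset.sum_congr rfl he, Finset.sum_const, smul_eq_mul, DerangementIndex.card_eq_orbit_mul R (e c),
      Set.ncard_eq_toFinset_card']
  calc W.index * Nat.card R = ∑ c : K ⧸ W, ∑ x ∈ O c, Nat.card ↥(R ⊓ MulAction.stabilizer K x) := by
        rw [Finset.sum_congr rfl fun c _ => horb c, Finset.sum_const, Finset.card_univ, smul_eq_mul,
          Subgroup.index, Nat.card_eq_fintype_card]
    _ = ∑ x ∈ Finset.univ.biUnion O, Nat.card ↥(R ⊓ MulAction.stabilizer K x) :=
        (Finset.sum_biUnion fun c _ c' _ h => hdisj c c' h).symm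
    _ ≤ _ := Finset.sum_le_sum_of_subset (Finset.biUnion_subset.2 fun c _ => hsub c)

/-- An invariant subgroup has order one modulo the index. -/
theorem index_dvd_card_sub_one (hfpf : ∀ y : K, y ∉ W → ∀ v : V, y • v = v → v = 1) {L : Subgroup K}
    (hcov : ∀ g : K, ∃ l ∈ L, g⁻¹ * l ∈ W) (A : Subgroup V) (hA : ∀ l ∈ L, ∀ v ∈ A, l • v ∈ A) :
    W.index ∣ Nat.card A - 1 := by
  have e : Nat.card A - 1 = ((A : Set V) \ {1}).ncard := by
    rw [Set.ncard_sdiff_singleton_of_mem A.one_mem, ← Nat.card_coe_set_eq]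
    rfl
  rw [e]
  have hrel : W.relIndex L = W.index := by
    rw [← Subgroup.relIndex_sup_right, show L ⊔ W = ⊤ from top_le_iff.1 fun g _ => ?_,
      Subgroup.relIndex_top_right]
    obtain ⟨l, hl, hlW⟩ := hcov g
    rw [show g = l * (g⁻¹ * l)⁻¹ by group]
    exact Subgroup.mul_mem_sup hl (W.inv_mem hlW)
  refine DerangementIndex.dvd_ncard_of_invariant (H := L) (fun h x hx => ⟨hA h h.2 x hx.1, fun e => hx.2 ?_⟩)
    fun x hx => ?_
  · have e' : (h : K) • x = 1 := e
    exact (smul_eq_iff_eq_inv_smul _).1 e' |>.trans (smul_one _)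
  · rw [← hrel]
    refine Subgroup.index_dvd_of_le (H := MulAction.stabilizer L x) fun h hh => ?_
    by_contra hW'
    exact hx.2 (hfpf _ hW' x hh)

/-- Counting the orbits through an invariant set of elements with fixed points. -/
theorem count_elems (hfpf : ∀ y : K, y ∉ W → ∀ v : V, y • v = v → v = 1) {L R : Subgroup K}
    (hcov : ∀ g : K, ∃ l ∈ L, g⁻¹ * l ∈ W) (hRW : R ≤ W) (hRL : R ≤ L)
    (hnorm : ∀ l ∈ L, ∀ r ∈ R, l * r * l⁻¹ ∈ R) (S : Finset K)
    (hS : ∀ l ∈ L, ∀ s ∈ S, l * s * l⁻¹ ∈ S) (hex : ∃ s ∈ S, ∃ v : V, v ≠ 1 ∧ s • v = v)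
    (b c y : ℕ)
    (hb : ∀ v : V, v ≠ 1 → (∃ s ∈ S, s • v = v) →
      b * Nat.card ↥(R ⊓ MulAction.stabilizer K v) ≤ c * Nat.card {s : K // s ∈ S ∧ s • v = v})
    (hy : ∀ s ∈ S, Nat.card (fixV V (Subgroup.zpowers s)) ≤ y) :
    b * (W.index * Nat.card R) ≤ c * S.card * (y - 1) := by
  classical
  haveI := Fintype.ofFinite V
  haveI := Fintype.ofFinite K
  set U : Finset V := Finset.univ.filter fun v => v ≠ 1 ∧ ∃ s ∈ S, s • v = v with hUdef
  have hmemU : ∀ v, v ∈ U ↔ v ≠ 1 ∧ ∃ s ∈ S, s • v = v := fun v => by simp [U]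
  have hinv : ∀ l ∈ L, ∀ v ∈ U, l • v ∈ U := by
    intro l hl v hv
    obtain ⟨h1, s, hs, hsv⟩ := (hmemU v).1 hv
    refine (hmemU _).2 ⟨fun e => h1 ?_, l * s * l⁻¹, hS l hl s hs, ?_⟩
    · exact ((smul_eq_iff_eq_inv_smul _).1 e).trans (smul_one _)
    · rw [mul_smul, mul_smul, inv_smul_smul, hsv]
  have hne : U.Nonempty := by
    obtain ⟨s, hs, v, hv1, hv⟩ := hex
    exact ⟨v, (hmemU v).2 ⟨hv1, s, hs, hv⟩⟩
  have h := count_le hfpf hcov hRW hnorm U (fun h => ((hmemU 1).1 h).1 rfl) hne hinv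
    fun r hr => hinv r (hRL hr)
  refine (Nat.mul_le_mul_left b h).trans ?_
  rw [Finset.mul_sum]
  refine (Finset.sum_le_sum fun v hv => hb v ((hmemU v).1 hv).1 ((hmemU v).1 hv).2).trans ?_
  rw [← Finset.mul_sum, mul_assoc]
  refine Nat.mul_le_mul_left c ?_
  have e : ∀ v : V, Nat.card {s : K // s ∈ S ∧ s • v = v} = (S.filter fun s => s • v = v).card := fun v => by
    rw [Nat.card_eq_fintype_card, Fintype.card_subtype]
    congr 1
    ext s
    simp
  simp only [e, Finset.card_filter]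
  rw [Finset.sum_comm]
  refine (Finset.sum_le_sum fun s hs => ?_).trans (le_of_eq (by rw [Finset.sum_const, smul_eq_mul]))
  rw [← Finset.card_filter]
  have h2 : (U.filter fun v => s • v = v).card + 1 ≤ y := by
    refine le_trans ?_ (hy s hs)
    rw [← Finset.card_insert_of_notMem (a := (1 : V)) (by simp [hmemU]), Nat.card_eq_fintype_card,
      Fintype.card_subtype]
    refine Finset.card_le_card fun v hv => Finset.mem_filter.2 ⟨Finset.mem_univ _, mem_fixV_zpowers.2 ?_⟩
    rcases Finset.mem_insert.1 hv with rfl | hv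
    · exact smul_one s
    · exact (Finset.mem_filter.1 hv).2
  omega

theorem comm_closure_pair {g z : K} (h : g * z = z * g) :
    ∀ a ∈ Subgroup.closure {g, z}, ∀ b ∈ Subgroup.closure {g, z}, a * b = b * a := by
  intro a ha b hb
  have h1 : Subgroup.closure {g, z} ≤ Subgroup.centralizer ({g, z} : Set K) := by
    refine (Subgroup.closure_le _).2 ?_
    intro x hx
    refine Subgroup.mem_centralizer_iff.2 fun y hy => ?_
    rcases hx with rfl | rfl <;> rcases hy with rfl | rfl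
    exacts [rfl, h.symm, h, rfl]
  have h2 := Subgroup.closure_le (K := Subgroup.centralizer (Subgroup.closure ({g, z} : Set K) : Set K)) |>.2
    fun x hx => Subgroup.mem_centralizer_iff.2 fun y hy => (Subgroup.mem_centralizer_iff.1 (h1 hy) x hx).symm
  exact Subgroup.mem_centralizer_iff.1 (h2 hb) a ha

omit [W.Normal] in
/-- An element conjugate to all its translates by a semiregular element of order `ℓ` has few fixed points. -/
theorem fix_pow_le {ℓ : ℕ} [hℓ : Fact ℓ.Prime] (hcop : (Nat.card W).Coprime (Nat.card V)) {g z : K}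
    (hgW : g ∈ W) (hzW : z ∈ W) (hz : orderOf z = ℓ) (hgz : g * z = z * g)
    (hzfix : ∀ v : V, z • v = v → v = 1) (hconj : ∀ i : ℕ, ∃ h : K, h * g * h⁻¹ = g * z ^ i) :
    Nat.card (fixV V (Subgroup.zpowers g)) ^ ℓ ≤ Nat.card V := by
  have hA : Subgroup.closure {g, z} ≤ W := (Subgroup.closure_le _).2 (by
    rintro x (rfl | rfl) <;> assumption)
  have hgA : g ∈ Subgroup.closure ({g, z} : Set K) := Subgroup.subset_closure (Or.inl rfl)
  have hzA : z ∈ Subgroup.closure ({g, z} : Set K) := Subgroup.subset_closure (Or.inr rfl)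
  have h := prod_card_le (V := V) (Subgroup.closure {g, z}) (comm_closure_pair hgz)
    (Nat.Coprime.coprime_dvd_left (Subgroup.card_dvd_of_le hA) hcop)
    (fun i : Fin ℓ => Subgroup.zpowers (g * z ^ (i : ℕ)))
    (fun i => Subgroup.zpowers_le.2 (Subgroup.mul_mem _ hgA (Subgroup.pow_mem _ hzA _))) ?_
  · refine le_trans (le_of_eq ?_) h
    rw [Finset.prod_congr rfl (g := fun _ => Nat.card (fixV V (Subgroup.zpowers g))) fun i _ => ?_,
      Finset.prod_const, Finset.card_univ, Fintype.card_fin]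
    obtain ⟨u, hu⟩ := hconj i
    refine card_fixV_conj u fun x => ?_
    rw [← hu, Subgroup.mem_zpowers_iff, Subgroup.mem_zpowers_iff]
    refine exists_congr fun k => ?_
    rw [conj_zpow]
    exact ⟨fun e => by rw [← e]; group, fun e => by rw [e]; group⟩
  · intro i j hij v hi hj
    have hi' := mem_fixV_zpowers.1 hi
    have hj' := mem_fixV_zpowers.1 hj
    wlog hlt : (i : ℕ) < j generalizing i j
    · exact this j i hij.symm hj hi hj' hi' (lt_of_le_of_ne (not_lt.1 hlt) fun e => hij (Fin.ext e.symm))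
    have hd : z ^ ((j : ℕ) - i) • v = v := by
      have e : g * z ^ (i : ℕ) * z ^ ((j : ℕ) - i) = g * z ^ (j : ℕ) := by
        rw [mul_assoc, ← pow_add, Nat.add_sub_cancel' hlt.le]
      have hj'' := hj'
      rw [← e, mul_smul] at hj''
      exact smul_left_cancel _ (hj''.trans hi'.symm)
    refine hzfix v ?_
    have hco : ((j : ℕ) - i).Coprime (orderOf z) := by
      rw [hz]
      exact Nat.Coprime.symm (hℓ.out.coprime_iff_not_dvd.2 fun hd' => by
        have := Nat.le_of_dvd (by omega) hd'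
        have := j.2
        omega)
    obtain ⟨k, hk⟩ := exists_pow_eq_self_of_coprime hco
    have hz' := mem_fixV_zpowers.2 hd
    have h3 := hz' ((z ^ ((j : ℕ) - i)) ^ k) (Subgroup.pow_mem _ (Subgroup.mem_zpowers _) _)
    rwa [hk] at h3

end Cfsg.Lib.DerangeSqrt
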