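import Cfsg.Agent.Elementary.DerangementIndex
import Mathlib.GroupTheory.Sylow
import Mathlib.GroupTheory.Nilpotent
import Mathlib.Tactic

/-!
Orbits of subgroups supplementing the subgroup generated by the derangements, and the consequence
that each primary part of the degree is congruent to one modulo its index.
-/

set_option autoImplicit false

namespace Cfsg.Lib.DerangeSqrt

open MulAction Cfsg.Lib.DerangementIndex

variable {G Ω : Type*} [Group G] [Finite G] [MulAction G Ω] [FaithfulSMul G Ω] [Finite Ω]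
  [htrans : IsPretransitive G Ω]

local notation "D" => dergroup G Ω

omit [Finite G] [FaithfulSMul G Ω] [Finite Ω] htrans in
instance dergroup_normal : (dergroup G Ω).Normal := by
  constructor
  intro d hd g
  have hle : dergroup G Ω ≤ (dergroup G Ω).comap (MulAut.conj g).toMonoidHom := by
    refine (Subgroup.closure_le _).2 fun x hx => Subgroup.subset_closure fun ω e => hx (g⁻¹ • ω) ?_
    have e' : g • x • g⁻¹ • ω = ω := by
      rw [← mul_smul, ← mul_smul]
      exact e
    exact eq_inv_smul_iff.2 e'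
  exact hle hd

/-- A point whose stabiliser in `L` supplements the derangement subgroup. -/
def Good (L : Subgroup G) (β : Ω) : Prop := ∀ g : G, ∃ l ∈ L, l • β = β ∧ g⁻¹ * l ∈ D

omit [Finite G] [FaithfulSMul G Ω] [Finite Ω] htrans in
theorem Good.mono {L L' : Subgroup G} {β : Ω} (h : Good L β) (hle : L ≤ L') : Good L' β := fun g => by
  obtain ⟨l, hl, h⟩ := h g
  exact ⟨l, hle hl, h⟩

theorem exists_fixed {g : G} (hg : g ∉ D) : ∃ x : Ω, g • x = x := by
  by_contra h
  push Not at h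
  exact hg (Subgroup.subset_closure h)

/-- There is exactly one orbit of good points. -/
theorem exists_good (hm : D ≠ ⊤) (L : Subgroup G) (hL : ∀ g : G, ∃ l ∈ L, g⁻¹ * l ∈ D) :
    ∃ β : Ω, Good L β ∧ ∀ γ, Good L γ → ∃ l ∈ L, l • β = γ := by
  classical
  haveI := Fintype.ofFinite G
  haveI := Fintype.ofFinite Ω
  let S : Ω → Finset G := fun x => Finset.univ.filter fun g => g ∈ L ∧ g ∉ D ∧ g • x = x
  let O : Ω → Finset Ω := fun x => Finset.univ.filter fun y => ∃ l ∈ L, l • x = y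
  let T : Finset G := Finset.univ.filter fun g => g ∈ L ∧ g ∉ D
  have hconj : ∀ l ∈ L, ∀ g, g ∈ D → l * g * l⁻¹ ∈ D := fun l _ g hg => dergroup_normal.conj_mem g hg l
  have hS : ∀ x, ∀ y ∈ O x, (S y).card = (S x).card := by
    intro x y hy
    obtain ⟨l, hl, rfl⟩ := (Finset.mem_filter.1 hy).2
    refine Finset.card_nbij' (fun g => l⁻¹ * g * l) (fun g => l * g * l⁻¹) ?_ ?_ ?_ ?_
    · intro g hg
      obtain ⟨-, h1, h2, h3⟩ := Finset.mem_filter.1 hg
      refine Finset.mem_filter.2 ⟨Finset.mem_univ _, L.mul_mem (L.mul_mem (L.inv_mem hl) h1) hl,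
        fun h => h2 ?_, by rw [mul_smul, mul_smul, h3, inv_smul_smul]⟩
      simpa [mul_assoc] using hconj l hl _ h
    · intro g hg
      obtain ⟨-, h1, h2, h3⟩ := Finset.mem_filter.1 hg
      refine Finset.mem_filter.2 ⟨Finset.mem_univ _, L.mul_mem (L.mul_mem hl h1) (L.inv_mem hl),
        fun h => h2 ?_, by rw [mul_smul, mul_smul, inv_smul_smul, h3]⟩
      simpa [mul_assoc] using hconj l⁻¹ (L.inv_mem hl) _ h
    · intro g _; group
    · intro g _; group
  have hdisj : ∀ A : Finset Ω, (A.biUnion S).card = ∑ x ∈ A, (S x).card := fun A =>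
    Finset.card_biUnion fun x _ y _ hxy => Finset.disjoint_left.2 fun g hx hy =>
      hxy (fixed_unique (Finset.mem_filter.1 hx).2.2.1 (Finset.mem_filter.1 hx).2.2.2
        (Finset.mem_filter.1 hy).2.2.2)
  have hsub : ∀ A : Finset Ω, A.biUnion S ⊆ T := fun A g hg => by
    obtain ⟨x, -, hx⟩ := Finset.mem_biUnion.1 hg
    obtain ⟨-, h1, h2, -⟩ := Finset.mem_filter.1 hx
    exact Finset.mem_filter.2 ⟨Finset.mem_univ _, h1, h2⟩
  -- the orbit and the stabiliser
  have hLcard : ∀ x, (O x).card * Nat.card ↥(L ⊓ stabilizer G x) = Nat.card L := by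
    intro x
    rw [card_eq_orbit_mul L x]
    congr 1
    rw [← Set.ncard_coe_finset]
    congr 1
    ext y
    simp only [O, Finset.coe_filter, Finset.mem_univ, true_and, Set.mem_setOf_eq]
    exact ⟨fun ⟨l, hl, e⟩ => ⟨⟨l, hl⟩, e⟩, fun ⟨l, e⟩ => ⟨l, l.2, e⟩⟩
  have hScard : ∀ x, Nat.card ↥(L ⊓ stabilizer G x) =
      (S x).card + Nat.card ↥(L ⊓ stabilizer G x ⊓ D) := by
    intro x
    have key : ∀ K : Subgroup G, Nat.card K = (Finset.univ.filter fun g => g ∈ K).card := fun K => by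
      rw [Nat.card_eq_fintype_card, Fintype.card_subtype]
    rw [key, key, ← Finset.card_filter_add_card_filter_not (s := Finset.univ.filter fun g => g ∈ L ⊓ stabilizer G x)
      (fun g => g ∉ D)]
    congr 1 <;> congr 1 <;> ext g <;>
      simp [S, Subgroup.mem_inf, mem_stabilizer_iff, and_assoc, and_comm, and_left_comm]
  have hhalf : ∀ x, (S x).Nonempty → Nat.card L ≤ 2 * ((O x).biUnion S).card := by
    intro x hx
    rw [hdisj, Finset.sum_congr rfl (hS x), Finset.sum_const, smul_eq_mul, ← hLcard x]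
    obtain ⟨g, hg⟩ := hx
    obtain ⟨-, h1, h2, h3⟩ := Finset.mem_filter.1 hg
    have hle : Nat.card ↥(L ⊓ stabilizer G x ⊓ D) ≤ (S x).card := by
      have key : ∀ K : Subgroup G, Nat.card K = (Finset.univ.filter fun g => g ∈ K).card := fun K => by
        rw [Nat.card_eq_fintype_card, Fintype.card_subtype]
      rw [key]
      refine Finset.card_le_card_of_injOn (fun d => g * d) (fun d hd => ?_)
        (fun a _ b _ e => mul_left_cancel e)
      obtain ⟨⟨hdL, hdx⟩, hdD⟩ := (Finset.mem_filter.1 hd).2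
      refine Finset.mem_coe.2 (Finset.mem_filter.2 ⟨Finset.mem_univ _, L.mul_mem h1 hdL, fun h => h2 ?_, ?_⟩)
      · exact ((Subgroup.mul_mem_cancel_right _ hdD).1 h)
      · rw [mul_smul, show d • x = x from hdx, h3]
    rw [hScard x]
    nlinarith
  obtain ⟨g₀, hg₀L, hg₀⟩ : ∃ g ∈ L, g ∉ D := by
    by_contra h
    push Not at h
    refine hm (top_le_iff.1 fun g _ => ?_)
    obtain ⟨l, hl, e⟩ := hL g
    simpa using (dergroup G Ω).mul_mem (h l hl) ((dergroup G Ω).inv_mem e)
  obtain ⟨β, hβ⟩ := exists_fixed hg₀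
  have hTlt : T.card < Nat.card L := by
    rw [Nat.card_eq_fintype_card, Fintype.card_subtype]
    refine Finset.card_lt_card ⟨fun g hg => Finset.mem_filter.2 ⟨Finset.mem_univ _, (Finset.mem_filter.1 hg).2.1⟩,
      fun h => ?_⟩
    exact (Finset.mem_filter.1 (h (Finset.mem_filter.2 ⟨Finset.mem_univ _, L.one_mem⟩))).2.2 (one_mem _)
  have huniq : ∀ γ, (S γ).Nonempty → γ ∈ O β := by
    intro γ hγ
    by_contra hne
    have hd : Disjoint (O β) (O γ) := Finset.disjoint_left.2 fun y h1 h2 => hne <| by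
      obtain ⟨a, ha, e1⟩ := (Finset.mem_filter.1 h1).2
      obtain ⟨b, hb, e2⟩ := (Finset.mem_filter.1 h2).2
      exact Finset.mem_filter.2 ⟨Finset.mem_univ _, b⁻¹ * a, L.mul_mem (L.inv_mem hb) ha,
        by rw [mul_smul, e1, ← e2, inv_smul_smul]⟩
    have h1 := hhalf β ⟨g₀, Finset.mem_filter.2 ⟨Finset.mem_univ _, hg₀L, hg₀, hβ⟩⟩
    have h2 := hhalf γ hγ
    have h3 := Finset.card_le_card (hsub (O β ∪ O γ))
    rw [hdisj, Finset.sum_union hd, ← hdisj, ← hdisj] at h3
    omega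
  have hTeq : T = (O β).biUnion S := by
    refine Finset.Subset.antisymm (fun g hg => ?_) (hsub _)
    obtain ⟨h1, h2⟩ := (Finset.mem_filter.1 hg).2
    obtain ⟨x, hx⟩ := exists_fixed h2
    have hgx : g ∈ S x := Finset.mem_filter.2 ⟨Finset.mem_univ _, h1, h2, hx⟩
    exact Finset.mem_biUnion.2 ⟨x, huniq x ⟨g, hgx⟩, hgx⟩
  have hgood : Good L β := by
    intro g
    obtain ⟨l₁, hl₁, e₁⟩ := hL g
    have hcount : (O β).card * Nat.card ↥(L ⊓ stabilizer G β ⊓ D) = Nat.card ↥(L ⊓ D) := by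
      have h1 : T.card = (O β).card * (S β).card := by
        rw [hTeq, hdisj, Finset.sum_congr rfl (hS β), Finset.sum_const, smul_eq_mul]
      have h2 : Nat.card L = T.card + Nat.card ↥(L ⊓ D) := by
        have key : ∀ K : Subgroup G, Nat.card K = (Finset.univ.filter fun g => g ∈ K).card := fun K => by
          rw [Nat.card_eq_fintype_card, Fintype.card_subtype]
        rw [key, key, ← Finset.card_filter_add_card_filter_not (s := Finset.univ.filter fun g => g ∈ L)
          (fun g => g ∉ D)]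
        congr 1 <;> congr 1 <;> ext g <;> simp [T, Subgroup.mem_inf]
      have h3 := hLcard β
      rw [hScard β, mul_add, ← h1, h2] at h3
      omega
    have hLD := card_eq_orbit_mul (L ⊓ D) β
    have hinf : L ⊓ D ⊓ stabilizer G β = L ⊓ stabilizer G β ⊓ D := inf_right_comm _ _ _
    rw [hinf, ← hcount] at hLD
    have horb := (Nat.eq_of_mul_eq_mul_right Nat.card_pos hLD)
    have hsub' : orbit ↥(L ⊓ D) β ⊆ (O β : Set Ω) := by
      rintro _ ⟨d, rfl⟩
      exact Finset.mem_coe.2 (Finset.mem_filter.2 ⟨Finset.mem_univ _, d, d.2.1, rfl⟩)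
    have heq := Set.eq_of_subset_of_ncard_le hsub' (by rw [Set.ncard_coe_finset, horb])
    have hmem : l₁ • β ∈ orbit ↥(L ⊓ D) β := heq.symm ▸ Finset.mem_coe.2
      (Finset.mem_filter.2 ⟨Finset.mem_univ _, l₁, hl₁, rfl⟩)
    obtain ⟨d, hd⟩ := hmem
    change (d : G) • β = l₁ • β at hd
    refine ⟨(d : G)⁻¹ * l₁, L.mul_mem (L.inv_mem d.2.1) hl₁, by rw [mul_smul, ← hd, inv_smul_smul], ?_⟩
    have hn := dergroup_normal.conj_mem _ ((dergroup G Ω).inv_mem d.2.2) g⁻¹
    rw [inv_inv] at hn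
    simpa [mul_assoc] using (dergroup G Ω).mul_mem hn e₁
  refine ⟨β, hgood, fun γ hγ => ?_⟩
  obtain ⟨l, hl, hlγ, hlD⟩ := hγ g₀
  have hlnD : l ∉ D := fun h => hg₀ (by simpa using (dergroup G Ω).mul_mem h ((dergroup G Ω).inv_mem hlD))
  exact (Finset.mem_filter.1 (huniq γ ⟨l, Finset.mem_filter.2 ⟨Finset.mem_univ _, hl, hlnD, hlγ⟩⟩)).2

/-- An invariant set containing a good point has size congruent to one. -/
theorem index_dvd_of_good {L : Subgroup G} {β : Ω} (hgood : Good L β) {B : Set Ω} (hβ : β ∈ B)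
    (hB : ∀ l ∈ L, l • β = β → ∀ x ∈ B, l • x ∈ B) : (dergroup G Ω).index ∣ B.ncard - 1 := by
  rw [← Set.ncard_sdiff_singleton_of_mem hβ]
  set H := L ⊓ stabilizer G β with hH
  have hrel : (dergroup G Ω).relIndex H = (dergroup G Ω).index := by
    rw [← Subgroup.relIndex_sup_right, show H ⊔ dergroup G Ω = ⊤ from top_le_iff.1 fun g _ => ?_,
      Subgroup.relIndex_top_right]
    obtain ⟨l, hl, hlβ, hlD⟩ := hgood g
    have : g = l * (g⁻¹ * l)⁻¹ := by group
    rw [this]
    exact Subgroup.mul_mem_sup ⟨hl, hlβ⟩ ((dergroup G Ω).inv_mem hlD)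
  refine dvd_ncard_of_invariant (H := H) (fun h x hx => ⟨hB h h.2.1 h.2.2 x hx.1, fun e => hx.2 ?_⟩)
    fun x hx => ?_
  · exact smul_left_cancel (h : G) ((show (h : G) • x = β from e).trans h.2.2.symm)
  · rw [← hrel]
    refine Subgroup.index_dvd_of_le (H := stabilizer H x) fun h hh => ?_
    exact stabilizer_le_dergroup (fun e => hx.2 e.symm) h.2.2 hh

/-- A Frattini argument for a subgroup normalised by `L`. -/
theorem frattini {q : ℕ} [Fact q.Prime] {L M : Subgroup G} (hM : ∀ l ∈ L, ∀ x ∈ M, l * x * l⁻¹ ∈ M)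
    (P : Sylow q M) {l : G} (hl : l ∈ L) :
    ∃ d ∈ M, ∀ x : G, x ∈ (P : Subgroup M).map M.subtype ↔
      d * l * x * (d * l)⁻¹ ∈ (P : Subgroup M).map M.subtype := by
  let c : M →* M :=
    { toFun := fun x => ⟨l * x * l⁻¹, hM l hl x x.2⟩
      map_one' := Subtype.ext (by simp)
      map_mul' := fun a b => Subtype.ext (by simp [mul_assoc]) }
  have hc : Function.Injective c := fun a b h => Subtype.ext (by simpa [c] using congrArg Subtype.val h)
  have hcard : Nat.card ↥((P : Subgroup M).map c) = Nat.card (P : Subgroup M) :=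
    Nat.card_congr ((P : Subgroup M).equivMapOfInjective c hc).toEquiv.symm
  let P' : Sylow q M := Sylow.ofCard ((P : Subgroup M).map c) (hcard.trans P.card_eq_multiplicity)
  obtain ⟨d, hd⟩ := exists_smul_eq M P' P
  refine ⟨d, d.2, ?_⟩
  have hset : ((P : Subgroup M).map c).map (MulAut.conj d).toMonoidHom = (P : Subgroup M) := by
    exact congrArg (fun S : Sylow q M => (S : Subgroup M)) hd
  set R := (P : Subgroup M).map M.subtype with hR
  have hfwd : ∀ x ∈ R, d * l * x * (d * l : G)⁻¹ ∈ R := by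
    rintro _ ⟨x, hx, rfl⟩
    refine ⟨d * c x * d⁻¹, hset ▸ Subgroup.mem_map_of_mem _ (Subgroup.mem_map_of_mem c hx), ?_⟩
    simp [c, mul_assoc]
  intro x
  refine ⟨hfwd x, fun h => ?_⟩
  have hmap : R.map (MulAut.conj ((d : G) * l)).toMonoidHom = R :=
    Subgroup.eq_of_le_of_card_ge (by rintro _ ⟨y, hy, rfl⟩; exact hfwd y hy)
      (Nat.card_congr (R.equivMapOfInjective _ (MulAut.conj ((d : G) * l)).injective).toEquiv).le
  rw [← hmap] at h
  obtain ⟨y, hy, e⟩ := h
  have e' : ((d : G) * l) * y * ((d : G) * l)⁻¹ = (d : G) * l * x * ((d : G) * l)⁻¹ := e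
  rwa [← mul_left_cancel (mul_right_cancel e')]

theorem normalizer_conj_stab {Q : Subgroup G} {β : Ω} {l : G} (hl : l ∈ Subgroup.normalizer (Q : Set G)) :
    Nat.card ↥(Q ⊓ stabilizer G (l • β)) = Nat.card ↥(Q ⊓ stabilizer G β) := by
  refine Nat.card_congr
    ⟨fun x => ⟨l⁻¹ * x * l, ?_, ?_⟩, fun x => ⟨l * x * l⁻¹, ?_, ?_⟩, fun x => by ext; simp [mul_assoc],
      fun x => by ext; simp [mul_assoc]⟩
  · have := (Subgroup.mem_normalizer_iff.1 ((Subgroup.normalizer (Q : Set G)).inv_mem hl) (x : G)).1 x.2.1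
    simpa using this
  · show (l⁻¹ * (x : G) * l) • β = β
    rw [mul_smul, mul_smul, show (x : G) • l • β = l • β from x.2.2, inv_smul_smul]
  · exact (Subgroup.mem_normalizer_iff.1 hl _).1 x.2.1
  · show (l * (x : G) * l⁻¹) • l • β = l • β
    rw [mul_smul, mul_smul, inv_smul_smul, show (x : G) • β = β from x.2.2]

/-- A Sylow subgroup of the derangement subgroup with a good point in general position. -/
theorem exists_good_sylow (hm : D ≠ ⊤) (α : Ω) (q : ℕ) [hq : Fact q.Prime] :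
    ∃ (Q : Subgroup G) (β : Ω), Q ≤ D ∧
      Nat.card Q = q ^ (Nat.card ↥(dergroup G Ω)).factorization q ∧
      Good (Subgroup.normalizer (Q : Set G)) β ∧
      Nat.card ↥(Q ⊓ stabilizer G β) = q ^ (Nat.card ↥(D ⊓ stabilizer G α)).factorization q := by
  classical
  haveI := trans_dergroup (G := G) (Ω := Ω)
  haveI := Fintype.ofFinite (Subgroup G)
  set N := dergroup G Ω ⊓ stabilizer G α with hN
  set c := q ^ (Nat.card N).factorization q
  have hstab : ∀ g : G, ∃ s ∈ stabilizer G α, g⁻¹ * s ∈ D := fun g => by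
    obtain ⟨d, hd⟩ := exists_smul_eq (dergroup G Ω) (g • α) α
    refine ⟨(d : G) * g, by rw [mem_stabilizer_iff, mul_smul]; exact hd, ?_⟩
    simpa [mul_assoc] using dergroup_normal.conj_mem _ d.2 g⁻¹
  let P : Subgroup G → Prop := fun Q => Q ≤ D ∧ IsPGroup q Q ∧
    ∃ β : Ω, Good (Subgroup.normalizer (Q : Set G)) β ∧ Nat.card ↥(Q ⊓ stabilizer G β) = c
  have hbase : ∃ Q, P Q := by
    obtain ⟨R⟩ : Nonempty (Sylow q N) := inferInstance
    have hRN : (R : Subgroup N).map N.subtype ≤ N := Subgroup.map_subtype_le _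
    refine ⟨(R : Subgroup N).map N.subtype, fun x hx => (hRN hx).1, R.2.map _, α,
      fun g => ?_, ?_⟩
    · obtain ⟨s, hs, hsD⟩ := hstab g
      obtain ⟨d, hd, hdR⟩ := frattini (L := stabilizer G α) (M := N) (fun l hl x hx =>
        ⟨dergroup_normal.conj_mem _ hx.1 l, (stabilizer G α).mul_mem ((stabilizer G α).mul_mem hl hx.2)
          ((stabilizer G α).inv_mem hl)⟩) R hs
      refine ⟨d * s, Subgroup.mem_normalizer_iff.2 hdR, ?_, ?_⟩
      · rw [mul_smul, show s • α = α from hs, show d • α = α from hd.2]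
      · have hn := dergroup_normal.conj_mem _ hd.1 g⁻¹
        simpa [mul_assoc] using (dergroup G Ω).mul_mem hn hsD
    · rw [inf_eq_left.2 (hRN.trans inf_le_right), Subgroup.card_subtype,
        R.card_eq_multiplicity]
  obtain ⟨Q, hQmem, hmax⟩ := Finset.exists_max_image
    (Finset.univ.filter P) (fun Q : Subgroup G => Nat.card Q)
    (by obtain ⟨Q, hQ⟩ := hbase; exact ⟨Q, Finset.mem_filter.2 ⟨Finset.mem_univ _, hQ⟩⟩)
  obtain ⟨hQD, hQp, β, hgood, hcard⟩ := (Finset.mem_filter.1 hQmem).2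
  refine ⟨Q, β, hQD, ?_, hgood, hcard⟩
  by_contra hne
  set L := Subgroup.normalizer (Q : Set G) with hL
  have hQK : IsPGroup q (Q.subgroupOf (dergroup G Ω)) :=
    hQp.comap_of_injective _ (dergroup G Ω).subtype_injective
  obtain ⟨S, hS⟩ := hQK.exists_le_sylow
  haveI : Group.IsNilpotent S := S.2.isNilpotent
  set S' := (S : Subgroup (dergroup G Ω)).map (dergroup G Ω).subtype with hS'
  have hQS : Q ≤ S' := fun x hx => ⟨⟨x, hQD hx⟩, hS hx, rfl⟩
  have hQlt : Nat.card Q < Nat.card S' := by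
    refine lt_of_le_of_ne (Subgroup.card_le_of_le hQS) fun e => hne (e.trans ?_)
    rw [hS', Subgroup.card_subtype, S.card_eq_multiplicity]
  set M := L ⊓ dergroup G Ω with hM
  obtain ⟨R⟩ : Nonempty (Sylow q M) := inferInstance
  have hQM : Q ≤ M := le_inf Subgroup.le_normalizer hQD
  haveI hQn : (Q.subgroupOf M).Normal := Subgroup.normal_subgroupOf_iff hQM |>.2
    fun x g hx hg => (Subgroup.mem_normalizer_iff.1 hg.1 x).1 hx
  have hQR : Q.subgroupOf M ≤ R :=
    IsPGroup.le_sylow_of_normal (N := Q.subgroupOf M) (hQp.comap_of_injective M.subtype M.subtype_injective) R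
  set R' := (R : Subgroup M).map M.subtype with hR'
  have hQR' : Q ≤ R' := fun x hx => ⟨⟨x, hQM hx⟩, hQR hx, rfl⟩
  have hlt : Nat.card Q < Nat.card R' := by
    set T := Q.subgroupOf S'
    haveI : Group.IsNilpotent S' := (S.2.map _).isNilpotent
    have hTtop : T < ⊤ := lt_top_iff_ne_top.2 fun e => absurd
      ((Subgroup.card_le_of_le (Subgroup.subgroupOf_eq_top.1 e))) (not_le.2 hQlt)
    have hgrow := Group.normalizerCondition_of_isNilpotent T hTtop
    obtain ⟨x, hxN, hxT⟩ := SetLike.exists_of_lt hgrow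
    set U := (Subgroup.normalizer (T : Set S')).map S'.subtype
    have hUM : U ≤ M := by
      rintro _ ⟨y, hy, rfl⟩
      refine ⟨Subgroup.mem_normalizer_iff.2 fun z => ?_, Subgroup.map_subtype_le _ y.2⟩
      constructor
      · intro hz
        exact (Subgroup.mem_normalizer_iff.1 hy ⟨z, hQS hz⟩).1 hz
      · intro hz
        have hy' : (S'.subtype y) ∈ S' := y.2
        have hzS : z ∈ S' := by
          have := S'.mul_mem (S'.mul_mem (S'.inv_mem hy') (hQS hz)) hy'
          simpa [mul_assoc] using this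
        exact (Subgroup.mem_normalizer_iff.1 hy ⟨z, hzS⟩).2 hz
    have hUp : IsPGroup q U := (S.2.map _).to_le (Subgroup.map_subtype_le _)
    obtain ⟨R₂, hR₂⟩ := (hUp.comap_of_injective M.subtype M.subtype_injective).exists_le_sylow
    have hUR : Nat.card U ≤ Nat.card R' := by
      rw [show Nat.card R' = Nat.card (R : Subgroup M) from Subgroup.card_subtype _ _,
        R.card_eq_multiplicity, ← R₂.card_eq_multiplicity,
        ← Nat.card_congr (Subgroup.subgroupOfEquivOfLe hUM).toEquiv]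
      exact Subgroup.card_le_of_le hR₂
    refine lt_of_lt_of_le ?_ hUR
    refine (lt_of_le_of_ne (Subgroup.card_le_of_le ?_) fun e => ?_)
    · intro z hz
      exact ⟨⟨z, hQS hz⟩, Subgroup.le_normalizer (by exact hz), rfl⟩
    · have hle : Q ≤ U := fun z hz => ⟨⟨z, hQS hz⟩, Subgroup.le_normalizer (by exact hz), rfl⟩
      have hxU : (x : G) ∈ U := ⟨x, hxN, rfl⟩
      rw [← Subgroup.eq_of_le_of_card_ge hle e.ge] at hxU
      exact hxT hxU
  set L' := L ⊓ Subgroup.normalizer (R' : Set G) with hL'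
  have hcover : ∀ g : G, ∃ l ∈ L', g⁻¹ * l ∈ D := fun g => by
    obtain ⟨l, hl, -, hlD⟩ := hgood g
    obtain ⟨d, hd, hdR⟩ := frattini (L := L) (M := M) (fun l hl x hx =>
      ⟨L.mul_mem (L.mul_mem hl hx.1) (L.inv_mem hl), dergroup_normal.conj_mem _ hx.2 l⟩) R hl
    refine ⟨d * l, ⟨L.mul_mem hd.1 hl, Subgroup.mem_normalizer_iff.2 hdR⟩, ?_⟩
    have hn := dergroup_normal.conj_mem _ hd.2 g⁻¹
    simpa [mul_assoc] using (dergroup G Ω).mul_mem hn hlD
  obtain ⟨γ, hγ, -⟩ := exists_good hm L' hcover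
  obtain ⟨β₀, -, huniq⟩ := exists_good hm L (fun g => by obtain ⟨l, hl, -, h⟩ := hgood g; exact ⟨l, hl, h⟩)
  obtain ⟨a, ha, ea⟩ := huniq β hgood
  obtain ⟨b, hb, eb⟩ := huniq γ (hγ.mono inf_le_left)
  have hQγ : Nat.card ↥(Q ⊓ stabilizer G γ) = c := by
    rw [← eb, normalizer_conj_stab hb, ← normalizer_conj_stab ha, ea, hcard]
  have hR'D : R' ≤ D := fun x hx => (Subgroup.map_subtype_le _ hx).2
  refine absurd (hmax R' (Finset.mem_filter.2 ⟨Finset.mem_univ _, hR'D, R.2.map _, γ, hγ.mono inf_le_right, ?_⟩))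
    (not_le.2 hlt)
  apply le_antisymm
  · have hp : IsPGroup q ↥(R' ⊓ stabilizer G γ) := (R.2.map _).to_le inf_le_left
    obtain ⟨k, hk⟩ := IsPGroup.iff_card.1 hp
    have hγN : Nat.card ↥(dergroup G Ω ⊓ stabilizer G γ) = Nat.card N := by
      have e : ∀ x : Ω, Nat.card (dergroup G Ω) = Nat.card Ω * Nat.card ↥(dergroup G Ω ⊓ stabilizer G x) :=
        fun x => by rw [card_eq_orbit_mul (dergroup G Ω) x, orbit_eq_univ, Set.ncard_univ]
      haveI : Nonempty Ω := ⟨α⟩
      exact Nat.eq_of_mul_eq_mul_left Nat.card_pos ((e γ).symm.trans (e α))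
    have hdvd : Nat.card ↥(R' ⊓ stabilizer G γ) ∣ Nat.card N :=
      hγN ▸ Subgroup.card_dvd_of_le (inf_le_inf_right _ hR'D)
    rw [hk] at hdvd ⊢
    exact Nat.pow_le_pow_right hq.out.pos
      ((hq.out.pow_dvd_iff_le_factorization Nat.card_pos.ne').1 hdvd)
  · rw [← hQγ]
    exact Subgroup.card_le_of_le (inf_le_inf_right _ hQR')

/-- The primary parts of the degree are one modulo the index; the prime power case reduces to an
abelian regular Sylow subgroup. -/
theorem reduce (hm : D ≠ ⊤) (hΩ : 2 ≤ Nat.card Ω) :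
    ((dergroup G Ω).index + 1) ^ 2 ≤ Nat.card Ω ∨
    ∃ (q : ℕ) (Q : Subgroup G) (β : Ω), q.Prime ∧ Q ≤ D ∧ IsPGroup q Q ∧
      (∀ a ∈ Q, ∀ b ∈ Q, a * b = b * a) ∧ (∀ x : Ω, ∃ a ∈ Q, a • β = x) ∧
      (∀ a ∈ Q, a • β = β → a = 1) ∧ Good (Subgroup.normalizer (Q : Set G)) β ∧
      Nat.card Q = q ^ (Nat.card ↥(dergroup G Ω)).factorization q ∧
      ¬ q ∣ Nat.card ↥(D ⊓ stabilizer G β) := by
  classical
  haveI : Nonempty Ω := (Nat.card_pos_iff.mp (by omega : 0 < Nat.card Ω)).1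
  obtain ⟨α⟩ := (inferInstance : Nonempty Ω)
  haveI := trans_dergroup (G := G) (Ω := Ω)
  set m := (dergroup G Ω).index
  set n := Nat.card Ω
  have hn0 : 0 < n := by omega
  have hcardD : ∀ x : Ω, Nat.card (dergroup G Ω) = n * Nat.card ↥(dergroup G Ω ⊓ stabilizer G x) :=
    fun x => by rw [card_eq_orbit_mul (dergroup G Ω) x, orbit_eq_univ, Set.ncard_univ]
  have hpart : ∀ q : ℕ, q.Prime → ∃ (Q : Subgroup G) (β : Ω), Q ≤ D ∧ IsPGroup q Q ∧
      Nat.card Q = q ^ (Nat.card ↥(dergroup G Ω)).factorization q ∧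
      Good (Subgroup.normalizer (Q : Set G)) β ∧
      Nat.card ↥(Q ⊓ stabilizer G β) = q ^ (Nat.card ↥(D ⊓ stabilizer G α)).factorization q ∧
      (orbit Q β).ncard = q ^ n.factorization q ∧ m ∣ q ^ n.factorization q - 1 := by
    intro q hq
    haveI : Fact q.Prime := ⟨hq⟩
    obtain ⟨Q, β, hQD, hQc, hgood, hQβ⟩ := exists_good_sylow hm α q
    have horb : (orbit Q β).ncard = q ^ n.factorization q := by
      have h1 := card_eq_orbit_mul Q β
      rw [hQc, hQβ, hcardD α, Nat.factorization_mul hn0.ne' Nat.card_pos.ne', Finsupp.add_apply,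
        pow_add] at h1
      exact (Nat.eq_of_mul_eq_mul_right (pow_pos hq.pos _) h1).symm
    refine ⟨Q, β, hQD, IsPGroup.of_card hQc, hQc, hgood, hQβ, horb, horb ▸ ?_⟩
    refine index_dvd_of_good hgood (mem_orbit_self β) fun l hl hlβ x hx => ?_
    obtain ⟨a, rfl⟩ := hx
    refine ⟨⟨l * a * l⁻¹, (Subgroup.mem_normalizer_iff.1 hl _).1 a.2⟩, ?_⟩
    show (l * (a : G) * l⁻¹) • β = l • ((a : G) • β)
    rw [mul_smul, mul_smul, inv_smul_eq_iff.2 hlβ.symm]
  have hge : ∀ q ∈ n.primeFactors, m + 1 ≤ q ^ n.factorization q := by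
    intro q hq
    obtain ⟨-, -, -, -, -, -, -, -, hd⟩ := hpart q (Nat.prime_of_mem_primeFactors hq)
    have h2 : 2 ≤ q ^ n.factorization q := le_trans (Nat.prime_of_mem_primeFactors hq).two_le
      (Nat.le_self_pow ((Nat.prime_of_mem_primeFactors hq).factorization_pos_of_dvd hn0.ne'
        (Nat.dvd_of_mem_primeFactors hq)).ne' q)
    have := Nat.le_of_dvd (by omega) hd
    omega
  by_cases hpp : ∃ q ∈ n.primeFactors, ∃ r ∈ n.primeFactors, q ≠ r
  · obtain ⟨q, hq, r, hr, hne⟩ := hpp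
    left
    rw [pow_two]
    refine (Nat.mul_le_mul (hge q hq) (hge r hr)).trans (Nat.le_of_dvd hn0 ?_)
    refine (Nat.Coprime.pow _ _ ?_).mul_dvd_of_dvd_of_dvd (Nat.ordProj_dvd n q) (Nat.ordProj_dvd n r)
    exact (Nat.coprime_primes (Nat.prime_of_mem_primeFactors hq) (Nat.prime_of_mem_primeFactors hr)).2 hne
  push Not at hpp
  obtain ⟨q, hq⟩ := (Nat.nonempty_primeFactors.2 (show 1 < n by omega))
  have hq' := Nat.prime_of_mem_primeFactors hq
  haveI : Fact q.Prime := ⟨hq'⟩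
  have hqn : q ^ n.factorization q = n := by
    conv_rhs => rw [← Nat.prod_factorization_pow_eq_self hn0.ne']
    rw [Finsupp.prod, Nat.support_factorization,
      Finset.prod_eq_single q (fun r hr hne => absurd (hpp r hr q hq) hne) (fun h => absurd hq h)]
  obtain ⟨Q, β, hQD, hQp, hQc, hgood, hQβ, horb, -⟩ := hpart q hq'
  have htr : ∀ x : Ω, ∃ a ∈ Q, a • β = x := fun x => by
    have hu : orbit Q β = Set.univ := by
      refine (Set.eq_univ_iff_ncard _).2 (horb.trans hqn)
    obtain ⟨a, ha⟩ := (hu.symm ▸ Set.mem_univ x : x ∈ orbit Q β)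
    exact ⟨a, a.2, ha⟩
  have hcent : ∀ z ∈ Q, (∀ a ∈ Q, a * z = z * a) → z • β = β → z = 1 := fun z hz hzc hzβ => by
    refine eq_of_smul_eq_smul fun x : Ω => ?_
    obtain ⟨a, ha, rfl⟩ := htr x
    rw [one_smul, ← mul_smul, ← hzc a ha, mul_smul, hzβ]
  set Z : Subgroup G := Q ⊓ Subgroup.centralizer (Q : Set G) with hZ
  have hZreg : Nat.card Z = (orbit Z β).ncard := by
    rw [card_eq_orbit_mul Z β]
    have : Nat.card ↥(Z ⊓ stabilizer G β) = 1 := by
      rw [Subgroup.card_eq_one, eq_bot_iff]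
      rintro z ⟨⟨hz, hzc⟩, hzs⟩
      exact hcent z hz (fun a ha => Subgroup.mem_centralizer_iff.1 hzc a ha) hzs
    rw [this, mul_one]
  have hZdvd : m ∣ Nat.card Z - 1 := by
    rw [hZreg]
    refine index_dvd_of_good hgood (mem_orbit_self β) fun l hl hlβ x hx => ?_
    obtain ⟨a, rfl⟩ := hx
    have hla : l * (a : G) * l⁻¹ ∈ Z := by
      refine ⟨(Subgroup.mem_normalizer_iff.1 hl _).1 a.2.1, Subgroup.mem_centralizer_iff.2 fun b hb => ?_⟩
      have hb' : l⁻¹ * b * l ∈ Q := by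
        simpa using (Subgroup.mem_normalizer_iff.1 ((Subgroup.normalizer (Q : Set G)).inv_mem hl) b).1 hb
      have := Subgroup.mem_centralizer_iff.1 a.2.2 _ hb'
      calc b * (l * (a : G) * l⁻¹) = l * (l⁻¹ * b * l * a) * l⁻¹ := by group
        _ = l * (a * (l⁻¹ * b * l)) * l⁻¹ := by rw [this]
        _ = l * (a : G) * l⁻¹ * b := by group
    refine ⟨⟨_, hla⟩, ?_⟩
    show (l * (a : G) * l⁻¹) • β = l • ((a : G) • β)
    rw [mul_smul, mul_smul, inv_smul_eq_iff.2 hlβ.symm]
  haveI : Nontrivial Q := by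
    obtain ⟨x, hx⟩ : ∃ x : Ω, x ≠ β := by
      haveI : Nontrivial Ω := Finite.one_lt_card_iff_nontrivial.1 (by omega)
      exact exists_ne β
    obtain ⟨a, ha, e⟩ := htr x
    exact ⟨⟨a, ha⟩, 1, fun h => hx (by rw [← e, show a = 1 from congrArg Subtype.val h, one_smul])⟩
  have hZ2 : 2 ≤ Nat.card Z := by
    haveI := hQp.center_nontrivial
    obtain ⟨z, hz⟩ := exists_ne (1 : Subgroup.center Q)
    have hzZ : ((z : Q) : G) ∈ Z := ⟨(z : Q).2, Subgroup.mem_centralizer_iff.2 fun b hb =>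
      congrArg Subtype.val (Subgroup.mem_center_iff.1 z.2 ⟨b, hb⟩)⟩
    haveI : Nontrivial Z := ⟨⟨_, hzZ⟩, 1, fun h => hz (Subtype.ext (Subtype.ext
      (congrArg (fun w : Z => (w : G)) h)))⟩
    exact Finite.one_lt_card
  have hZle : Nat.card Z ≤ n := hZreg ▸ Set.ncard_le_card _
  rcases hZle.lt_or_eq with hlt | heq
  · left
    obtain ⟨i, hi⟩ := IsPGroup.iff_card.1 (hQp.to_le (show Z ≤ Q from inf_le_left))
    have hna : i < n.factorization q := (Nat.pow_lt_pow_iff_right hq'.one_lt).1 (by rw [← hi, hqn]; exact hlt)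
    obtain ⟨j, hj⟩ : ∃ j, n.factorization q = i + j := ⟨_, (Nat.add_sub_cancel' hna.le).symm⟩
    obtain ⟨-, -, -, -, -, -, -, -, hd⟩ := hpart q hq'
    have hqj : m ∣ q ^ j - 1 := by
      rw [hj, pow_add, ← hi] at hd
      have h1 : m ∣ Nat.card Z * q ^ j - 1 - (Nat.card Z - 1) * q ^ j :=
        Nat.dvd_sub hd (hZdvd.mul_right _)
      have e : Nat.card Z * q ^ j - 1 - (Nat.card Z - 1) * q ^ j = q ^ j - 1 := by
        have := Nat.mul_le_mul_right (q ^ j) (show 1 ≤ Nat.card Z by omega)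
        rw [Nat.sub_mul]
        omega
      rwa [e] at h1
    have h2 : 2 ≤ q ^ j := le_trans hq'.two_le (Nat.le_self_pow (by omega) q)
    have h3 := Nat.le_of_dvd (by omega) hqj
    have h4 := Nat.le_of_dvd (by omega) hZdvd
    calc (m + 1) ^ 2 ≤ Nat.card Z * q ^ j := by rw [pow_two]; exact Nat.mul_le_mul (by omega) (by omega)
      _ = n := by rw [hi, ← pow_add, ← hj, hqn]
  · right
    have hu : orbit Z β = Set.univ := (Set.eq_univ_iff_ncard _).2 (hZreg.symm.trans heq)
    have hreg : ∀ a ∈ Q, a • β = β → a = 1 := fun a ha haβ => by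
      refine eq_of_smul_eq_smul fun x : Ω => ?_
      obtain ⟨z, rfl⟩ := (hu.symm ▸ Set.mem_univ x : x ∈ orbit Z β)
      show a • (z : G) • β = (1 : G) • (z : G) • β
      rw [one_smul, ← mul_smul, Subgroup.mem_centralizer_iff.1 z.2.2 a ha, mul_smul, haβ]
    have hQn : Nat.card Q = Nat.card Z := by
      rw [card_eq_orbit_mul Q β, horb, hqn, heq]
      have : Nat.card ↥(Q ⊓ stabilizer G β) = 1 := by
        rw [Subgroup.card_eq_one, eq_bot_iff]
        rintro a ⟨ha, has⟩
        exact hreg a ha has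
      rw [this, mul_one]
    have hQZ : Z = Q := Subgroup.eq_of_le_of_card_ge inf_le_left hQn.le
    refine ⟨q, Q, β, hq', hQD, hQp, fun a ha b hb => ?_, htr, hreg, hgood, hQc, ?_⟩
    · exact Subgroup.mem_centralizer_iff.1 (hQZ.symm ▸ hb : b ∈ Z).2 a ha
    · intro hdvd
      have e := hcardD β
      have h1 : q ^ n.factorization q * q ∣ Nat.card (dergroup G Ω) := by
        rw [e, hqn]; exact Nat.mul_dvd_mul_left n hdvd
      rw [← pow_succ, hq'.pow_dvd_iff_le_factorization Nat.card_pos.ne'] at h1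
      have h2 : Nat.card Q = q ^ n.factorization q := by rw [hQn, heq, hqn]
      rw [hQc] at h2
      have := Nat.pow_right_injective hq'.two_le h2
      omega

end Cfsg.Lib.DerangeSqrt
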