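import Cfsg.Agent.DerangeSqrt.Quadratic
import Mathlib.GroupTheory.PGroup
import Mathlib.Algebra.BigOperators.Intervals

/-!
The bound when the acting two-group has centre of order two and squares in the centre.
-/

set_option autoImplicit false

namespace Cfsg.Lib.DerangeSqrt

open scoped Classical

variable {K V : Type*} [Group K] [Finite K] [CommGroup V] [Finite V] [MulDistribMulAction K V]

/-- Adjoining an involution that centralises a subgroup. -/
def addInvol (E : Subgroup K) (c : K) (hc : c * c = 1) (hcomm : ∀ e ∈ E, e * c = c * e) : Subgroup K where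
  carrier := {x | x ∈ E ∨ x * c ∈ E}
  one_mem' := Or.inl E.one_mem
  mul_mem' := by
    intro x y hx hy
    rcases hx with hx | hx <;> rcases hy with hy | hy
    · exact Or.inl (E.mul_mem hx hy)
    · exact Or.inr (by simpa [mul_assoc] using E.mul_mem hx hy)
    · refine Or.inr ?_
      have := E.mul_mem hx hy
      rwa [mul_assoc, ← hcomm y hy, ← mul_assoc] at this
    · refine Or.inl ?_
      have := E.mul_mem hx hy
      rw [mul_assoc, ← hcomm (y * c) hy] at this
      have e : x * (y * c * c) = x * y := by rw [mul_assoc y, hc, mul_one]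
      rwa [e] at this
  inv_mem' := by
    intro x hx
    rcases hx with hx | hx
    · exact Or.inl (E.inv_mem hx)
    · have hi := E.inv_mem hx
      have h := hcomm _ hi
      refine Or.inr ?_
      have e : x⁻¹ = c * (x * c)⁻¹ := by group
      rw [e, mul_assoc, h, ← mul_assoc, hc, one_mul]
      exact hi

omit [Finite K] in
theorem mem_addInvol {E : Subgroup K} {c : K} {hc : c * c = 1} {hcomm : ∀ e ∈ E, e * c = c * e} {x : K} :
    x ∈ addInvol E c hc hcomm ↔ x ∈ E ∨ x * c ∈ E := Iff.rfl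

omit [Finite K] in
theorem sq_addInvol {E : Subgroup K} {c : K} (hc : c * c = 1) (hcomm : ∀ e ∈ E, e * c = c * e)
    (hE : ∀ e ∈ E, e * e = 1) : ∀ x ∈ addInvol E c hc hcomm, x * x = 1 := by
  rintro x (hx | hx)
  · exact hE x hx
  · have e : x = x * c * c := by rw [mul_assoc, hc, mul_one]
    have h1 := hE _ hx
    rw [e]
    calc x * c * c * (x * c * c) = x * c * (c * (x * c)) * c := by group
      _ = x * c * (x * c * c) * c := by rw [← hcomm _ hx]
      _ = (x * c * (x * c)) * (c * c) := by group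
      _ = 1 := by rw [h1, hc, mul_one]

theorem card_addInvol {E : Subgroup K} {c : K} (hc : c * c = 1) (hcomm : ∀ e ∈ E, e * c = c * e)
    (hcE : c ∉ E) : Nat.card ↥(addInvol E c hc hcomm) = 2 * Nat.card E := by
  haveI := Fintype.ofFinite K
  have key : ∀ G' : Subgroup K, Nat.card G' = (Finset.univ.filter (· ∈ G')).card := fun G' => by
    rw [Nat.card_eq_fintype_card, Fintype.card_subtype]
  rw [key, key, two_mul]
  nth_rw 2 [← Finset.card_image_of_injective (Finset.univ.filter (· ∈ E)) (mul_left_injective c)]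
  rw [← Finset.card_union_of_disjoint]
  · congr 1
    ext x
    simp only [Finset.mem_filter, Finset.mem_univ, true_and, Finset.mem_union, Finset.mem_image, mem_addInvol]
    constructor
    · rintro (hx | hx)
      · exact Or.inl hx
      · exact Or.inr ⟨x * c, hx, by rw [mul_assoc, hc, mul_one]⟩
    · rintro (hx | ⟨e, he, rfl⟩)
      · exact Or.inl hx
      · exact Or.inr (by rwa [mul_assoc, hc, mul_one])
  · refine Finset.disjoint_left.2 fun x hx hx' => hcE ?_
    obtain ⟨e, he, rfl⟩ := Finset.mem_image.1 hx'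
    exact (E.mul_mem_cancel_left (Finset.mem_filter.1 he).2).1 (Finset.mem_filter.1 hx).2

/-- The product bounding the number of points with maximal stabiliser. -/
def chainProd : ℕ → ℕ
  | 0 => 1
  | d + 1 => (2 ^ (d + 1) + 2) * chainProd d

theorem chainProd_bound {k y : ℕ} (hk : 1 ≤ k) (hy : 2 ≤ y) :
    chainProd k * (y - 1) + 2 ^ (k + 1) ≤ 2 ^ (k + 1) * y ^ 2 ^ (k - 1) := by
  obtain ⟨a, rfl⟩ : ∃ a, y = a + 1 := ⟨y - 1, by omega⟩
  simp only [Nat.add_sub_cancel]
  induction k, hk using Nat.le_induction with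
  | base => simp [chainProd]; omega
  | succ k hk ih =>
    obtain ⟨j, rfl⟩ : ∃ j, k = j + 1 := ⟨k - 1, by omega⟩
    simp only [Nat.add_sub_cancel] at ih ⊢
    set Y := (a + 1) ^ 2 ^ j
    have hY : 2 ^ (j + 1) ≤ Y := le_trans (Nat.pow_le_pow_right (by omega) Nat.lt_two_pow_self)
      (Nat.pow_le_pow_left (by omega) _)
    obtain ⟨b, hb⟩ : ∃ b, Y = b + 1 := ⟨Y - 1, by have := Nat.one_le_two_pow (n := j + 1); omega⟩
    have hsq : (a + 1) ^ 2 ^ (j + 1) = Y * Y := by rw [pow_succ 2 j, pow_mul, pow_two]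
    rw [hsq, chainProd]
    have ih' : chainProd (j + 1) * a ≤ 2 ^ (j + 1 + 1) * b := by
      have : 2 ^ (j + 1 + 1) * Y = 2 ^ (j + 1 + 1) * b + 2 ^ (j + 1 + 1) := by rw [hb]; ring
      omega
    have h1 : 2 ^ (j + 1) + 1 ≤ b + 2 := by omega
    calc (2 ^ (j + 1 + 1) + 2) * chainProd (j + 1) * a + 2 ^ (j + 1 + 1 + 1)
        = (2 ^ (j + 1 + 1) + 2) * (chainProd (j + 1) * a) + 2 ^ (j + 1 + 1 + 1) := by ring
      _ ≤ (2 ^ (j + 1 + 1) + 2) * (2 ^ (j + 1 + 1) * b) + 2 ^ (j + 1 + 1 + 1) := by gcongr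
      _ = 2 ^ (j + 1 + 1 + 1) * ((2 ^ (j + 1) + 1) * b + 1) := by ring
      _ ≤ 2 ^ (j + 1 + 1 + 1) * ((b + 2) * b + 1) := by gcongr
      _ = 2 ^ (j + 1 + 1 + 1) * (Y * Y) := by rw [hb]; ring

variable {W : Subgroup K} [hW : W.Normal]

set_option maxHeartbeats 1600000 in
/-- The bound. -/
theorem quad_bound (hfpf : ∀ y : K, y ∉ W → ∀ v : V, y • v = v → v = 1)
    (hcop : (Nat.card W).Coprime (Nat.card V)) {L C : Subgroup K}
    (hcov : ∀ g : K, ∃ l ∈ L, g⁻¹ * l ∈ W) (hCW : C ≤ W) (hCL : C ≤ L)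
    (hnorm : ∀ l ∈ L, ∀ r ∈ C, l * r * l⁻¹ ∈ C) (h2 : IsPGroup 2 C) {z : K} (h : QSet C z)
    (hzfix : ∀ v : V, z • v = v → v = 1) (hex : ∃ g ∈ C, g ≠ 1 ∧ ∃ v : V, v ≠ 1 ∧ g • v = v) :
    (W.index + 1) ^ 2 ≤ Nat.card V := by
  haveI := Fintype.ofFinite K
  haveI := Fintype.ofFinite V
  have hzz := h.zz
  have hzord : orderOf z = 2 := orderOf_eq_prime (by rw [pow_two]; exact hzz) h.z_ne
  have key : ∀ G' : Subgroup K, Nat.card G' = (Finset.univ.filter (· ∈ G')).card := fun G' => by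
    rw [Nat.card_eq_fintype_card, Fintype.card_subtype]
  -- the order of C and the sum of signs
  obtain ⟨j₀, hj₀⟩ := IsPGroup.iff_card.1 h2
  set S := ∑ x ∈ Finset.univ.filter (· ∈ C), sgn x with hS
  have hS2 : S.natAbs ^ 2 = 2 ^ (j₀ + 1) := by
    have e := congrArg Int.natAbs (sum_sgn_sq h)
    rw [← hS, Int.natAbs_pow, Int.natAbs_mul, Int.natAbs_natCast, hj₀] at e
    rw [e, pow_succ]
    simp [mul_comm]
  obtain ⟨i, -, hi⟩ := (Nat.dvd_prime_pow Nat.prime_two).1
    (hS2 ▸ dvd_pow_self S.natAbs two_ne_zero : S.natAbs ∣ 2 ^ (j₀ + 1))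
  have hij : 2 * i = j₀ + 1 := by
    rw [hi, ← pow_mul] at hS2
    have := Nat.pow_right_injective (le_refl 2) hS2
    omega
  obtain ⟨k, rfl⟩ : ∃ k, i = k + 1 := ⟨i - 1, by omega⟩
  have hcardC : Nat.card C = 2 ^ (2 * k + 1) := by rw [hj₀]; congr 1; omega
  -- the fixed elements
  have hfixsq : ∀ c ∈ C, ∀ v : V, v ≠ 1 → c • v = v → c * c = 1 := by
    intro c hc v hv hcv
    refine (h.sq c hc).resolve_right fun e => hv (hzfix v ?_)
    rw [← e, mul_smul, hcv, hcv]
  obtain ⟨g₀, hg₀C, hg₀1, v₀, hv₀, hg₀v⟩ := hex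
  have hg₀z : g₀ ≠ z := fun e => hv₀ (hzfix _ (e ▸ hg₀v))
  have hconjC : ∀ l ∈ L, l * z * l⁻¹ = z := by
    intro l hl
    have hzc : ∀ c ∈ C, c * (l * z * l⁻¹) = l * z * l⁻¹ * c := by
      intro c hc
      have hc' : l⁻¹ * c * l ∈ C := by simpa using hnorm l⁻¹ (L.inv_mem hl) c hc
      calc c * (l * z * l⁻¹) = l * (l⁻¹ * c * l * z) * l⁻¹ := by group
        _ = l * (z * (l⁻¹ * c * l)) * l⁻¹ := by rw [h.zcomm _ hc']
        _ = l * z * l⁻¹ * c := by group
    by_contra hne
    by_cases h1 : l * z * l⁻¹ = 1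
    · exact h.z_ne (conj_eq_one_iff.1 h1)
    obtain ⟨d, hd, hne'⟩ := h.nondeg _ (hnorm l hl z h.zC) h1 hne
    exact hne' (hzc d hd)
  -- bound for one involution
  have hcopC : (Nat.card C).Coprime (Nat.card V) :=
    Nat.Coprime.coprime_dvd_left (Subgroup.card_dvd_of_le hCW) hcop
  have hone : ∀ g ∈ C, g ≠ 1 → g ≠ z → g * g = 1 →
      Nat.card (fixV V (Subgroup.zpowers g)) ^ 2 ≤ Nat.card V := by
    intro g hg h1 hz1 hgg
    obtain ⟨d, hd, hne⟩ := h.nondeg g hg h1 hz1
    refine fix_pow_le (W := C) hcopC hg h.zC hzord (h.zcomm g hg) hzfix fun n => ?_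
    rcases Nat.even_or_odd n with ⟨r, rfl⟩ | ⟨r, rfl⟩
    · exact ⟨1, by rw [← two_mul, pow_mul, pow_two, hzz, one_pow]; simp⟩
    · refine ⟨d, ?_⟩
      rw [pow_succ, pow_mul, pow_two, hzz, one_pow, one_mul]
      have hgd := (h.comm g hg d hd).resolve_left hne
      rw [hgd]
      calc g * d * z * d⁻¹ = g * (d * z) * d⁻¹ := by group
        _ = g * (z * d) * d⁻¹ := by rw [h.zcomm d hd]
        _ = g * z := by group
  -- stabilisers
  have hCv : ∀ v : V, v ≠ 1 → 2 * Nat.card ↥(C ⊓ MulAction.stabilizer K v) ≤ 2 ^ (k + 1) := by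
    intro v hv
    set E := C ⊓ MulAction.stabilizer K v with hE
    have hEsq : ∀ e ∈ E, e * e = 1 := fun e he => hfixsq e he.1 v hv he.2
    have hzE : z ∉ E := fun hz' => hv (hzfix v hz'.2)
    have hcommE : ∀ e ∈ E, e * z = z * e := fun e he => h.zcomm e he.1
    set P := addInvol E z hzz hcommE
    have hPC : P ≤ C := by
      rintro x (hx | hx)
      · exact hx.1
      · simpa [mul_assoc, hzz] using C.mul_mem hx.1 h.zC
    have hzP : z ∈ P := Or.inr (by rw [hzz]; exact E.one_mem)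
    have hPsq := sq_addInvol hzz hcommE hEsq
    obtain ⟨-, hMP⟩ := iso_identities h hPC hzP hPsq
    have hPM : P ≤ C ⊓ Subgroup.centralizer (P : Set K) := fun p hp => ⟨hPC hp, Subgroup.mem_centralizer_iff.2
      fun q hq => by
        have h3 : p⁻¹ = p := inv_eq_of_mul_eq_one_right (hPsq p hp)
        have h4 : q⁻¹ = q := inv_eq_of_mul_eq_one_right (hPsq q hq)
        calc q * p = (q * p)⁻¹ := (inv_eq_of_mul_eq_one_right (hPsq _ (P.mul_mem hq hp))).symm
          _ = p * q := by rw [mul_inv_rev, h3, h4]⟩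
    have hle := Subgroup.card_le_of_le hPM
    rw [card_addInvol hzz hcommE hzE] at hMP hle
    rw [hcardC] at hMP
    have h4 : (2 * Nat.card E) * (2 * Nat.card E) ≤ 2 ^ (k + 1) * 2 ^ (k + 1) := by
      refine le_trans (Nat.mul_le_mul_right _ hle) ?_
      rw [hMP, ← pow_succ', ← pow_add]
      exact le_of_eq (by congr 1; omega)
    exact Nat.mul_self_le_mul_self_iff.1 h4
  by_cases hneg : S < 0
  · -- minus type
    set Nset : Finset K := Finset.univ.filter fun g => g ∈ C ∧ g ≠ 1 ∧ g ≠ z ∧ g * g = 1 with hN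
    have hg₀N : g₀ ∈ Nset := Finset.mem_filter.2 ⟨Finset.mem_univ _, hg₀C, hg₀1, hg₀z, hfixsq g₀ hg₀C v₀ hv₀ hg₀v⟩
    obtain ⟨g₁, hg₁, hmax⟩ := Nset.exists_max_image (fun g => Nat.card (fixV V (Subgroup.zpowers g))) ⟨g₀, hg₀N⟩
    set y := Nat.card (fixV V (Subgroup.zpowers g₁))
    have hbound := count_elems hfpf hcov hCW hCL hnorm Nset (fun l hl s hs => by
        obtain ⟨-, hsC, hs1, hsz, hss⟩ := Finset.mem_filter.1 hs
        refine Finset.mem_filter.2 ⟨Finset.mem_univ _, hnorm l hl s hsC, fun e => hs1 (conj_eq_one_iff.1 e),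
          fun e => hsz ?_, ?_⟩
        · exact mul_left_cancel (mul_right_cancel (e.trans (hconjC l hl).symm))
        · rw [show l * s * l⁻¹ * (l * s * l⁻¹) = l * (s * s) * l⁻¹ by group, hss]; group)
      ⟨g₀, hg₀N, v₀, hv₀, hg₀v⟩ 1 2 y ?_ (fun s hs => hmax s hs)
    · have hy : y ^ 2 ≤ Nat.card V := by
        obtain ⟨-, hgC, h1, hz1, hgg⟩ := Finset.mem_filter.1 hg₁
        exact hone g₁ hgC h1 hz1 hgg
      have hy2 : 2 ≤ y := by
        refine le_trans ?_ (hmax g₀ hg₀N)
        have : Nontrivial (fixV V (Subgroup.zpowers g₀)) :=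
          ⟨⟨v₀, mem_fixV_zpowers.2 hg₀v⟩, 1, fun e => hv₀ (congrArg Subtype.val e)⟩
        exact Finite.one_lt_card
      have hcount := two_mul_card_invol C
      rw [← hS] at hcount
      have hNlt : 2 * Nset.card ≤ Nat.card C := by
        have hle : Nset.card ≤ (Finset.univ.filter fun x => x ∈ C ∧ x * x = 1).card :=
          Finset.card_le_card fun x hx => by
            obtain ⟨-, hC', -, -, hh⟩ := Finset.mem_filter.1 hx
            exact Finset.mem_filter.2 ⟨Finset.mem_univ _, hC', hh⟩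
        omega
      rw [one_mul] at hbound
      have hm : W.index ≤ y - 1 := by
        refine Nat.le_of_mul_le_mul_right (hbound.trans ?_) (Nat.card_pos (α := C))
        rw [mul_comm (y - 1)]
        exact Nat.mul_le_mul_right _ hNlt
      exact le_trans (Nat.pow_le_pow_left (by omega) 2) hy
    · intro v hv hs
      rw [one_mul]
      have e : Nat.card ↥(C ⊓ MulAction.stabilizer K v) =
          Nat.card {s : K // s ∈ Nset ∧ s • v = v} + 1 := by
        rw [key, Nat.card_eq_fintype_card, Fintype.card_subtype,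
          ← Finset.card_insert_of_notMem (a := (1 : K)) (by simp [Nset])]
        congr 1
        ext s
        simp only [Finset.mem_filter, Finset.mem_univ, true_and, Finset.mem_insert, Subgroup.mem_inf,
          MulAction.mem_stabilizer_iff, Nset]
        constructor
        · intro ⟨hsC, hsv⟩
          by_cases h1 : s = 1
          · exact Or.inl h1
          · exact Or.inr ⟨⟨hsC, h1, fun e => hv (hzfix v (e ▸ hsv)), hfixsq s hsC v hv hsv⟩, hsv⟩
        · rintro (rfl | ⟨⟨hsC, -⟩, hsv⟩)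
          · exact ⟨C.one_mem, one_smul _ _⟩
          · exact ⟨hsC, hsv⟩
      have hpos : 0 < Nat.card {s : K // s ∈ Nset ∧ s • v = v} := by
        obtain ⟨s, hs, hsv⟩ := hs
        haveI : Nonempty {s : K // s ∈ Nset ∧ s • v = v} := ⟨⟨s, hs, hsv⟩⟩
        exact Nat.card_pos
      omega
  -- plus type
  have hSval : S = 2 ^ (k + 1) := by
    have : (S.natAbs : ℤ) = S := Int.natAbs_of_nonneg (not_lt.1 hneg)
    rw [← this, hi]; norm_cast
  have hk1 : 1 ≤ k := by
    by_contra hk
    have hk0 : k = 0 := by omega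
    have h3 := hCv v₀ hv₀
    rw [hk0] at h3
    have h4 : 1 < Nat.card ↥(C ⊓ MulAction.stabilizer K v₀) := by
      haveI : Nontrivial ↥(C ⊓ MulAction.stabilizer K v₀) :=
        ⟨⟨g₀, hg₀C, hg₀v⟩, 1, fun e => hg₀1 (congrArg Subtype.val e)⟩
      exact Finite.one_lt_card
    omega
  -- isotropic subgroups and their complements
  have hext : ∀ (j : ℕ) (P : Subgroup K), P ≤ C → z ∈ P → (∀ p ∈ P, p * p = 1) →
      Nat.card P = 2 ^ (j + 1) → j ≤ k →
      (Finset.univ.filter fun x => x ∈ C ⊓ Subgroup.centralizer (P : Set K) ∧ x * x = 1).card =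
        2 ^ (2 * k - j) + 2 ^ k := by
    intro j P hPC hzP hPsq hPc hjk
    obtain ⟨h1, hMP⟩ := iso_identities h hPC hzP hPsq
    have hM : Nat.card ↥(C ⊓ Subgroup.centralizer (P : Set K)) = 2 ^ (2 * k - j + 1) := by
      rw [hPc, hcardC] at hMP
      refine Nat.eq_of_mul_eq_mul_right (Nat.two_pow_pos (j + 1)) (hMP.trans ?_)
      rw [← pow_succ', ← pow_add]; congr 1; omega
    have h2 := two_mul_card_invol (C ⊓ Subgroup.centralizer (P : Set K))
    rw [h1, ← hS, hSval, hM, pow_succ 2 (2 * k - j)] at h2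
    push_cast at h2
    have : ((Finset.univ.filter fun x => x ∈ C ⊓ Subgroup.centralizer (P : Set K) ∧ x * x = 1).card : ℤ) =
        2 ^ (2 * k - j) + 2 ^ k := by linarith [pow_succ (2 : ℤ) k]
    exact_mod_cast this
  -- the fixed space of a maximal isotropic subgroup
  have hmaxfix : ∀ E : Subgroup K, E ≤ C → (∀ e ∈ E, e * e = 1) → z ∉ E → Nat.card E = 2 ^ k →
      Nat.card (fixV V E) ^ 2 ^ k ≤ Nat.card V := by
    intro E hEC hEsq hzE hEc
    have hcommE : ∀ e ∈ E, e * z = z * e := fun e he => h.zcomm e (hEC he)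
    set P := addInvol E z hzz hcommE
    have hPC : P ≤ C := by
      rintro x (hx | hx)
      · exact hEC hx
      · simpa [mul_assoc, hzz] using C.mul_mem (hEC hx) h.zC
    have hzP : z ∈ P := Or.inr (by rw [hzz]; exact E.one_mem)
    have hPsq := sq_addInvol hzz hcommE hEsq
    obtain ⟨-, hMP⟩ := iso_identities h hPC hzP hPsq
    set M := C ⊓ Subgroup.centralizer (P : Set K) with hM
    have hMc : Nat.card M = 2 ^ (k + 1) := by
      rw [card_addInvol hzz hcommE hzE, hEc, hcardC] at hMP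
      refine Nat.eq_of_mul_eq_mul_right (show 0 < 2 * 2 ^ k by positivity) (hMP.trans ?_)
      rw [← pow_succ', ← pow_succ', ← pow_add]; congr 1; omega
    have hidx : Nat.card (↥C ⧸ M.subgroupOf C) = 2 ^ k := by
      have e := Subgroup.card_eq_card_quotient_mul_card_subgroup (M.subgroupOf C)
      rw [Nat.card_congr (Subgroup.subgroupOfEquivOfLe (show M ≤ C from inf_le_left)).toEquiv, hMc, hcardC] at e
      refine Nat.eq_of_mul_eq_mul_right (Nat.two_pow_pos (k + 1)) (e.symm.trans ?_)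
      rw [← pow_add]; congr 1; omega
    haveI := Fintype.ofFinite (↥C ⧸ M.subgroupOf C)
    have hPcomm : ∀ p ∈ P, ∀ q ∈ P, p * q = q * p := fun p hp q hq => by
      have h1 := hPsq _ (P.mul_mem hp hq)
      have h3 : p⁻¹ = p := inv_eq_of_mul_eq_one_right (hPsq p hp)
      have h4 : q⁻¹ = q := inv_eq_of_mul_eq_one_right (hPsq q hq)
      calc p * q = (p * q)⁻¹ := (inv_eq_of_mul_eq_one_right h1).symm
        _ = q * p := by rw [mul_inv_rev, h3, h4]
    have hcj : ∀ c ∈ C, ∀ e ∈ E, c * e * c⁻¹ ∈ P := by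
      intro c hc e he
      rcases h.comm e (hEC he) c hc with h1 | h1
      · rw [h1, mul_inv_cancel_right]; exact Or.inl he
      · rw [h1, show e * c * z * c⁻¹ = e * (c * z) * c⁻¹ by group, h.zcomm c hc]
        refine Or.inr ?_
        have : e * (z * c) * c⁻¹ * z = e := by rw [show e * (z * c) * c⁻¹ * z = e * (z * z) by group, hzz, mul_one]
        rwa [this]
    let B : (↥C ⧸ M.subgroupOf C) → Subgroup K := fun q => E.map (MulAut.conj (q.out : K)).toMonoidHom
    have hB : ∀ q x, x ∈ B q ↔ (q.out : K)⁻¹ * x * (q.out : K) ∈ E := by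
      intro q x
      constructor
      · rintro ⟨e, he, rfl⟩; simpa [mul_assoc] using he
      · intro hx; exact ⟨_, hx, by simp [mul_assoc]⟩
    refine le_trans (le_of_eq ?_) (prod_card_le (V := V) P hPcomm
      (Nat.Coprime.coprime_dvd_left (Subgroup.card_dvd_of_le hPC) hcopC) B ?_ ?_)
    · rw [Finset.prod_congr rfl (g := fun _ => Nat.card (fixV V E)) fun q _ => card_fixV_conj _ (hB q),
        Finset.prod_const, Finset.card_univ, ← Nat.card_eq_fintype_card, hidx]
    · rintro q _ ⟨e, he, rfl⟩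
      exact hcj _ q.out.2 e he
    · intro q q' hne v hv hv'
      set c₁ := (q.out : K)
      set c₂ := (q'.out : K)
      have hd : c₁⁻¹ * c₂ ∉ M := fun hd => hne <| by
        rw [← Quotient.out_eq' q, ← Quotient.out_eq' q']
        exact Quotient.sound' (QuotientGroup.leftRel_apply.2 (show ((q.out)⁻¹ * q'.out : C) ∈ M.subgroupOf C from hd))
      have hdC : c₁⁻¹ * c₂ ∈ C := C.mul_mem (C.inv_mem q.out.2) q'.out.2
      obtain ⟨e, he, hed⟩ : ∃ e ∈ E, e * (c₁⁻¹ * c₂) ≠ c₁⁻¹ * c₂ * e := by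
        by_contra hc
        push Not at hc
        refine hd ⟨hdC, Subgroup.mem_centralizer_iff.2 ?_⟩
        rintro p (hp | hp)
        · exact hc p hp
        · have hp' : p = p * z * z := by rw [mul_assoc, hzz, mul_one]
          rw [hp', mul_assoc (p * z) z, ← h.zcomm _ hdC, ← mul_assoc, hc _ hp, mul_assoc]
      have hrel := (h.comm e (hEC he) _ hdC).resolve_left (Ne.symm hed)
      have h1 : (c₁ * e * c₁⁻¹) • v = v := hv _ (Subgroup.mem_map_of_mem _ he)
      have h2 : (c₂ * e * c₂⁻¹) • v = v := hv' _ (Subgroup.mem_map_of_mem _ he)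
      have e2 : c₂ * e * c₂⁻¹ = c₁ * e * c₁⁻¹ * z := by
        calc c₂ * e * c₂⁻¹ = c₁ * (c₁⁻¹ * c₂ * e) * (c₁⁻¹ * c₂)⁻¹ * c₁⁻¹ := by group
          _ = c₁ * (e * (c₁⁻¹ * c₂ * z)) * (c₁⁻¹ * c₂)⁻¹ * c₁⁻¹ := by rw [hrel, mul_assoc e]
          _ = c₁ * (e * (z * (c₁⁻¹ * c₂))) * (c₁⁻¹ * c₂)⁻¹ * c₁⁻¹ := by rw [h.zcomm _ hdC]
          _ = c₁ * e * (z * c₁⁻¹) := by group
          _ = c₁ * e * (c₁⁻¹ * z) := by rw [h.zcomm _ (C.inv_mem q.out.2)]
          _ = c₁ * e * c₁⁻¹ * z := by group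
      refine hzfix v ?_
      rw [e2, mul_smul] at h2
      exact smul_left_cancel _ (h2.trans h1.symm)
  -- maximal stabilisers
  set U : Finset V := Finset.univ.filter fun v => v ≠ 1 ∧ Nat.card ↥(C ⊓ MulAction.stabilizer K v) = 2 ^ k with hU
  set Es : Finset (Subgroup K) :=
    Finset.univ.filter fun E => E ≤ C ∧ (∀ e ∈ E, e * e = 1) ∧ z ∉ E ∧ Nat.card E = 2 ^ k with hEs
  -- existence
  have hgrow : ∀ j, j ≤ k → ∃ P : Subgroup K, P ≤ C ∧ z ∈ P ∧ (∀ p ∈ P, p * p = 1) ∧ Nat.card P = 2 ^ (j + 1) := by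
    intro j hj
    induction j with
    | zero =>
      refine ⟨Subgroup.zpowers z, Subgroup.zpowers_le.2 h.zC, Subgroup.mem_zpowers z, fun p hp => ?_,
        by rw [Nat.card_zpowers, hzord]; rfl⟩
      obtain ⟨n, rfl⟩ := hp
      show z ^ n * z ^ n = 1
      rw [← (Commute.refl z).mul_zpow n, hzz, one_zpow]
    | succ j ih =>
      obtain ⟨P, hPC, hzP, hPsq, hPc⟩ := ih (by omega)
      have hcnt := hext j P hPC hzP hPsq hPc (by omega)
      obtain ⟨x, hx, hxP⟩ : ∃ x ∈ (Finset.univ.filter fun x => x ∈ C ⊓ Subgroup.centralizer (P : Set K) ∧ x * x = 1),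
          x ∉ P := by
        by_contra hc
        push Not at hc
        have hle := Finset.card_le_card (t := Finset.univ.filter (· ∈ P))
          (fun x hx => Finset.mem_filter.2 ⟨Finset.mem_univ _, hc x hx⟩)
        rw [← key, hcnt, hPc] at hle
        have : 2 ^ (j + 1) ≤ 2 ^ k := Nat.pow_le_pow_right (by norm_num) hj
        have := Nat.two_pow_pos (2 * k - j)
        omega
      obtain ⟨-, ⟨hxC, hxP'⟩, hxx⟩ := Finset.mem_filter.1 hx
      have hcx : ∀ p ∈ P, p * x = x * p := fun p hp => Subgroup.mem_centralizer_iff.1 hxP' p hp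
      refine ⟨addInvol P x hxx hcx, ?_, Or.inl hzP, sq_addInvol hxx hcx hPsq, ?_⟩
      · rintro a (ha | ha)
        · exact hPC ha
        · simpa [mul_assoc, hxx] using C.mul_mem (hPC ha) hxC
      · rw [card_addInvol hxx hcx hxP, hPc, pow_succ' 2 (j + 1)]
  obtain ⟨P, hPC, hzP, hPsq, hPc⟩ := hgrow k le_rfl
  haveI : Nontrivial V := ⟨v₀, 1, hv₀⟩
  haveI : Fact (Nat.Prime 2) := ⟨Nat.prime_two⟩
  have hV2 : (2 : ℕ).Coprime (Nat.card V) :=
    Nat.Coprime.coprime_dvd_left (hzord ▸ Subgroup.orderOf_dvd_natCard C h.zC) hcopC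
  have hPcomm : ∀ p ∈ P, ∀ q ∈ P, p * q = q * p := fun p hp q hq => by
    have h1 := hPsq _ (P.mul_mem hp hq)
    have h3 : p⁻¹ = p := inv_eq_of_mul_eq_one_right (hPsq p hp)
    have h4 : q⁻¹ = q := inv_eq_of_mul_eq_one_right (hPsq q hq)
    calc p * q = (p * q)⁻¹ := (inv_eq_of_mul_eq_one_right h1).symm
      _ = q * p := by rw [mul_inv_rev, h3, h4]
  obtain ⟨B, hBP, ⟨v₁, hv₁, hv₁B⟩, a, ha, haB, hPB⟩ := exists_fixed_maximal (V := V) hPcomm
    (fun p hp => by rw [pow_two]; exact hPsq p hp) hV2 (fun v hv => hzfix v (hv z hzP))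
  have hBz : z ∉ B := fun hz' => hv₁ (hzfix _ (hv₁B z hz'))
  have hBc : 2 ^ k ≤ Nat.card B := by
    have hca : ∀ e ∈ B, e * a = a * e := fun e he => hPcomm e (hBP he) a ha
    have hle : P ≤ addInvol B a (hPsq a ha) hca := by
      rw [hPB]
      exact sup_le (fun x hx => Or.inl hx)
        (Subgroup.zpowers_le.2 (Or.inr (by rw [hPsq a ha]; exact B.one_mem)))
    have := Subgroup.card_le_of_le hle
    rw [card_addInvol (hPsq a ha) hca haB, hPc, pow_succ'] at this
    omega
  have hUne : v₁ ∈ U := by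
    refine Finset.mem_filter.2 ⟨Finset.mem_univ _, hv₁, le_antisymm ?_ ?_⟩
    · have := hCv v₁ hv₁
      rw [pow_succ'] at this
      omega
    · refine hBc.trans (Subgroup.card_le_of_le fun b hb => ?_)
      exact ⟨hPC (hBP hb), hv₁B b hb⟩
  obtain ⟨E₁, hE₁, hmaxE⟩ := Es.exists_max_image (fun E => Nat.card (fixV V E))
    ⟨C ⊓ MulAction.stabilizer K v₁, by
      rw [hEs]
      refine Finset.mem_filter.2 ⟨Finset.mem_univ _, inf_le_left, fun e he => hfixsq e he.1 v₁ hv₁ he.2,
        fun hz' => hv₁ (hzfix _ hz'.2), (Finset.mem_filter.1 hUne).2.2⟩⟩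
  set y := Nat.card (fixV V E₁) with hy
  have hy2 : 2 ≤ y := by
    refine le_trans ?_ (hmaxE (C ⊓ MulAction.stabilizer K v₁) (by
      rw [hEs]
      exact Finset.mem_filter.2 ⟨Finset.mem_univ _, inf_le_left, fun e he => hfixsq e he.1 v₁ hv₁ he.2,
        fun hz' => hv₁ (hzfix _ hz'.2), (Finset.mem_filter.1 hUne).2.2⟩))
    haveI : Nontrivial (fixV V (C ⊓ MulAction.stabilizer K v₁)) :=
      ⟨⟨v₁, fun x hx => hx.2⟩, 1, fun e => hv₁ (congrArg Subtype.val e)⟩
    exact Finite.one_lt_card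
  -- the recursion
  have hrec : ∀ d : ℕ, ∀ E : Subgroup K, E ≤ C → (∀ e ∈ E, e * e = 1) → z ∉ E → d ≤ k →
      Nat.card E = 2 ^ (k - d) →
      (U.filter fun v => ∀ e ∈ E, e • v = v).card ≤ chainProd d * (y - 1) := by
    intro d
    induction d with
    | zero =>
      intro E hEC hEsq hzE _ hEc
      rw [chainProd, one_mul]
      have hEmem : E ∈ Es := by
        rw [hEs]; exact Finset.mem_filter.2 ⟨Finset.mem_univ _, hEC, hEsq, hzE, hEc⟩
      have h2 : (U.filter fun v => ∀ e ∈ E, e • v = v).card + 1 ≤ y := by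
        refine le_trans ?_ (hmaxE E hEmem)
        rw [← Finset.card_insert_of_notMem (a := (1 : V)) (by simp [U]), Nat.card_eq_fintype_card,
          Fintype.card_subtype]
        refine Finset.card_le_card fun v hv => Finset.mem_filter.2 ⟨Finset.mem_univ _, ?_⟩
        rcases Finset.mem_insert.1 hv with rfl | hv
        · exact fun x _ => smul_one x
        · exact (Finset.mem_filter.1 hv).2
      omega
    | succ d ih =>
      intro E hEC hEsq hzE hdk hEc
      set j := k - (d + 1) with hj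
      have hcommE : ∀ e ∈ E, e * z = z * e := fun e he => h.zcomm e (hEC he)
      set P := addInvol E z hzz hcommE with hP
      have hPC : P ≤ C := by
        rintro x (hx | hx)
        · exact hEC hx
        · simpa [mul_assoc, hzz] using C.mul_mem (hEC hx) h.zC
      have hPc : Nat.card P = 2 ^ (j + 1) := by
        rw [hP, card_addInvol hzz hcommE hzE, hEc, pow_succ']
      have hcnt := hext j P hPC (Or.inr (by rw [hzz]; exact E.one_mem)) (sq_addInvol hzz hcommE hEsq) hPc (by omega)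
      set X := (Finset.univ.filter fun x => x ∈ C ⊓ Subgroup.centralizer (P : Set K) ∧ x * x = 1) with hX
      set X' := X.filter fun x => x ∉ P
      have hPX : Finset.univ.filter (· ∈ P) ⊆ X := fun p hp => by
        have hp' := (Finset.mem_filter.1 hp).2
        have hsq := sq_addInvol hzz hcommE hEsq
        refine Finset.mem_filter.2 ⟨Finset.mem_univ _, ⟨hPC hp', Subgroup.mem_centralizer_iff.2 fun q hq => ?_⟩,
          hsq p hp'⟩
        have h3 : p⁻¹ = p := inv_eq_of_mul_eq_one_right (hsq p hp')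
        have h4 : q⁻¹ = q := inv_eq_of_mul_eq_one_right (hsq q hq)
        calc q * p = (q * p)⁻¹ := (inv_eq_of_mul_eq_one_right (hsq _ (P.mul_mem hq hp'))).symm
          _ = p * q := by rw [mul_inv_rev, h3, h4]
      have hX' : X'.card + 2 ^ (j + 1) = 2 ^ (2 * k - j) + 2 ^ k := by
        rw [← hcnt, ← hPc, key P, show X' = X \ Finset.univ.filter (· ∈ P) from by
          ext x; simp [X', and_comm], Finset.card_sdiff_of_subset hPX]
        have := Finset.card_le_card hPX
        omega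
      have hdouble : ∑ v ∈ U.filter (fun v => ∀ e ∈ E, e • v = v), (X'.filter fun x => x • v = v).card =
          ∑ x ∈ X', (U.filter fun v => (∀ e ∈ E, e • v = v) ∧ x • v = v).card := by
        simp only [Finset.card_filter]
        rw [Finset.sum_comm]
        refine Finset.sum_congr rfl fun x _ => ?_
        rw [Finset.sum_filter]
        refine Finset.sum_congr rfl fun v _ => ?_
        split_ifs <;> simp_all
      have hlow : ∀ v ∈ U.filter (fun v => ∀ e ∈ E, e • v = v), 2 ^ k - 2 ^ j ≤ (X'.filter fun x => x • v = v).card := by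
        intro v hv
        obtain ⟨hvU, hvE⟩ := Finset.mem_filter.1 hv
        obtain ⟨-, hv1, hvc⟩ := Finset.mem_filter.1 hvU
        have e1 : 2 ^ k - 2 ^ j = ((Finset.univ.filter (· ∈ C ⊓ MulAction.stabilizer K v)) \
            Finset.univ.filter (· ∈ E)).card := by
          rw [Finset.card_sdiff_of_subset, ← key, ← key, hvc, hEc]
          exact fun x hx => Finset.mem_filter.2 ⟨Finset.mem_univ _, hEC (Finset.mem_filter.1 hx).2,
            hvE x (Finset.mem_filter.1 hx).2⟩
        rw [e1]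
        refine Finset.card_le_card fun x hx => ?_
        simp only [Finset.mem_sdiff, Finset.mem_filter, Finset.mem_univ, true_and] at hx
        obtain ⟨⟨hxC, hxv⟩, hxE⟩ := hx
        refine Finset.mem_filter.2 ⟨Finset.mem_filter.2 ⟨Finset.mem_filter.2 ⟨Finset.mem_univ _,
          ⟨hxC, Subgroup.mem_centralizer_iff.2 ?_⟩, hfixsq x hxC v hv1 hxv⟩, ?_⟩, hxv⟩
        · have hcx : ∀ e ∈ E, e * x = x * e := fun e he => by
            refine (h.comm x hxC e (hEC he)).resolve_right fun e0 => hv1 (hzfix v ?_)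
            have h5 : (x * e) • v = v := by rw [mul_smul, hvE e he, hxv]
            have h6 : (x * e * z) • v = v := by rw [← e0, mul_smul, hxv, hvE e he]
            rw [mul_smul] at h6
            exact smul_left_cancel _ (h6.trans h5.symm)
          rintro p (hp | hp)
          · exact hcx p hp
          · have hp' : p = p * z * z := by rw [mul_assoc, hzz, mul_one]
            rw [hp', mul_assoc (p * z) z, ← h.zcomm x hxC, ← mul_assoc, hcx _ hp, mul_assoc]
        · rintro (hx' | hx')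
          · exact hxE hx'
          · refine hv1 (hzfix v ?_)
            have h5 := hvE _ hx'
            rw [mul_smul] at h5
            exact smul_left_cancel x (h5.trans hxv.symm)
      have hhigh : ∀ x ∈ X', (U.filter fun v => (∀ e ∈ E, e • v = v) ∧ x • v = v).card ≤ chainProd d * (y - 1) := by
        intro x hx
        obtain ⟨hx1, hxP⟩ := Finset.mem_filter.1 hx
        obtain ⟨-, ⟨hxC, hxP'⟩, hxx⟩ := Finset.mem_filter.1 hx1
        have hcx : ∀ e ∈ E, e * x = x * e := fun e he => Subgroup.mem_centralizer_iff.1 hxP' e (Or.inl he)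
        refine le_trans (Finset.card_le_card fun v hv => ?_) (ih (addInvol E x hxx hcx) ?_
          (sq_addInvol hxx hcx hEsq) ?_ (by omega) ?_)
        · obtain ⟨hvU, hvE, hxv⟩ := Finset.mem_filter.1 hv
          refine Finset.mem_filter.2 ⟨hvU, ?_⟩
          rintro e (he | he)
          · exact hvE e he
          · have := hvE _ he
            rwa [mul_smul, hxv] at this
        · rintro a (ha | ha)
          · exact hEC ha
          · simpa [mul_assoc, hxx] using C.mul_mem (hEC ha) hxC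
        · rintro (hz' | hz')
          · exact hzE hz'
          · exact hxP (Or.inr (by rwa [← h.zcomm x hxC] at hz'))
        · rw [card_addInvol hxx hcx (fun hxE => hxP (Or.inl hxE)), hEc, ← pow_succ']
          congr 1; omega
      have hmul := (Finset.card_nsmul_le_sum _ _ _ hlow).trans (hdouble.le.trans (Finset.sum_le_card_nsmul _ _ _ hhigh))
      rw [smul_eq_mul, smul_eq_mul] at hmul
      have hpos : 0 < 2 ^ k - 2 ^ j := by
        have : 2 ^ j < 2 ^ k := Nat.pow_lt_pow_right (by norm_num) (by omega)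
        omega
      have hX'eq : X'.card = (2 ^ k - 2 ^ j) * (2 ^ (d + 1) + 2) := by
        have e1 : 2 ^ k = 2 ^ j * 2 ^ (d + 1) := by rw [← pow_add]; congr 1; omega
        have e2 : 2 ^ (2 * k - j) = 2 ^ k * 2 ^ (d + 1) := by rw [← pow_add]; congr 1; omega
        have e3 : (2 ^ k - 2 ^ j) * (2 ^ (d + 1) + 2) + (2 ^ j * 2 ^ (d + 1) + 2 * 2 ^ j) =
            2 ^ k * 2 ^ (d + 1) + 2 * 2 ^ k := by
          have : 2 ^ j ≤ 2 ^ k := by omega
          zify [this]; ring
        rw [pow_succ' 2 j, e2] at hX'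
        rw [← e1] at e3
        omega
      rw [hX'eq, mul_comm _ (2 ^ k - 2 ^ j), mul_assoc] at hmul
      rw [chainProd, mul_assoc]
      exact Nat.le_of_mul_le_mul_left hmul hpos
  have hUle : U.card ≤ chainProd k * (y - 1) := by
    refine le_trans (Finset.card_le_card fun v hv => Finset.mem_filter.2 ⟨hv, ?_⟩)
      (hrec k ⊥ bot_le (fun e he => by rw [Subgroup.mem_bot.1 he, one_mul])
        (fun hz' => h.z_ne (Subgroup.mem_bot.1 hz')) le_rfl (by simp))
    intro e he
    rw [Subgroup.mem_bot.1 he, one_smul]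
  have hUinv : ∀ l ∈ L, ∀ v ∈ U, l • v ∈ U := by
    intro l hl v hv
    obtain ⟨-, hv1, hvc⟩ := Finset.mem_filter.1 hv
    refine Finset.mem_filter.2 ⟨Finset.mem_univ _, fun e => hv1 (((smul_eq_iff_eq_inv_smul _).1 e).trans (smul_one _)), ?_⟩
    rw [← hvc]
    refine Nat.card_congr ⟨fun x => ⟨l⁻¹ * x * l, ?_, ?_⟩, fun x => ⟨l * x * l⁻¹, hnorm l hl _ x.2.1, ?_⟩,
      fun x => by ext; simp [mul_assoc], fun x => by ext; simp [mul_assoc]⟩
    · simpa using hnorm l⁻¹ (L.inv_mem hl) _ x.2.1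
    · show (l⁻¹ * (x : K) * l) • v = v
      rw [mul_smul, mul_smul, show (x : K) • l • v = l • v from x.2.2, inv_smul_smul]
    · show (l * (x : K) * l⁻¹) • l • v = l • v
      rw [mul_smul, mul_smul, inv_smul_smul, show (x : K) • v = v from x.2.2]
  have hcount := count_le hfpf hcov hCW hnorm U (fun h1 => (Finset.mem_filter.1 h1).2.1 rfl) ⟨v₁, hUne⟩ hUinv
    fun r hr => hUinv r (hCL hr)
  rw [Finset.sum_congr rfl (fun v hv => (Finset.mem_filter.1 hv).2.2), Finset.sum_const, smul_eq_mul,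
    hcardC, show 2 * k + 1 = (k + 1) + k by omega, pow_add, ← mul_assoc] at hcount
  have h1 := (Nat.le_of_mul_le_mul_right hcount (Nat.two_pow_pos k)).trans hUle
  have h2 := chainProd_bound hk1 hy2
  have h3 : W.index + 1 ≤ y ^ 2 ^ (k - 1) := by
    refine Nat.le_of_mul_le_mul_left (?_ : 2 ^ (k + 1) * (W.index + 1) ≤ 2 ^ (k + 1) * y ^ 2 ^ (k - 1))
      (Nat.two_pow_pos _)
    rw [mul_add, mul_one, mul_comm (2 ^ (k + 1)) W.index]
    omega
  calc (W.index + 1) ^ 2 ≤ (y ^ 2 ^ (k - 1)) ^ 2 := Nat.pow_le_pow_left h3 2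
    _ = y ^ 2 ^ k := by rw [← pow_mul, ← pow_succ, Nat.sub_add_cancel hk1]
    _ ≤ Nat.card V := by
      obtain ⟨-, hE1, hE2, hE3, hE4⟩ := Finset.mem_filter.1 (hEs ▸ hE₁)
      exact hmaxfix E₁ hE1 hE2 hE3 hE4

end Cfsg.Lib.DerangeSqrt
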