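import Cfsg.Agent.DerangeSqrt.Frattini
import Cfsg.Agent.DerangeSqrt.QuadBound
import Cfsg.Agent.PGroups.Basic

/-!
The bound for a coprime action which is fixed point free outside a normal subgroup but not inside it.
-/

set_option autoImplicit false

namespace Cfsg.Lib.DerangeSqrt

open scoped Classical

variable {K V : Type*} [Group K] [Finite K] [CommGroup V] [Finite V] [MulDistribMulAction K V]

omit [Finite K] in
theorem sup_comm_of {X Y : Subgroup K} (hX : ∀ a ∈ X, ∀ b ∈ X, a * b = b * a)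
    (hY : ∀ a ∈ Y, ∀ b ∈ Y, a * b = b * a) (hXY : ∀ a ∈ X, ∀ b ∈ Y, a * b = b * a) :
    ∀ a ∈ X ⊔ Y, ∀ b ∈ X ⊔ Y, a * b = b * a := by
  have h1 : X ⊔ Y ≤ Subgroup.centralizer (X : Set K) := sup_le
    (fun a ha => Subgroup.mem_centralizer_iff.2 fun b hb => hX b hb a ha)
    (fun a ha => Subgroup.mem_centralizer_iff.2 fun b hb => hXY b hb a ha)
  have h2 : X ⊔ Y ≤ Subgroup.centralizer (Y : Set K) := sup_le
    (fun a ha => Subgroup.mem_centralizer_iff.2 fun b hb => (hXY a ha b hb).symm)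
    (fun a ha => Subgroup.mem_centralizer_iff.2 fun b hb => hY b hb a ha)
  have h3 : X ⊔ Y ≤ Subgroup.centralizer ((X ⊔ Y : Subgroup K) : Set K) := sup_le
    (fun a ha => Subgroup.mem_centralizer_iff.2 fun b hb =>
      (Subgroup.mem_centralizer_iff.1 (h1 hb) a ha).symm)
    (fun a ha => Subgroup.mem_centralizer_iff.2 fun b hb =>
      (Subgroup.mem_centralizer_iff.1 (h2 hb) a ha).symm)
  exact fun a ha b hb => Subgroup.mem_centralizer_iff.1 (h3 hb) a ha

omit [Finite K] in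
theorem exists_mul_zpow_of_mem_sup {B : Subgroup K} {a : K} (h : ∀ b ∈ B, b * a = a * b) {x : K}
    (hx : x ∈ B ⊔ Subgroup.zpowers a) : ∃ b ∈ B, ∃ i : ℤ, x = b * a ^ i := by
  have hc : ∀ i : ℤ, ∀ b ∈ B, b * a ^ i = a ^ i * b := fun i b hb => (Commute.zpow_right (h b hb) i)
  let S : Subgroup K :=
    { carrier := {x | ∃ b ∈ B, ∃ i : ℤ, x = b * a ^ i}
      one_mem' := ⟨1, B.one_mem, 0, by simp⟩
      mul_mem' := by
        rintro _ _ ⟨b, hb, i, rfl⟩ ⟨c, hc', j, rfl⟩
        refine ⟨b * c, B.mul_mem hb hc', i + j, ?_⟩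
        rw [zpow_add, mul_assoc, ← mul_assoc (a ^ i), ← hc i c hc', mul_assoc, mul_assoc]
      inv_mem' := by
        rintro _ ⟨b, hb, i, rfl⟩
        refine ⟨b⁻¹, B.inv_mem hb, -i, ?_⟩
        rw [mul_inv_rev, zpow_neg, ← zpow_neg, hc (-i) _ (B.inv_mem hb)] }
  exact (sup_le (fun b hb => ⟨b, hb, 0, by simp⟩)
    (Subgroup.zpowers_le.2 ⟨1, B.one_mem, 1, by simp⟩) : _ ≤ S) hx

theorem mul_add_two_sq_le {c x : ℕ} (hc : 2 ≤ c) : (c * x + 2) ^ 2 ≤ 4 * (x + 1) ^ c := by
  induction c, hc using Nat.le_induction with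
  | base => exact le_of_eq (by ring)
  | succ c hc ih =>
    calc ((c + 1) * x + 2) ^ 2 ≤ (x + 1) * (c * x + 2) ^ 2 := by
          rcases Nat.eq_zero_or_pos x with rfl | hx
          · simp
          have h1 : 2 * x ≤ c * x := Nat.mul_le_mul_right x hc
          obtain ⟨A, hA⟩ : ∃ A, c * x + 2 = A := ⟨_, rfl⟩
          have h2 : 2 * A + x ≤ A * A := by
            have : 4 * A ≤ A * A := Nat.mul_le_mul_right A (by omega)
            omega
          have h3 : (c + 1) * x + 2 = A + x := by rw [← hA]; ring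
          rw [h3, hA]
          calc (A + x) ^ 2 = A ^ 2 + x * (2 * A + x) := by ring
            _ ≤ A ^ 2 + x * (A * A) := by gcongr
            _ = (x + 1) * A ^ 2 := by ring
      _ ≤ (x + 1) * (4 * (x + 1) ^ c) := Nat.mul_le_mul_left _ ih
      _ = 4 * (x + 1) ^ (c + 1) := by ring

variable {W : Subgroup K} [hW : W.Normal]

set_option maxHeartbeats 1600000 in
/-- A coprime action fixed point free outside a normal subgroup, but not inside it. -/
theorem linear_bound (hfpf : ∀ y : K, y ∉ W → ∀ v : V, y • v = v → v = 1)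
    (hcop : (Nat.card W).Coprime (Nat.card V)) (hfaith : ∀ g : K, (∀ v : V, g • v = v) → g = 1)
    (hns : ∃ w ∈ W, w ≠ 1 ∧ ∃ v : V, v ≠ 1 ∧ w • v = v) :
    (W.index + 1) ^ 2 ≤ Nat.card V := by
  by_contra hbig
  haveI := Fintype.ofFinite K
  have hm0 : 0 < W.index := Nat.pos_of_ne_zero Subgroup.index_ne_zero_of_finite
  have hcopX : ∀ X : Subgroup K, X ≤ W → (Nat.card X).Coprime (Nat.card V) := fun X hX =>
    Nat.Coprime.coprime_dvd_left (Subgroup.card_dvd_of_le hX) hcop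
  -- irreducibility
  have hirr : ∀ L : Subgroup K, (∀ g : K, ∃ l ∈ L, g⁻¹ * l ∈ W) →
      ∀ X : Subgroup V, (∀ l ∈ L, ∀ v ∈ X, l • v ∈ X) → X = ⊥ ∨ X = ⊤ := by
    intro L hL X hX
    by_contra hne
    push Not at hne
    have h1 := index_dvd_card_sub_one hfpf hL X hX
    have h2 := index_dvd_card_sub_one hfpf hL (⊤ : Subgroup V) fun _ _ _ _ => Subgroup.mem_top _
    rw [Subgroup.card_top, ← X.card_mul_index] at h2
    have hX2 : 1 < Nat.card X := (Subgroup.one_lt_card_iff_ne_bot X).2 hne.1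
    have hi2 : 2 ≤ X.index := by
      have h0 : X.index ≠ 0 := Subgroup.index_ne_zero_of_finite
      have h1' : X.index ≠ 1 := fun e => hne.2 (Subgroup.index_eq_one.1 e)
      omega
    have h3 : W.index ∣ X.index - 1 := by
      have h4 := Nat.dvd_sub h2 (h1.mul_right X.index)
      have e : Nat.card X * X.index - 1 - (Nat.card X - 1) * X.index = X.index - 1 := by
        have := Nat.mul_le_mul_right X.index (show 1 ≤ Nat.card X by omega)
        rw [Nat.sub_mul]
        omega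
      rwa [e] at h4
    have h5 := Nat.le_of_dvd (by omega) h1
    have h6 := Nat.le_of_dvd (by omega) h3
    refine hbig ?_
    rw [pow_two, ← X.card_mul_index]
    exact Nat.mul_le_mul (by omega) (by omega)
  -- the prime and the Sylow subgroup
  obtain ⟨w, hwW, hw1, v₀, hv₀, hwv⟩ := hns
  haveI : Nontrivial V := ⟨v₀, 1, hv₀⟩
  set ℓ := (orderOf w).minFac
  have ho : orderOf w ≠ 1 := fun e => hw1 (orderOf_eq_one_iff.1 e)
  haveI hℓ : Fact ℓ.Prime := ⟨Nat.minFac_prime ho⟩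
  set x := w ^ (orderOf w / ℓ)
  have hxord : orderOf x = ℓ := orderOf_pow_orderOf_div (orderOf_pos w).ne' (Nat.minFac_dvd _)
  have hxW : x ∈ W := W.pow_mem hwW _
  have hxv : x • v₀ = v₀ :=
    (MulAction.stabilizer K v₀).pow_mem (show w ∈ MulAction.stabilizer K v₀ from hwv) _
  have hx1 : x ≠ 1 := fun e => hℓ.out.ne_one (by rw [← hxord, e, orderOf_one])
  obtain ⟨P, hP⟩ := ((IsPGroup.of_card (p := ℓ) (n := 1) (by rw [Nat.card_zpowers, hxord, pow_one]) :
    IsPGroup ℓ (Subgroup.zpowers x)).comap_of_injective W.subtype W.subtype_injective).exists_le_sylow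
  set R := (P : Subgroup W).map W.subtype with hR
  set L := Subgroup.normalizer (R : Set K) with hL
  have hRW : R ≤ W := Subgroup.map_subtype_le _
  have hRL : R ≤ L := Subgroup.le_normalizer
  have hxR : x ∈ R := ⟨⟨x, hxW⟩, hP (Subgroup.mem_zpowers x), rfl⟩
  have hRp : IsPGroup ℓ R := P.2.map _
  have hcov : ∀ g : K, ∃ l ∈ L, g⁻¹ * l ∈ W := fun g => by
    obtain ⟨d, hd, hdR⟩ := Cfsg.Lib.DerangeSqrt.frattini (L := ⊤) (M := W)
      (fun l _ x hx => hW.conj_mem x hx l) P (Subgroup.mem_top g)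
    exact ⟨d * g, Subgroup.mem_normalizer_iff.2 hdR, by simpa [mul_assoc] using hW.conj_mem d hd g⁻¹⟩
  have hfix : ∀ X : Subgroup K, X ≠ ⊥ → (∀ l ∈ L, ∀ a ∈ X, l * a * l⁻¹ ∈ X) →
      ∀ v : V, v ∈ fixV V X → v = 1 := by
    intro X hX hXn v hv
    rcases hirr L hcov (fixV V X) (fun l hl u hu => fixV_invariant (fun a ha => by
      simpa using hXn l⁻¹ (L.inv_mem hl) a ha) hu) with h | h
    · rwa [h, Subgroup.mem_bot] at hv
    · refine absurd ((Subgroup.eq_bot_iff_forall X).2 fun a ha => hfaith a fun u => ?_) hX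
      exact (h.symm ▸ Subgroup.mem_top u : u ∈ fixV V X) a ha
  have hRn : ∀ l ∈ L, ∀ r ∈ R, l * r * l⁻¹ ∈ R := fun l hl r hr => (Subgroup.mem_normalizer_iff.1 hl r).1 hr
  -- the maximal abelian invariant subgroup
  obtain ⟨A, hAmem, hAmax⟩ := Finset.exists_max_image
    (Finset.univ.filter fun A : Subgroup K => A ≤ R ∧ (∀ a ∈ A, ∀ b ∈ A, a * b = b * a) ∧
      ∀ l ∈ L, ∀ a ∈ A, l * a * l⁻¹ ∈ A) (fun A => Nat.card A)
    ⟨⊥, Finset.mem_filter.2 ⟨Finset.mem_univ _, bot_le,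
      fun a ha b hb => by rw [Subgroup.mem_bot.1 ha, Subgroup.mem_bot.1 hb],
      fun l _ a ha => by rw [Subgroup.mem_bot.1 ha]; simp⟩⟩
  obtain ⟨hAR, hAc, hAn⟩ := (Finset.mem_filter.1 hAmem).2
  have hmax : ∀ X : Subgroup K, X ≤ R → (∀ a ∈ X, ∀ b ∈ X, a * b = b * a) →
      (∀ l ∈ L, ∀ a ∈ X, l * a * l⁻¹ ∈ X) → A ≤ X → X ≤ A := fun X h1 h2 h3 h4 =>
    (Subgroup.eq_of_le_of_card_ge h4 (hAmax X (Finset.mem_filter.2 ⟨Finset.mem_univ _, h1, h2, h3⟩))).ge
  have hconjsup : ∀ {X Y : Subgroup K}, (∀ l ∈ L, ∀ a ∈ X, l * a * l⁻¹ ∈ X) →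
      (∀ l ∈ L, ∀ a ∈ Y, l * a * l⁻¹ ∈ Y) → ∀ l ∈ L, ∀ a ∈ X ⊔ Y, l * a * l⁻¹ ∈ X ⊔ Y := by
    intro X Y hX hY l hl a ha
    exact (sup_le (fun a ha => Subgroup.mem_sup_left (hX l hl a ha))
      (fun a ha => Subgroup.mem_sup_right (hY l hl a ha)) :
      X ⊔ Y ≤ (X ⊔ Y).comap (MulAut.conj l).toMonoidHom) ha
  set Z₀ := R ⊓ Subgroup.centralizer (R : Set K) with hZ₀
  have hZ₀n : ∀ l ∈ L, ∀ a ∈ Z₀, l * a * l⁻¹ ∈ Z₀ := by
    intro l hl a ha
    refine ⟨hRn l hl a ha.1, Subgroup.mem_centralizer_iff.2 fun r hr => ?_⟩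
    have hr' : l⁻¹ * r * l ∈ R := by simpa using hRn l⁻¹ (L.inv_mem hl) r hr
    calc r * (l * a * l⁻¹) = l * (l⁻¹ * r * l * a) * l⁻¹ := by group
      _ = l * (a * (l⁻¹ * r * l)) * l⁻¹ := by rw [Subgroup.mem_centralizer_iff.1 ha.2 _ hr']
      _ = l * a * l⁻¹ * r := by group
  have hZ₀A : Z₀ ≤ A := le_trans le_sup_right (hmax (A ⊔ Z₀) (sup_le hAR inf_le_left)
    (sup_comm_of hAc (fun a ha b hb => Subgroup.mem_centralizer_iff.1 hb.2 a ha.1)
      fun a ha b hb => Subgroup.mem_centralizer_iff.1 hb.2 a (hAR ha))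
    (hconjsup hAn hZ₀n) le_sup_left)
  -- a central element of prime order
  obtain ⟨z, hzZ₀, hzord⟩ : ∃ z ∈ Z₀, orderOf z = ℓ := by
    haveI : Nontrivial R := ⟨⟨x, hxR⟩, 1, fun e => hx1 (congrArg Subtype.val e)⟩
    obtain ⟨z, -, hz, hzo⟩ := Cfsg.Lib.PGroups.exists_mem_center_of_normal_ne_bot hRp
      (N := (⊤ : Subgroup R)) top_ne_bot
    exact ⟨z, ⟨z.2, Subgroup.mem_centralizer_iff.2 fun r hr =>
      congrArg Subtype.val (Subgroup.mem_center_iff.1 hz ⟨r, hr⟩)⟩, by rwa [Subgroup.orderOf_coe]⟩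
  have hzR : z ∈ R := hzZ₀.1
  have hzA : z ∈ A := hZ₀A hzZ₀
  have hzcent : ∀ r ∈ R, r * z = z * r := Subgroup.mem_centralizer_iff.1 hzZ₀.2
  -- elements of order ℓ in A
  let Ω : Subgroup K :=
    { carrier := {a | a ∈ A ∧ a ^ ℓ = 1}
      one_mem' := ⟨A.one_mem, one_pow _⟩
      mul_mem' := fun {a b} ha hb => ⟨A.mul_mem ha.1 hb.1, by
        rw [(show Commute a b from hAc a ha.1 b hb.1).mul_pow, ha.2, hb.2, one_mul]⟩
      inv_mem' := fun {a} ha => ⟨A.inv_mem ha.1, by rw [inv_pow, ha.2, inv_one]⟩ }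
  have hΩA : Ω ≤ A := fun a ha => ha.1
  have hΩc : ∀ a ∈ Ω, ∀ b ∈ Ω, a * b = b * a := fun a ha b hb => hAc a ha.1 b hb.1
  have hΩn : ∀ l ∈ L, ∀ a ∈ Ω, l * a * l⁻¹ ∈ Ω := fun l hl a ha => ⟨hAn l hl a ha.1, by
    rw [conj_pow, ha.2]; group⟩
  have hzΩ : z ∈ Ω := ⟨hzA, by rw [← hzord]; exact pow_orderOf_eq_one z⟩
  have hz1 : z ≠ 1 := fun e => hℓ.out.ne_one (by rw [← hzord, e, orderOf_one])
  have hΩne : Ω ≠ ⊥ := fun e => hz1 (Subgroup.mem_bot.1 (e ▸ hzΩ))
  have hℓV : ℓ.Coprime (Nat.card V) :=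
    Nat.Coprime.coprime_dvd_left (hzord ▸ Subgroup.orderOf_dvd_natCard W (hRW hzR)) hcop
  obtain ⟨B, hBΩ, ⟨v₁, hv₁, hv₁B⟩, a₀, ha₀, ha₀B, hΩeq⟩ := exists_fixed_maximal (V := V) hΩc
    (fun a ha => ha.2) hℓV (hfix Ω hΩne hΩn)
  have hΩeq' : Ω = Subgroup.zpowers z := by
    by_contra hne
    have hB : B ≠ ⊥ := by
      intro e
      refine hne ?_
      rw [e, bot_sup_eq] at hΩeq
      rw [hΩeq]
      refine (Subgroup.eq_of_le_of_card_ge (Subgroup.zpowers_le.2 (hΩeq ▸ hzΩ)) ?_).symm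
      rw [Nat.card_zpowers, Nat.card_zpowers, hzord]
      exact Nat.le_of_dvd hℓ.out.pos (orderOf_dvd_of_pow_eq_one ha₀.2)
    set Bs : Finset (Subgroup K) := Finset.univ.filter fun B' =>
      ∃ l ∈ L, B' = B.map (MulAut.conj l).toMonoidHom with hBs
    have hB' : ∀ B' ∈ Bs, B' ≤ Ω ∧ (∀ B'' ∈ Bs, B'' ≠ B' → Ω ≤ B' ⊔ B'') ∧
        Nat.card (fixV V B') = Nat.card (fixV V B) ∧ Nat.card B' = Nat.card B := by
      intro B' hB'
      obtain ⟨-, l, hl, rfl⟩ := Finset.mem_filter.1 hB'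
      have hle : ∀ l ∈ L, B.map (MulAut.conj l).toMonoidHom ≤ Ω := by
        rintro l hl _ ⟨b, hb, rfl⟩
        exact hΩn l hl b (hBΩ hb)
      have hcard : ∀ l : K, Nat.card ↥(B.map (MulAut.conj l).toMonoidHom) = Nat.card B := fun l =>
        (Nat.card_congr (B.equivMapOfInjective _ (MulAut.conj l).injective).toEquiv).symm
      refine ⟨hle l hl, ?_, card_fixV_conj l fun y => ⟨?_, fun hy => ⟨_, hy, by simp [mul_assoc]⟩⟩, hcard l⟩
      · intro B'' hB'' hne'
        obtain ⟨-, l', hl', rfl⟩ := Finset.mem_filter.1 hB''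
        obtain ⟨b, hb, hbB⟩ : ∃ b ∈ B.map (MulAut.conj l').toMonoidHom, b ∉ B.map (MulAut.conj l).toMonoidHom := by
          by_contra hc
          push Not at hc
          exact hne' (Subgroup.eq_of_le_of_card_ge hc (by rw [hcard, hcard]))
        set S := B.map (MulAut.conj l).toMonoidHom ⊔ B.map (MulAut.conj l').toMonoidHom
        have hb' : l⁻¹ * b * l ∈ B ⊔ Subgroup.zpowers a₀ := by
          rw [← hΩeq]; simpa using hΩn l⁻¹ (L.inv_mem hl) b (hle l' hl' hb)
        obtain ⟨b₁, hb₁, i, hi⟩ := exists_mul_zpow_of_mem_sup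
          (fun b hb => hΩc b (hBΩ hb) a₀ ha₀) hb'
        have hai : l * a₀ ^ i * l⁻¹ ∈ S := by
          have h1 : l * b₁ * l⁻¹ ∈ S := Subgroup.mem_sup_left ⟨b₁, hb₁, rfl⟩
          have e : l * a₀ ^ i * l⁻¹ = (l * b₁ * l⁻¹)⁻¹ * b := by
            have hbeq : b = l * (b₁ * a₀ ^ i) * l⁻¹ := by rw [← hi]; group
            rw [hbeq]; group
          rw [e]
          exact S.mul_mem (S.inv_mem h1) (Subgroup.mem_sup_right hb)
        have hndvd : ¬ (ℓ : ℤ) ∣ i := by
          rintro ⟨k, rfl⟩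
          refine hbB ?_
          rw [zpow_mul, zpow_natCast, ha₀.2, one_zpow, mul_one] at hi
          exact ⟨b₁, hb₁, by rw [← hi]; simp [mul_assoc]⟩
        have ha : l * a₀ * l⁻¹ ∈ S := by
          have hco : Int.gcd i ℓ = 1 := by
            rw [Int.gcd_comm]
            exact (Nat.Prime.coprime_iff_not_dvd hℓ.out).2 fun h => hndvd (Int.natCast_dvd.2 h)
          have hbz := Int.gcd_eq_gcd_ab i ℓ
          rw [hco] at hbz
          have e : l * a₀ * l⁻¹ = (l * a₀ ^ i * l⁻¹) ^ (Int.gcdA i ℓ) := by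
            rw [conj_zpow, ← zpow_mul]
            congr 2
            conv_lhs => rw [← zpow_one a₀, show (1 : ℤ) = i * Int.gcdA i ℓ + ℓ * Int.gcdB i ℓ from
              by exact_mod_cast hbz, zpow_add, zpow_mul a₀ (ℓ : ℤ), zpow_natCast, ha₀.2, one_zpow, mul_one]
          rw [e]
          exact S.zpow_mem hai _
        intro y hy
        have hy' : l⁻¹ * y * l ∈ B ⊔ Subgroup.zpowers a₀ := by
          rw [← hΩeq]; simpa using hΩn l⁻¹ (L.inv_mem hl) y hy
        obtain ⟨b₂, hb₂, j, hj⟩ := exists_mul_zpow_of_mem_sup (fun b hb => hΩc b (hBΩ hb) a₀ ha₀) hy'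
        have e : y = (l * b₂ * l⁻¹) * (l * a₀ * l⁻¹) ^ j := by
          have hyeq : y = l * (b₂ * a₀ ^ j) * l⁻¹ := by rw [← hj]; group
          rw [hyeq, conj_zpow]; group
        rw [e]
        exact S.mul_mem (Subgroup.mem_sup_left ⟨b₂, hb₂, rfl⟩) (S.zpow_mem ha j)
      · rintro ⟨b, hb, rfl⟩
        simpa [mul_assoc] using hb
    have hBmem : B ∈ Bs := by
      refine Finset.mem_filter.2 ⟨Finset.mem_univ _, 1, L.one_mem, ?_⟩
      ext y
      simp
    have hc2 : 2 ≤ Bs.card := by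
      by_contra hc
      have hone : ∀ B' ∈ Bs, B' = B := fun B' h' => Finset.card_le_one.1 (by omega) B' h' B hBmem
      refine hv₁ (hfix B hB (fun l hl b hb => ?_) v₁ hv₁B)
      rw [← hone (B.map (MulAut.conj l).toMonoidHom) (Finset.mem_filter.2 ⟨Finset.mem_univ _, l, hl, rfl⟩)]
      exact ⟨b, hb, rfl⟩
    set c := Bs.card
    set y := Nat.card (fixV V B) with hy
    have hprod : y ^ c ≤ Nat.card V := by
      refine le_trans (le_of_eq ?_) (prod_card_le (V := V) Ω hΩc (hcopX Ω ((hΩA.trans hAR).trans hRW))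
        (fun B' : Bs => (B' : Subgroup K)) (fun B' : Bs => (hB' B' B'.2).1) ?_)
      · rw [Finset.prod_congr rfl (g := fun _ => y) fun (B' : Bs) _ => (hB' B' B'.2).2.2.1, Finset.prod_const,
          Finset.card_univ, Fintype.card_coe]
      · intro B' B'' hne' v hv' hv''
        exact hfix Ω hΩne hΩn v fun b hb =>
          mem_fixV_sup hv' hv'' b ((hB' B' B'.2).2.1 B'' B''.2 (fun e => hne' (Subtype.ext e.symm)) hb)
    haveI := Fintype.ofFinite V
    set U : Finset V := Finset.univ.filter fun v => v ≠ 1 ∧ ∃ B' ∈ Bs, v ∈ fixV V B' with hU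
    have hUinv : ∀ l ∈ L, ∀ v ∈ U, l • v ∈ U := by
      intro l hl v hv
      obtain ⟨-, hv1, B', hB'', hvB'⟩ := Finset.mem_filter.1 hv
      obtain ⟨-, l₀, hl₀, rfl⟩ := Finset.mem_filter.1 hB''
      refine Finset.mem_filter.2 ⟨Finset.mem_univ _,
        fun e => hv1 (((smul_eq_iff_eq_inv_smul _).1 e).trans (smul_one _)),
        B.map (MulAut.conj (l * l₀)).toMonoidHom,
        Finset.mem_filter.2 ⟨Finset.mem_univ _, l * l₀, L.mul_mem hl hl₀, rfl⟩, ?_⟩
      rintro _ ⟨b, hb, rfl⟩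
      have := hvB' _ ⟨b, hb, rfl⟩
      show (l * l₀ * b * (l * l₀)⁻¹) • l • v = l • v
      rw [← mul_smul, show l * l₀ * b * (l * l₀)⁻¹ * l = l * (l₀ * b * l₀⁻¹) by group, mul_smul]
      exact congrArg (l • ·) this
    have hcount := count_le hfpf hcov hRW hRn U (fun h1 => (Finset.mem_filter.1 h1).2.1 rfl)
      ⟨v₁, Finset.mem_filter.2 ⟨Finset.mem_univ _, hv₁, B, hBmem, hv₁B⟩⟩ hUinv
      fun r hr => hUinv r (hRL hr)
    have hhalf : ∀ v ∈ U, 2 * Nat.card ↥(R ⊓ MulAction.stabilizer K v) ≤ Nat.card R := by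
      intro v hv
      obtain ⟨k, hk⟩ := Subgroup.card_dvd_of_le (inf_le_left : R ⊓ MulAction.stabilizer K v ≤ R)
      have hk1 : k ≠ 1 := by
        rintro rfl
        have e := Subgroup.eq_of_le_of_card_ge (inf_le_left : R ⊓ MulAction.stabilizer K v ≤ R)
          (by rw [hk, mul_one])
        refine (Finset.mem_filter.1 hv).2.1 (hfix R ?_ hRn v fun r hr => (e.ge hr).2)
        exact fun h => hx1 (Subgroup.mem_bot.1 (h ▸ hxR))
      have hk0 : k ≠ 0 := by rintro rfl; exact absurd hk (by simp [Nat.card_pos.ne'])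
      rw [hk, mul_comm]
      exact Nat.mul_le_mul_left _ (by omega)
    have h2m : 2 * W.index ≤ U.card := by
      refine Nat.le_of_mul_le_mul_right ?_ (Nat.card_pos (α := R))
      calc 2 * W.index * Nat.card R = 2 * (W.index * Nat.card R) := by ring
        _ ≤ 2 * ∑ v ∈ U, Nat.card ↥(R ⊓ MulAction.stabilizer K v) := Nat.mul_le_mul_left 2 hcount
        _ ≤ ∑ v ∈ U, Nat.card R := by rw [Finset.mul_sum]; exact Finset.sum_le_sum hhalf
        _ = U.card * Nat.card R := by rw [Finset.sum_const, smul_eq_mul]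
    have hUc : U.card ≤ c * (y - 1) := by
      refine le_trans (Finset.card_le_card (t := Bs.biUnion fun B' =>
        (Finset.univ.filter fun v => v ∈ fixV V B').erase 1) fun v hv => ?_) ?_
      · obtain ⟨-, hv1, B', hB'', hvB'⟩ := Finset.mem_filter.1 hv
        exact Finset.mem_biUnion.2 ⟨B', hB'', Finset.mem_erase.2 ⟨hv1, Finset.mem_filter.2 ⟨Finset.mem_univ _, hvB'⟩⟩⟩
      refine Finset.card_biUnion_le.trans ((Finset.sum_le_card_nsmul _ _ _ fun B' h' => ?_).trans (le_of_eq (smul_eq_mul _ _)))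
      rw [Finset.card_erase_of_mem (Finset.mem_filter.2 ⟨Finset.mem_univ _, (fixV V B').one_mem⟩),
        ← (hB' B' h').2.2.1, Nat.card_eq_fintype_card, Fintype.card_subtype]
    have h4 := mul_add_two_sq_le (x := y - 1) hc2
    rw [Nat.sub_add_cancel (show 1 ≤ y from Nat.card_pos)] at h4
    refine hbig ?_
    have : (2 * W.index + 2) ^ 2 ≤ (c * (y - 1) + 2) ^ 2 := Nat.pow_le_pow_left (by omega) 2
    nlinarith
  -- semiregularity of A
  have hzfix : ∀ v : V, z • v = v → v = 1 := fun v hv =>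
    hfix Ω hΩne hΩn v (by rw [hΩeq']; exact mem_fixV_zpowers.2 hv)
  have hAfix : ∀ a ∈ A, a ≠ 1 → ∀ v : V, a • v = v → v = 1 := by
    intro a ha ha1 v hv
    obtain ⟨k, hk⟩ := IsPGroup.iff_orderOf.1 hRp ⟨a, hAR ha⟩
    rw [← Subgroup.orderOf_coe] at hk
    have hdvd : ℓ ∣ orderOf a := by
      rw [hk]
      exact dvd_pow_self ℓ (fun e => ha1 (orderOf_eq_one_iff.1 (by rw [hk, e, pow_zero])))
    set b := a ^ (orderOf a / ℓ)
    have hbo : orderOf b = ℓ := orderOf_pow_orderOf_div (orderOf_pos a).ne' hdvd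
    have hbΩ : b ∈ Ω := ⟨A.pow_mem ha _, by rw [← hbo]; exact pow_orderOf_eq_one b⟩
    have hbv : b • v = v := (MulAction.stabilizer K v).pow_mem (show a ∈ MulAction.stabilizer K v from hv) _
    have heq : Subgroup.zpowers b = Subgroup.zpowers z :=
      Subgroup.eq_of_le_of_card_ge (Subgroup.zpowers_le.2 (hΩeq' ▸ hbΩ))
        (by rw [Nat.card_zpowers, Nat.card_zpowers, hbo, hzord])
    exact hzfix v (mem_fixV_zpowers.1 (heq ▸ mem_fixV_zpowers.2 hbv))
  have hpowℓ : ∀ a ∈ A, a ^ ℓ = 1 → a ∈ Subgroup.zpowers z := fun a ha h => hΩeq' ▸ (⟨ha, h⟩ : a ∈ Ω)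
  have hAcyc : IsCyclic A := by
    haveI := Fintype.ofFinite A
    refine isCyclic_of_card_pow_eq_one_le fun n hn => ?_
    have hstep : ∀ k, (Finset.univ.filter fun a : A => a ^ ℓ ^ k = 1).card ≤ ℓ ^ k := by
      intro k
      induction k with
      | zero =>
        refine Finset.card_le_one.2 fun a ha b hb => ?_
        have h1 := (Finset.mem_filter.1 ha).2
        have h2 := (Finset.mem_filter.1 hb).2
        rw [pow_zero, pow_one] at h1 h2
        rw [h1, h2]
      | succ k ih =>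
        refine le_trans (Finset.card_le_mul_card_image (f := fun a : A => a ^ ℓ) _ ℓ ?_) ?_
        · intro b _
          by_cases hne : (Finset.filter (fun a : A => a ^ ℓ = b)
              (Finset.univ.filter fun a : A => a ^ ℓ ^ (k + 1) = 1)).Nonempty
          · obtain ⟨a, ha⟩ := hne
            have ha' := (Finset.mem_filter.1 ha).2
            refine le_trans (Finset.card_le_card_of_injOn (t := Finset.univ.filter fun t : K => t ∈ Subgroup.zpowers z)
              (fun t : A => (a : K)⁻¹ * t) (fun t ht => ?_) (fun t _ t' _ e => Subtype.ext (mul_left_cancel e))) ?_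
            · have ht' := (Finset.mem_filter.1 ht).2
              refine Finset.mem_coe.2 (Finset.mem_filter.2 ⟨Finset.mem_univ _, hpowℓ _ (A.mul_mem (A.inv_mem a.2) t.2) ?_⟩)
              have e : Commute ((a : K)⁻¹) (t : K) := hAc _ (A.inv_mem a.2) _ t.2
              have h1 : (a : K) ^ ℓ = (t : K) ^ ℓ := congrArg Subtype.val (ha'.trans ht'.symm)
              rw [e.mul_pow, inv_pow, h1, inv_mul_cancel]
            · rw [← Fintype.card_subtype, ← Nat.card_eq_fintype_card, Nat.card_zpowers, hzord]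
          · rw [Finset.not_nonempty_iff_eq_empty.1 hne]; simp
        · rw [pow_succ' ℓ k]
          refine Nat.mul_le_mul_left ℓ (le_trans (Finset.card_le_card fun b hb => ?_) ih)
          obtain ⟨a, ha, rfl⟩ := Finset.mem_image.1 hb
          refine Finset.mem_filter.2 ⟨Finset.mem_univ _, ?_⟩
          rw [← pow_mul]
          exact (Finset.mem_filter.1 ha).2
    obtain ⟨e, he⟩ := IsPGroup.iff_card.1 (hRp.to_le hAR)
    obtain ⟨i, -, hi⟩ := (Nat.dvd_prime_pow hℓ.out).1 (Nat.gcd_dvd_right n (ℓ ^ e))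
    refine le_trans (Finset.card_le_card fun a ha => ?_) ((hstep i).trans ?_)
    · refine Finset.mem_filter.2 ⟨Finset.mem_univ _, ?_⟩
      rw [← hi, ← he]
      exact pow_gcd_eq_one.2 ⟨(Finset.mem_filter.1 ha).2, pow_card_eq_one'⟩
    · rw [← hi]; exact Nat.le_of_dvd hn (Nat.gcd_dvd_left _ _)
  -- the centraliser
  set C := R ⊓ Subgroup.centralizer (A : Set K) with hC
  have hCn : ∀ l ∈ L, ∀ r ∈ C, l * r * l⁻¹ ∈ C := by
    intro l hl r hr
    refine ⟨hRn l hl r hr.1, Subgroup.mem_centralizer_iff.2 fun a ha => ?_⟩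
    have ha' : l⁻¹ * a * l ∈ A := by simpa using hAn l⁻¹ (L.inv_mem hl) a ha
    calc a * (l * r * l⁻¹) = l * (l⁻¹ * a * l * r) * l⁻¹ := by group
      _ = l * (r * (l⁻¹ * a * l)) * l⁻¹ := by rw [Subgroup.mem_centralizer_iff.1 hr.2 _ ha']
      _ = l * r * l⁻¹ * a := by group
  have hAC : A ≤ C := fun a ha => ⟨hAR ha, Subgroup.mem_centralizer_iff.2 fun b hb => hAc b hb a ha⟩
  have hCA : ∀ c ∈ C, ∀ a ∈ A, a * c = c * a := fun c hc a ha => Subgroup.mem_centralizer_iff.1 hc.2 a ha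
  let B₁ : Subgroup K :=
    { carrier := {c | c ∈ C ∧ (∀ r ∈ R, r * c * r⁻¹ * c⁻¹ ∈ A) ∧ c ^ ℓ ∈ A}
      one_mem' := ⟨C.one_mem, fun r _ => by simp, by simp⟩
      mul_mem' := by
        intro c d hc hd
        refine ⟨C.mul_mem hc.1 hd.1, fun r hr => ?_, ?_⟩
        · have e : r * (c * d) * r⁻¹ * (c * d)⁻¹ =
              (r * c * r⁻¹ * c⁻¹) * (c * (r * d * r⁻¹ * d⁻¹) * c⁻¹) := by group
          rw [e]
          refine A.mul_mem (hc.2.1 r hr) ?_
          rw [← hCA c hc.1 _ (hd.2.1 r hr), mul_inv_cancel_right]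
          exact hd.2.1 r hr
        · have hk : ∀ k : ℕ, ∃ a ∈ A, (c * d) ^ k = c ^ k * d ^ k * a := by
            intro k
            induction k with
            | zero => exact ⟨1, A.one_mem, by simp⟩
            | succ k ih =>
              obtain ⟨a, ha, hak⟩ := ih
              have hb : ∀ j : ℕ, ∃ b ∈ A, d ^ j * c = c * d ^ j * b := by
                intro j
                induction j with
                | zero => exact ⟨1, A.one_mem, by simp⟩
                | succ j ihj =>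
                  obtain ⟨b, hb, hbj⟩ := ihj
                  have hd' := hd.2.1 c⁻¹ (R.inv_mem hc.1.1)
                  rw [inv_inv] at hd'
                  have hbc : c⁻¹ * d * c * d⁻¹ ∈ A := hd'
                  refine ⟨(c⁻¹ * d * c * d⁻¹) * b, A.mul_mem hbc hb, ?_⟩
                  calc d ^ (j + 1) * c = d * (d ^ j * c) := by rw [pow_succ']; group
                    _ = c * (c⁻¹ * d * c * d⁻¹) * (d * d ^ j) * b := by rw [hbj]; group
                    _ = c * ((c⁻¹ * d * c * d⁻¹) * d ^ (j + 1)) * b := by rw [pow_succ']; group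
                    _ = c * (d ^ (j + 1) * (c⁻¹ * d * c * d⁻¹)) * b := by
                        rw [hCA _ (C.pow_mem hd.1 (j + 1)) _ hbc]
                    _ = c * d ^ (j + 1) * ((c⁻¹ * d * c * d⁻¹) * b) := by group
              obtain ⟨b, hb', hbk⟩ := hb k
              refine ⟨b * a, A.mul_mem hb' ha, ?_⟩
              calc (c * d) ^ (k + 1) = c ^ k * d ^ k * (a * (c * d)) := by rw [pow_succ, hak]; group
                _ = c ^ k * d ^ k * (c * d * a) := by rw [hCA _ (C.mul_mem hc.1 hd.1) a ha]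
                _ = c ^ k * (d ^ k * c) * d * a := by group
                _ = c ^ k * c * d ^ k * (b * d) * a := by rw [hbk]; group
                _ = c ^ k * c * d ^ k * (d * b) * a := by rw [hCA _ hd.1 b hb']
                _ = c ^ (k + 1) * d ^ (k + 1) * (b * a) := by rw [pow_succ, pow_succ]; group
          obtain ⟨a, ha, hak⟩ := hk ℓ
          rw [hak]
          exact A.mul_mem (A.mul_mem hc.2.2 hd.2.2) ha
      inv_mem' := by
        intro c hc
        refine ⟨C.inv_mem hc.1, fun r hr => ?_, by rw [inv_pow]; exact A.inv_mem hc.2.2⟩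
        have h1 := A.inv_mem (hc.2.1 r hr)
        have e : r * c⁻¹ * r⁻¹ * c⁻¹⁻¹ = c⁻¹ * (r * c * r⁻¹ * c⁻¹)⁻¹ * c := by group
        rw [e, ← hCA c⁻¹ (C.inv_mem hc.1) _ h1, inv_mul_cancel_right]
        exact h1 }
  have hB₁n : ∀ l ∈ L, ∀ b ∈ B₁, l * b * l⁻¹ ∈ B₁ := by
    intro l hl b hb
    refine ⟨hCn l hl b hb.1, fun r hr => ?_, by rw [conj_pow]; exact hAn l hl _ hb.2.2⟩
    have hr' : l⁻¹ * r * l ∈ R := by simpa using hRn l⁻¹ (L.inv_mem hl) r hr
    have e : r * (l * b * l⁻¹) * r⁻¹ * (l * b * l⁻¹)⁻¹ =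
        l * ((l⁻¹ * r * l) * b * (l⁻¹ * r * l)⁻¹ * b⁻¹) * l⁻¹ := by group
    rw [e]
    exact hAn l hl _ (hb.2.1 _ hr')
  set C₂ := C ⊓ Subgroup.centralizer (B₁ : Set K) with hC₂def
  have hC₂n : ∀ l ∈ L, ∀ r ∈ C₂, l * r * l⁻¹ ∈ C₂ := by
    intro l hl r hr
    refine ⟨hCn l hl r hr.1, Subgroup.mem_centralizer_iff.2 fun b hb => ?_⟩
    have hb' : l⁻¹ * b * l ∈ B₁ := by simpa using hB₁n l⁻¹ (L.inv_mem hl) b hb
    calc b * (l * r * l⁻¹) = l * (l⁻¹ * b * l * r) * l⁻¹ := by group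
      _ = l * (r * (l⁻¹ * b * l)) * l⁻¹ := by rw [Subgroup.mem_centralizer_iff.1 hr.2 _ hb']
      _ = l * r * l⁻¹ * b := by group
  have hAC₂ : A ≤ C₂ := fun a ha => ⟨hAC ha, Subgroup.mem_centralizer_iff.2 fun b hb => (hCA b hb.1 a ha).symm⟩
  have hC₂A : C₂ ≤ A := by
    by_contra hnle
    haveI : (A.subgroupOf R).Normal := ⟨fun a ha r => hAn r (hRL r.2) a ha⟩
    set π := QuotientGroup.mk' (A.subgroupOf R)
    haveI : (C₂.subgroupOf R).Normal := ⟨fun a ha r => hC₂n r (hRL r.2) a ha⟩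
    haveI : ((C₂.subgroupOf R).map π).Normal :=
      Subgroup.Normal.map inferInstance π (QuotientGroup.mk'_surjective _)
    obtain ⟨c, hcC, hcA⟩ := SetLike.not_le_iff_exists.1 hnle
    obtain ⟨t, ⟨u, hu, hut⟩, htc, hto⟩ := Cfsg.Lib.PGroups.exists_mem_center_of_normal_ne_bot
      (hRp.to_quotient (A.subgroupOf R)) (N := (C₂.subgroupOf R).map π) (fun e => hcA (by
        have h1 : π ⟨c, hcC.1.1⟩ = 1 := Subgroup.mem_bot.1 (e ▸ Subgroup.mem_map_of_mem π
          (show (⟨c, hcC.1.1⟩ : R) ∈ C₂.subgroupOf R from hcC))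
        exact (show (⟨c, hcC.1.1⟩ : R) ∈ A.subgroupOf R from (QuotientGroup.eq_one_iff _).1 h1)))
    have huB : (u : K) ∈ B₁ := by
      refine ⟨(show (u : K) ∈ C₂ from hu).1, fun r hr => ?_, ?_⟩
      · have h1 : π (⟨r, hr⟩ * u * ⟨r, hr⟩⁻¹ * u⁻¹) = 1 := by
          rw [map_mul, map_mul, map_mul, map_inv, map_inv, hut, Subgroup.mem_center_iff.1 htc (π ⟨r, hr⟩)]
          group
        exact (show (⟨r, hr⟩ * u * ⟨r, hr⟩⁻¹ * u⁻¹ : R) ∈ A.subgroupOf R from (QuotientGroup.eq_one_iff _).1 h1)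
      · have h1 : π (u ^ ℓ) = 1 := by rw [map_pow, hut, ← hto, pow_orderOf_eq_one]
        exact (show (u ^ ℓ : R) ∈ A.subgroupOf R from (QuotientGroup.eq_one_iff _).1 h1)
    have hX : A ⊔ (B₁ ⊓ C₂) ≤ A := hmax _ (sup_le hAR fun b hb => hb.1.1.1)
      (sup_comm_of hAc (fun a ha b hb => Subgroup.mem_centralizer_iff.1 hb.2.2 a ha.1)
        fun a ha b hb => hCA b hb.1.1 a ha)
      (hconjsup hAn fun l hl b hb => ⟨hB₁n l hl b hb.1, hC₂n l hl b hb.2⟩) le_sup_left
    have huA : (u : K) ∈ A := hX (Subgroup.mem_sup_right ⟨huB, hu⟩)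
    refine hℓ.out.ne_one ?_
    rw [← hto, orderOf_eq_one_iff, ← hut]
    exact (QuotientGroup.eq_one_iff _).2 huA
  -- commutators in the centraliser
  have hgz : ∀ c ∈ C, ∀ b ∈ B₁, c * b * c⁻¹ * b⁻¹ ∈ Subgroup.zpowers z := by
    intro c hc b hb
    have ha := hb.2.1 c hc.1
    set t := c * b * c⁻¹ * b⁻¹ with ht
    have hcom : Commute t b := hCA b hb.1 t ha
    refine hpowℓ t ha ?_
    have e1 : t * b = c * b * c⁻¹ := by rw [ht]; group
    have e2 := congrArg (· ^ ℓ) e1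
    simp only [hcom.mul_pow, conj_pow] at e2
    rw [← hCA c hc _ hb.2.2, mul_inv_cancel_right] at e2
    exact mul_eq_right.1 e2
  have hC₂' : ∀ c ∈ C, c ∉ A → ∃ b ∈ B₁, c * b ≠ b * c := by
    intro c hc hcA
    by_contra hne
    push Not at hne
    exact hcA (hC₂A ⟨hc, Subgroup.mem_centralizer_iff.2 fun b hb => (hne b hb).symm⟩)
  have hexpC : ∀ c ∈ C, c ^ ℓ ∈ A := by
    intro c hc
    refine hC₂A ⟨C.pow_mem hc ℓ, Subgroup.mem_centralizer_iff.2 fun b hb => ?_⟩
    set t := b * c * b⁻¹ * c⁻¹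
    have htA : t ∈ A := by
      have := A.inv_mem (hb.2.1 c hc.1)
      have e : (c * b * c⁻¹ * b⁻¹)⁻¹ = t := by simp only [t]; group
      rwa [e] at this
    have hcom : Commute t c := hCA c hc t htA
    have e1 : t * c = b * c * b⁻¹ := by simp only [t]; group
    have e2 := congrArg (· ^ ℓ) e1
    simp only [hcom.mul_pow, conj_pow] at e2
    have ht1 : t ^ ℓ = 1 := by
      have h3 := hgz c hc b hb
      rw [← hΩeq'] at h3
      have e : t = (c * b * c⁻¹ * b⁻¹)⁻¹ := by simp only [t]; group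
      rw [e, inv_pow, h3.2, inv_one]
    rw [ht1, one_mul] at e2
    calc b * c ^ ℓ = b * c ^ ℓ * b⁻¹ * b := by group
      _ = c ^ ℓ * b := by rw [← e2]
  have hcommC : ∀ c ∈ C, ∀ d ∈ C, c * d * c⁻¹ * d⁻¹ ∈ Subgroup.zpowers z := by
    intro c hc d hd
    set t := c * d * c⁻¹ * d⁻¹ with ht
    have htC : t ∈ C := C.mul_mem (C.mul_mem (C.mul_mem hc hd) (C.inv_mem hc)) (C.inv_mem hd)
    have htA : t ∈ A := by
      refine hC₂A ⟨htC, Subgroup.mem_centralizer_iff.2 fun b hb => ?_⟩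
      have conjb : ∀ e ∈ C, ∃ u ∈ A, e * b * e⁻¹ = u * b ∧ (∀ f ∈ C, f * u * f⁻¹ = u) := fun e he =>
        ⟨_, hb.2.1 e he.1, by group, fun f hf => by
          rw [← hCA f hf _ (hb.2.1 e he.1), mul_inv_cancel_right]⟩
      obtain ⟨u, huA, hu, hu'⟩ := conjb c hc
      obtain ⟨u', huA', hv, hv'⟩ := conjb d hd
      have huv : u * u' = u' * u := hAc u huA u' huA'
      have hinv : ∀ e ∈ C, ∀ w ∈ A, e * b * e⁻¹ = w * b → e⁻¹ * b * e = w⁻¹ * b := by
        intro e he w hw hew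
        have h1 : b = e⁻¹ * (w * b) * e := by rw [← hew]; group
        have h2 : e⁻¹ * w * e = w := by
          rw [← hCA e⁻¹ (C.inv_mem he) w hw, mul_assoc, inv_mul_cancel, mul_one]
        have h3 : b = w * (e⁻¹ * b * e) := by
          conv_lhs => rw [h1]
          calc e⁻¹ * (w * b) * e = (e⁻¹ * w * e) * (e⁻¹ * b * e) := by group
            _ = w * (e⁻¹ * b * e) := by rw [h2]
        rw [eq_inv_mul_iff_mul_eq]
        exact h3.symm
      have key : t * b * t⁻¹ = b := by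
        calc t * b * t⁻¹ = c * (d * (c⁻¹ * (d⁻¹ * b * d) * c) * d⁻¹) * c⁻¹ := by simp only [ht]; group
          _ = c * (d * (c⁻¹ * (u'⁻¹ * b) * c) * d⁻¹) * c⁻¹ := by rw [hinv d hd u' huA' hv]
          _ = c * (d * ((c⁻¹ * u'⁻¹ * c) * (c⁻¹ * b * c)) * d⁻¹) * c⁻¹ := by group
          _ = c * (d * (u'⁻¹ * (u⁻¹ * b)) * d⁻¹) * c⁻¹ := by
              rw [hinv c hc u huA hu, ← hCA c⁻¹ (C.inv_mem hc) _ (A.inv_mem huA'), inv_mul_cancel_right]
          _ = c * ((d * u'⁻¹ * d⁻¹) * (d * u⁻¹ * d⁻¹) * (d * b * d⁻¹)) * c⁻¹ := by group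
          _ = c * (u'⁻¹ * u⁻¹ * (u' * b)) * c⁻¹ := by
              rw [← hCA d hd _ (A.inv_mem huA'), mul_inv_cancel_right,
                ← hCA d hd _ (A.inv_mem huA), mul_inv_cancel_right, hv]
          _ = c * (u⁻¹ * b) * c⁻¹ := by
              rw [show u'⁻¹ * u⁻¹ * (u' * b) = u⁻¹ * b by rw [← mul_inv_rev, huv, mul_inv_rev]; group]
          _ = (c * u⁻¹ * c⁻¹) * (c * b * c⁻¹) := by group
          _ = b := by rw [← hCA c hc _ (A.inv_mem huA), mul_inv_cancel_right, hu, inv_mul_cancel_left]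
      exact (mul_inv_eq_iff_eq_mul.1 key).symm
    refine hpowℓ t htA ?_
    have hcom : Commute t d := hCA d hd t htA
    have e1 : t * d = c * d * c⁻¹ := by rw [ht]; group
    have e2 := congrArg (· ^ ℓ) e1
    simp only [hcom.mul_pow, conj_pow] at e2
    rw [← hCA c hc _ (hexpC d hd), mul_inv_cancel_right] at e2
    exact mul_eq_right.1 e2
  -- fixed points of single elements
  have hpick : ∀ g ∈ R, g ∉ A → g ^ ℓ = 1 → ∃ h : K, h * g * h⁻¹ = g * z := by
    intro g hg hgA hgℓ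
    have hcopz : ∀ t ∈ Subgroup.zpowers z, t ≠ 1 → z ∈ Subgroup.zpowers t := by
      intro t ht ht1
      have hto : orderOf t = ℓ := by
        refine (Nat.dvd_prime hℓ.out).1 ?_ |>.resolve_left (fun e => ht1 (orderOf_eq_one_iff.1 e))
        rw [← hzord, ← Nat.card_zpowers z]
        exact Subgroup.orderOf_dvd_natCard _ ht
      have := Subgroup.eq_of_le_of_card_ge (Subgroup.zpowers_le.2 ht)
        (by rw [Nat.card_zpowers, Nat.card_zpowers, hto, hzord])
      rw [this]; exact Subgroup.mem_zpowers z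
    by_cases hgC : g ∈ C
    · obtain ⟨b, hb, hne⟩ := hC₂' g hgC hgA
      set t := b * g * b⁻¹ * g⁻¹ with ht
      have htz : t ∈ Subgroup.zpowers z := hcommC b hb.1 g hgC
      have ht1 : t ≠ 1 := fun e => hne (by
        calc g * b = 1 * g * b := by group
          _ = b * g := by rw [← e, ht]; group)
      obtain ⟨i, hi⟩ := (isOfFinOrder_of_finite t).mem_powers_iff_mem_zpowers.2 (hcopz t htz ht1)
      change t ^ i = z at hi
      refine ⟨b ^ i, ?_⟩
      have e1 : b * g * b⁻¹ = t * g := by rw [ht]; group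
      have key : ∀ n : ℕ, b ^ n * g * (b ^ n)⁻¹ = t ^ n * g := by
        intro n
        induction n with
        | zero => simp
        | succ n ih =>
          have hbt : b * t ^ n * b⁻¹ = t ^ n := by
            have h5 : t ^ n ∈ A := A.pow_mem (by rw [← hΩeq'] at htz; exact htz.1) n
            rw [← hCA b hb.1 _ h5, mul_inv_cancel_right]
          calc b ^ (n + 1) * g * (b ^ (n + 1))⁻¹ = b * (b ^ n * g * (b ^ n)⁻¹) * b⁻¹ := by
                rw [pow_succ']; group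
            _ = (b * t ^ n * b⁻¹) * (b * g * b⁻¹) := by rw [ih]; group
            _ = t ^ n * (t * g) := by rw [hbt]; exact congrArg (t ^ n * ·) e1
            _ = t ^ (n + 1) * g := by rw [pow_succ]; exact (mul_assoc _ _ _).symm
      rw [key, hi]
      exact (hzcent g hg).symm
    · obtain ⟨a, ha, hne⟩ : ∃ a ∈ A, a * g ≠ g * a := by
        by_contra hc
        push Not at hc
        exact hgC ⟨hg, Subgroup.mem_centralizer_iff.2 hc⟩
      let θ : A →* A :=
        { toFun := fun a => ⟨(a : K) * g * (a : K)⁻¹ * g⁻¹, by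
            have := hAn g (hRL hg) _ (A.inv_mem a.2)
            have e : (a : K) * g * (a : K)⁻¹ * g⁻¹ = a * (g * (a : K)⁻¹ * g⁻¹) := by group
            rw [e]; exact A.mul_mem a.2 this⟩
          map_one' := Subtype.ext (by simp)
          map_mul' := fun a b => Subtype.ext (by
            have h1 : g * (a : K)⁻¹ * g⁻¹ ∈ A := hAn g (hRL hg) _ (A.inv_mem a.2)
            have h2 : (b : K) * g * (b : K)⁻¹ * g⁻¹ ∈ A := by
              have := hAn g (hRL hg) _ (A.inv_mem b.2)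
              rw [show (b : K) * g * (b : K)⁻¹ * g⁻¹ = b * (g * (b : K)⁻¹ * g⁻¹) by group]
              exact A.mul_mem b.2 this
            show (a : K) * b * g * ((a : K) * b)⁻¹ * g⁻¹ =
              ((a : K) * g * (a : K)⁻¹ * g⁻¹) * ((b : K) * g * (b : K)⁻¹ * g⁻¹)
            calc (a : K) * b * g * ((a : K) * b)⁻¹ * g⁻¹
                = a * (((b : K) * g * (b : K)⁻¹ * g⁻¹) * (g * (a : K)⁻¹ * g⁻¹)) := by group
              _ = a * ((g * (a : K)⁻¹ * g⁻¹) * ((b : K) * g * (b : K)⁻¹ * g⁻¹)) := by rw [hAc _ h2 _ h1]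
              _ = _ := by group) }
      set t := θ ⟨a, ha⟩
      have ht1 : (t : K) ≠ 1 := fun e => hne (by
        have e' : a * g * a⁻¹ * g⁻¹ = 1 := e
        calc a * g = (a * g * a⁻¹ * g⁻¹) * g * a := by group
          _ = g * a := by rw [e', one_mul])
      have hto : ℓ ∣ orderOf (t : K) := by
        obtain ⟨k, hk⟩ := IsPGroup.iff_orderOf.1 hRp ⟨t, hAR t.2⟩
        rw [← Subgroup.orderOf_coe] at hk
        rw [hk]
        exact dvd_pow_self ℓ (fun e => ht1 (orderOf_eq_one_iff.1 (by rw [hk, e, pow_zero])))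
      set u := t ^ (orderOf (t : K) / ℓ) with hu
      have huo : orderOf (u : K) = ℓ := by
        rw [hu, SubmonoidClass.coe_pow]; exact orderOf_pow_orderOf_div (orderOf_pos _).ne' hto
      have huz : (u : K) ∈ Subgroup.zpowers z := hpowℓ _ u.2 (by rw [← huo]; exact pow_orderOf_eq_one _)
      obtain ⟨i, hi⟩ := hcopz _ huz (fun e => hℓ.out.ne_one (by rw [← huo, e, orderOf_one]))
      change (u : K) ^ i = z at hi
      have hmem : u ^ i ∈ θ.range := θ.range.zpow_mem (θ.range.pow_mem ⟨⟨a, ha⟩, rfl⟩ _) i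
      obtain ⟨a', ha'⟩ := hmem
      refine ⟨a', ?_⟩
      have e : (a' : K) * g * (a' : K)⁻¹ * g⁻¹ = z := by
        rw [show (a' : K) * g * (a' : K)⁻¹ * g⁻¹ = ((u ^ i : A) : K) from congrArg Subtype.val ha',
          SubgroupClass.coe_zpow, hi]
      rw [mul_inv_eq_iff_eq_mul] at e
      rw [e, hzcent g hg]
  have hconj : ∀ g ∈ R, g ∉ A → g ^ ℓ = 1 → ∀ n : ℕ, ∃ h : K, h * g * h⁻¹ = g * z ^ n := by
    intro g hg hgA hgℓ n
    induction n with
    | zero => exact ⟨1, by simp⟩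
    | succ n ih =>
      obtain ⟨h, hh⟩ := ih
      have hzn : z ^ n ∈ A := A.pow_mem hzA n
      obtain ⟨h', hh'⟩ := hpick (g * z ^ n) (R.mul_mem hg (hAR hzn))
        (fun e => hgA ((A.mul_mem_cancel_right hzn).1 e)) (by
          rw [(show Commute g (z ^ n) from Commute.pow_right (hzcent g hg) n).mul_pow, hgℓ, one_mul,
            ← pow_mul, mul_comm n ℓ, pow_mul, show z ^ ℓ = 1 from hzΩ.2, one_pow])
      refine ⟨h' * h, ?_⟩
      calc h' * h * g * (h' * h)⁻¹ = h' * (h * g * h⁻¹) * h'⁻¹ := by group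
        _ = g * z ^ (n + 1) := by rw [hh, hh', pow_succ, mul_assoc]
  have hbound : ∀ g ∈ R, g ≠ 1 → (∃ v : V, v ≠ 1 ∧ g • v = v) →
      Nat.card (fixV V (Subgroup.zpowers g)) ^ ℓ ≤ Nat.card V := by
    intro g hg hg1 hgv
    obtain ⟨v, hv1, hgv⟩ := hgv
    obtain ⟨k, hk⟩ := IsPGroup.iff_orderOf.1 hRp ⟨g, hg⟩
    rw [← Subgroup.orderOf_coe] at hk
    have hdvd : ℓ ∣ orderOf g := by
      rw [hk]
      exact dvd_pow_self ℓ (fun e => hg1 (orderOf_eq_one_iff.1 (by rw [hk, e, pow_zero])))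
    set g' := g ^ (orderOf g / ℓ)
    have hg'o : orderOf g' = ℓ := orderOf_pow_orderOf_div (orderOf_pos g).ne' hdvd
    have hg'v : g' • v = v := (MulAction.stabilizer K v).pow_mem (show g ∈ MulAction.stabilizer K v from hgv) _
    have hg'A : g' ∉ A := fun h => hv1 (hAfix g' h (fun e => hℓ.out.ne_one (by rw [← hg'o, e, orderOf_one])) v hg'v)
    refine le_trans (Nat.pow_le_pow_left (Subgroup.card_le_of_le
      (fixV_anti (Subgroup.zpowers_le.2 (Subgroup.pow_mem _ (Subgroup.mem_zpowers g) (orderOf g / ℓ))))) ℓ) ?_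
    exact fix_pow_le (W := W) hcop (hRW (R.pow_mem hg _)) (hRW hzR) hzord (hzcent g' (R.pow_mem hg _)) hzfix
      (hconj g' (R.pow_mem hg _) hg'A (by rw [← hg'o]; exact pow_orderOf_eq_one g'))
  -- the elements with fixed points
  set F : Finset K := Finset.univ.filter fun g => g ∈ R ∧ g ≠ 1 ∧ ∃ v : V, v ≠ 1 ∧ g • v = v with hF
  have hxF : x ∈ F := Finset.mem_filter.2 ⟨Finset.mem_univ _, hxR, hx1, v₀, hv₀, hxv⟩
  obtain ⟨g₁, hg₁, hg₁max⟩ := F.exists_max_image (fun g => Nat.card (fixV V (Subgroup.zpowers g))) ⟨x, hxF⟩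
  set y := Nat.card (fixV V (Subgroup.zpowers g₁)) with hydef
  have hy2 : 2 ≤ y := by
    refine le_trans ?_ (hg₁max x hxF)
    haveI : Nontrivial (fixV V (Subgroup.zpowers x)) :=
      ⟨⟨v₀, mem_fixV_zpowers.2 hxv⟩, 1, fun e => hv₀ (congrArg Subtype.val e)⟩
    exact Finite.one_lt_card
  have hyV : y ^ ℓ ≤ Nat.card V := by
    obtain ⟨-, h1, h2, h3⟩ := Finset.mem_filter.1 hg₁
    exact hbound g₁ h1 h2 h3
  have hFconj : ∀ l ∈ L, ∀ s ∈ F, l * s * l⁻¹ ∈ F := by
    intro l hl s hs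
    obtain ⟨-, hsR, hs1, v, hv, hsv⟩ := Finset.mem_filter.1 hs
    refine Finset.mem_filter.2 ⟨Finset.mem_univ _, hRn l hl s hsR, fun e => hs1 (conj_eq_one_iff.1 e),
      l • v, fun e => hv (((smul_eq_iff_eq_inv_smul _).1 e).trans (smul_one _)), ?_⟩
    rw [mul_smul, mul_smul, inv_smul_smul, hsv]
  have hstab : ∀ (X : Subgroup K) (S : Finset K) (v : V), v ≠ 1 →
      (∀ s, s ∈ S ∧ s • v = v ↔ (s ∈ X ∧ s • v = v) ∧ s ≠ 1) →
      Nat.card ↥(X ⊓ MulAction.stabilizer K v) = Nat.card {s : K // s ∈ S ∧ s • v = v} + 1 := by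
    intro X S v _ hS
    rw [Nat.card_eq_fintype_card, Nat.card_eq_fintype_card, Fintype.card_subtype, Fintype.card_subtype,
      ← Finset.card_insert_of_notMem (a := (1 : K)) (s := Finset.univ.filter fun s => s ∈ S ∧ s • v = v)
        (fun h1 => ((hS 1).1 (Finset.mem_filter.1 h1).2).2 rfl)]
    congr 1
    ext s
    simp only [Finset.mem_filter, Finset.mem_univ, true_and, Finset.mem_insert, Subgroup.mem_inf,
      MulAction.mem_stabilizer_iff]
    rw [hS s]
    constructor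
    · intro h1
      by_cases hs1 : s = 1
      · exact Or.inl hs1
      · exact Or.inr ⟨h1, hs1⟩
    · rintro (rfl | h1)
      · exact ⟨X.one_mem, one_smul _ _⟩
      · exact h1.1
  rcases hℓ.out.eq_two_or_odd' with h2 | hodd
  swap
  · -- odd prime
    have h3ℓ : 3 ≤ ℓ := by
      have := hℓ.out.two_le
      rcases hodd with ⟨k, hk⟩
      omega
    have hb : ∀ v : V, v ≠ 1 → (∃ s ∈ F, s • v = v) →
        2 * Nat.card ↥(R ⊓ MulAction.stabilizer K v) ≤ 3 * Nat.card {s : K // s ∈ F ∧ s • v = v} := by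
      intro v hv ⟨s, hs, hsv⟩
      have e := hstab R F v hv fun t => ⟨fun h => ⟨⟨(Finset.mem_filter.1 h.1).2.1, h.2⟩, (Finset.mem_filter.1 h.1).2.2.1⟩,
        fun h => ⟨Finset.mem_filter.2 ⟨Finset.mem_univ _, h.1.1, h.2, v, hv, h.1.2⟩, h.1.2⟩⟩
      obtain ⟨k, hk⟩ := IsPGroup.iff_card.1 (hRp.to_le (inf_le_left : R ⊓ MulAction.stabilizer K v ≤ R))
      have hge : 3 ≤ Nat.card ↥(R ⊓ MulAction.stabilizer K v) := by
        have hk0 : k ≠ 0 := by
          rintro rfl
          rw [pow_zero, Subgroup.card_eq_one] at hk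
          exact (Finset.mem_filter.1 hs).2.2.1 (Subgroup.mem_bot.1
            (hk ▸ (⟨(Finset.mem_filter.1 hs).2.1, hsv⟩ : s ∈ R ⊓ MulAction.stabilizer K v)))
        rw [hk]
        exact le_trans h3ℓ (Nat.le_self_pow hk0 ℓ)
      omega
    have h := count_elems hfpf hcov hRW hRL hRn F hFconj ⟨x, hxF, v₀, hv₀, hxv⟩ 2 3 y hb hg₁max
    have hFle : F.card ≤ Nat.card R := by
      rw [Nat.card_eq_fintype_card, Fintype.card_subtype]
      exact Finset.card_le_card fun s hs => Finset.mem_filter.2 ⟨Finset.mem_univ _, (Finset.mem_filter.1 hs).2.1⟩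
    have hm : 2 * W.index ≤ 3 * (y - 1) := by
      refine Nat.le_of_mul_le_mul_right ?_ (Nat.card_pos (α := R))
      calc 2 * W.index * Nat.card R = 2 * (W.index * Nat.card R) := by ring
        _ ≤ 3 * F.card * (y - 1) := h
        _ ≤ 3 * Nat.card R * (y - 1) := by gcongr
        _ = 3 * (y - 1) * Nat.card R := by ring
    refine hbig (le_trans ?_ (le_trans (Nat.pow_le_pow_right (by omega) h3ℓ) hyV))
    obtain ⟨a, ha⟩ : ∃ a, y = a + 1 := ⟨y - 1, by omega⟩
    rw [ha] at hm ⊢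
    simp only [Nat.add_sub_cancel] at hm
    have h4 : (2 * (W.index + 1)) ^ 2 ≤ (3 * a + 2) ^ 2 := Nat.pow_le_pow_left (by omega) 2
    nlinarith
  -- the prime two
  have hyV2 : y ^ 2 ≤ Nat.card V := by rw [h2] at hyV; exact hyV
  refine hbig ?_
  suffices hm : W.index ≤ y - 1 by exact le_trans (Nat.pow_le_pow_left (by omega) 2) hyV2
  by_cases hout : ∃ g ∈ F, g ∉ C
  · obtain ⟨g, hgF, hgC⟩ := hout
    have hgR := (Finset.mem_filter.1 hgF).2.1
    set S := F.filter fun s => g⁻¹ * s ∈ C with hS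
    have hSinv : ∀ l ∈ L, ∀ s ∈ S, l * s * l⁻¹ ∈ S := by
      intro l hl s hs
      obtain ⟨hsF, hsC⟩ := Finset.mem_filter.1 hs
      have hsR := (Finset.mem_filter.1 hsF).2.1
      refine Finset.mem_filter.2 ⟨hFconj l hl s hsF, R.mul_mem (R.inv_mem hgR) (hRn l hl s hsR), ?_⟩
      obtain ⟨i, hi⟩ := MonoidHom.map_cyclic
        (⟨⟨fun a : A => (⟨s * (a : K) * s⁻¹, hAn s (hRL hsR) a a.2⟩ : A), by ext; simp⟩,
          fun a b => by ext; simp [mul_assoc]⟩ : A →* A)
      have hsa : ∀ a ∈ A, s * a * s⁻¹ = a ^ i := fun a ha => congrArg Subtype.val (hi ⟨a, ha⟩)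
      have hga : ∀ a ∈ A, g * a * g⁻¹ = s * a * s⁻¹ := fun a ha => by
        calc g * a * g⁻¹ = g * (a * (g⁻¹ * s)) * (g⁻¹ * s)⁻¹ * g⁻¹ := by group
          _ = g * (g⁻¹ * s * a) * (g⁻¹ * s)⁻¹ * g⁻¹ := by rw [hCA _ hsC a ha]
          _ = s * a * s⁻¹ := by group
      refine Subgroup.mem_centralizer_iff.2 fun a ha => ?_
      have ha' : l⁻¹ * a * l ∈ A := by simpa using hAn l⁻¹ (L.inv_mem hl) a ha
      have e : g * a * g⁻¹ = l * s * l⁻¹ * a * (l * s * l⁻¹)⁻¹ := by
        rw [hga a ha, hsa a ha]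
        calc a ^ i = l * (l⁻¹ * a * l) ^ i * l⁻¹ := by
              rw [show l⁻¹ * a * l = l⁻¹ * a * l⁻¹⁻¹ by group, conj_zpow]; group
          _ = l * (s * (l⁻¹ * a * l) * s⁻¹) * l⁻¹ := by rw [hsa _ ha']
          _ = _ := by group
      calc a * (g⁻¹ * (l * s * l⁻¹)) = g⁻¹ * (g * a * g⁻¹) * (l * s * l⁻¹) := by group
        _ = g⁻¹ * (l * s * l⁻¹) * a := by rw [e]; group
    set i := C.relIndex R with hi
    have hiC : i * Nat.card C = Nat.card R := by
      rw [mul_comm, hi, Subgroup.relIndex, ← Nat.card_congr (Subgroup.subgroupOfEquivOfLe (show C ≤ R from inf_le_left)).toEquiv,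
        Subgroup.card_mul_index]
    have hb : ∀ v : V, v ≠ 1 → (∃ s ∈ S, s • v = v) →
        1 * Nat.card ↥(R ⊓ MulAction.stabilizer K v) ≤ i * Nat.card {s : K // s ∈ S ∧ s • v = v} := by
      intro v hv ⟨s, hs, hsv⟩
      obtain ⟨hsF, hsC⟩ := Finset.mem_filter.1 hs
      have hsR := (Finset.mem_filter.1 hsF).2.1
      have e1 : Nat.card ↥(R ⊓ MulAction.stabilizer K v) ≤ i * Nat.card ↥(C ⊓ MulAction.stabilizer K v) := by
        rw [← Subgroup.relIndex_mul_index (H := C ⊓ MulAction.stabilizer K v) (K := R ⊓ MulAction.stabilizer K v)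
          (inf_le_inf_right _ inf_le_left) |> fun _ => show
          (C ⊓ MulAction.stabilizer K v).relIndex (R ⊓ MulAction.stabilizer K v) *
            Nat.card ↥(C ⊓ MulAction.stabilizer K v) = Nat.card ↥(R ⊓ MulAction.stabilizer K v) by
          rw [mul_comm, Subgroup.relIndex, ← Nat.card_congr (Subgroup.subgroupOfEquivOfLe
            (show C ⊓ MulAction.stabilizer K v ≤ R ⊓ MulAction.stabilizer K v from
              inf_le_inf_right _ inf_le_left)).toEquiv, Subgroup.card_mul_index]]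
        refine Nat.mul_le_mul_right _ ?_
        rw [show (C ⊓ MulAction.stabilizer K v).relIndex (R ⊓ MulAction.stabilizer K v) =
          C.relIndex (R ⊓ MulAction.stabilizer K v) by
          rw [show C ⊓ MulAction.stabilizer K v = C ⊓ (R ⊓ MulAction.stabilizer K v) by
            rw [← inf_assoc, inf_eq_left.2 (show C ≤ R from inf_le_left)], Subgroup.inf_relIndex_right]]
        exact Subgroup.relIndex_le_of_le_right inf_le_left Subgroup.index_ne_zero_of_finite
      rw [one_mul]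
      refine e1.trans (Nat.mul_le_mul_left i ?_)
      rw [Nat.card_eq_fintype_card, Nat.card_eq_fintype_card]
      refine Fintype.card_le_of_injective (fun c => ⟨s * c, ?_, ?_⟩) (fun a b e => Subtype.ext
        (mul_left_cancel (congrArg Subtype.val e)))
      · have hne : s * (c : K) ≠ 1 := fun e => hgC (by
          have hs' : s = (c : K)⁻¹ := eq_inv_of_mul_eq_one_left e
          have : g = s * (g⁻¹ * s)⁻¹ := by group
          rw [this, hs']
          exact C.mul_mem (C.inv_mem c.2.1) (C.inv_mem (hs' ▸ hsC)))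
        refine Finset.mem_filter.2 ⟨Finset.mem_filter.2 ⟨Finset.mem_univ _, R.mul_mem hsR c.2.1.1, hne, v, hv, ?_⟩, ?_⟩
        · rw [mul_smul, show (c : K) • v = v from c.2.2, hsv]
        · rw [← mul_assoc]; exact C.mul_mem hsC c.2.1
      · rw [mul_smul, show (c : K) • v = v from c.2.2, hsv]
    have hgS : g ∈ S := Finset.mem_filter.2 ⟨hgF, by rw [inv_mul_cancel]; exact C.one_mem⟩
    obtain ⟨-, -, -, vg, hvg, hgvg⟩ := Finset.mem_filter.1 hgF
    have h := count_elems hfpf hcov hRW hRL hRn S hSinv ⟨g, hgS, vg, hvg, hgvg⟩ 1 i y hb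
      fun s hs => hg₁max s (Finset.mem_filter.1 hs).1
    have hScard : S.card ≤ Nat.card C := by
      rw [Nat.card_eq_fintype_card, Fintype.card_subtype]
      exact Finset.card_le_card_of_injOn (fun s => g⁻¹ * s)
        (fun s hs => Finset.mem_coe.2 (Finset.mem_filter.2 ⟨Finset.mem_univ _, (Finset.mem_filter.1 hs).2⟩))
        (fun a _ b _ e => mul_left_cancel e)
    rw [one_mul] at h
    refine Nat.le_of_mul_le_mul_right (h.trans ?_) (Nat.card_pos (α := R))
    rw [← hiC, mul_comm (y - 1)]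
    exact Nat.mul_le_mul_right _ (Nat.mul_le_mul_left i hScard)
  -- all elements with fixed points centralise A
  push Not at hout
  have hCL : C ≤ L := fun c hc => hRL hc.1
  have hCp : IsPGroup 2 C := h2 ▸ hRp.to_le inf_le_left
  have hzC : z ∈ C := hAC hzA
  have hsqA : ∀ c ∈ C, ∀ v : V, v ≠ 1 → c • v = v → c * c = 1 := by
    intro c hc v hv hcv
    by_contra hne
    have h3 := hexpC c hc
    rw [h2, pow_two] at h3
    exact hv (hAfix _ h3 hne v (by rw [mul_smul, hcv, hcv]))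
  have hzz : z * z = 1 := by
    have h3 := hzΩ.2
    rwa [h2, pow_two] at h3
  have hz_mem : ∀ t ∈ Subgroup.zpowers z, t = 1 ∨ t = z := by
    rintro _ ⟨n, rfl⟩
    rcases Int.even_or_odd n with ⟨r, rfl⟩ | ⟨r, rfl⟩
    · left; show z ^ (r + r) = 1
      rw [zpow_add, ← (Commute.refl z).mul_zpow r, hzz, one_zpow]
    · right; show z ^ (2 * r + 1) = z
      rw [zpow_add, zpow_one, two_mul, zpow_add, ← (Commute.refl z).mul_zpow r, hzz, one_zpow, one_mul]
  by_cases hA2 : ∃ a ∈ A, a ≠ 1 ∧ a ≠ z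
  · obtain ⟨a, ha, ha1, haz⟩ := hA2
    set S : Finset K := F with hSdef
    have hb : ∀ v : V, v ≠ 1 → (∃ s ∈ S, s • v = v) →
        1 * Nat.card ↥(C ⊓ MulAction.stabilizer K v) ≤ 2 * Nat.card {s : K // s ∈ S ∧ s • v = v} := by
      intro v hv ⟨s, hs, hsv⟩
      rw [hstab C S v hv fun t => ⟨fun h => ⟨⟨hout t h.1, h.2⟩, (Finset.mem_filter.1 h.1).2.2.1⟩,
        fun h => ⟨Finset.mem_filter.2 ⟨Finset.mem_univ _, h.1.1.1, h.2, v, hv, h.1.2⟩, h.1.2⟩⟩]
      haveI : Nonempty {s : K // s ∈ S ∧ s • v = v} := ⟨⟨s, hs, hsv⟩⟩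
      have := Nat.card_pos (α := {s : K // s ∈ S ∧ s • v = v})
      omega
    have h := count_elems hfpf hcov ((inf_le_left : C ≤ R).trans hRW) hCL hCn S hFconj
      ⟨x, hxF, v₀, hv₀, hxv⟩ 1 2 y hb hg₁max
    have hsq : ∀ s ∈ F, s * s = 1 := fun s hs => by
      obtain ⟨-, -, -, v, hv, hsv⟩ := Finset.mem_filter.1 hs
      exact hsqA s (hout s hs) v hv hsv
    -- each translate of a four-element subset of A meets F in at most two elements
    have hF2 : 2 * F.card ≤ Nat.card C := by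
      let Bd : Finset K := Finset.univ.filter fun c => c ∈ C
      have hCc : Nat.card C = Bd.card := by rw [Nat.card_eq_fintype_card, Fintype.card_subtype]
      rw [hCc]
      have hinj : ∀ s ∈ F, ∀ s' ∈ F, s⁻¹ * s' ∈ A → s' = s ∨ s' = s * z := by
        intro s hs s' hs' hss
        have hcom : Commute s (s⁻¹ * s') := (hCA s (hout s hs) _ hss).symm
        have h3 : (s⁻¹ * s') ^ ℓ = 1 := by
          have h4 : (s * (s⁻¹ * s')) ^ ℓ = 1 := by
            rw [mul_inv_cancel_left, h2, pow_two]; exact hsq s' hs'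
          rw [hcom.mul_pow] at h4
          rwa [show s ^ ℓ = 1 by rw [h2, pow_two]; exact hsq s hs, one_mul] at h4
        rcases hz_mem _ (hpowℓ _ hss h3) with h5 | h5
        · exact Or.inl (inv_mul_eq_one.1 h5).symm
        · exact Or.inr (by rw [← h5, mul_inv_cancel_left])
      have hd : Disjoint F (F.image fun s => s * a) := by
        refine Finset.disjoint_left.2 fun s hs hs' => ?_
        obtain ⟨s', hs'', rfl⟩ := Finset.mem_image.1 hs'
        rcases hinj s' hs'' _ hs (by simpa using ha) with h5 | h5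
        · exact ha1 (mul_left_cancel (h5.trans (mul_one s').symm))
        · exact haz (mul_left_cancel h5)
      calc 2 * F.card = (F ∪ F.image fun s => s * a).card := by
            rw [Finset.card_union_of_disjoint hd, Finset.card_image_of_injective _ (mul_left_injective a), two_mul]
        _ ≤ Bd.card := by
          refine Finset.card_le_card fun s hs => Finset.mem_filter.2 ⟨Finset.mem_univ _, ?_⟩
          rcases Finset.mem_union.1 hs with h5 | h5
          · exact hout s h5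
          · obtain ⟨s', hs', rfl⟩ := Finset.mem_image.1 h5
            exact C.mul_mem (hout s' hs') (hAC ha)
    rw [one_mul] at h
    refine Nat.le_of_mul_le_mul_right (h.trans ?_) (Nat.card_pos (α := C))
    rw [mul_comm (y - 1)]
    exact Nat.mul_le_mul_right _ hF2
  · push Not at hA2
    refine absurd (quad_bound hfpf hcop hcov ((inf_le_left : C ≤ R).trans hRW) hCL hCn hCp
      (z := z) ⟨hzC, hz1, hzz, fun c hc => hzcent c hc.1, fun c hc => ?_, fun c hc d hd => ?_, fun c hc hc1 hcz => ?_⟩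
      hzfix ⟨x, hout x hxF, hx1, v₀, hv₀, hxv⟩) hbig
    · have h3 := hexpC c hc
      rw [h2, pow_two] at h3
      exact (em (c * c = 1)).imp id fun h4 => hA2 _ h3 h4
    · rcases hz_mem _ (hcommC d hd c hc) with h5 | h5
      · exact Or.inl (by rw [← one_mul (c * d), ← h5]; group)
      · refine Or.inr ?_
        calc d * c = (d * c * d⁻¹ * c⁻¹) * (c * d) := by group
          _ = c * d * z := by rw [h5, hzcent _ (R.mul_mem hc.1 hd.1)]
    · obtain ⟨b, hb, hne⟩ := hC₂' c hc fun hcA => hcz (hA2 c hcA hc1)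
      exact ⟨b, hb.1, hne.symm⟩

end Cfsg.Lib.DerangeSqrt
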