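import Cfsg.Agent.Chars.AbelianTIExc
import Cfsg.Agent.Chars.Perm
import Cfsg.Agent.Chars.TI
import Cfsg.Agent.Chars.Gallagher
import Cfsg.Agent.Chars.Galois
import Cfsg.Agent.Elementary.DerangementIndex

/-!
A transitive group with an abelian regular subgroup equal to the centraliser of each of its
non-identity elements: if the normaliser is small, it contains the point stabiliser.
-/

set_option autoImplicit false
set_option linter.style.haveILetI false

namespace Cfsg.Lib.DerangeSqrt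

open MulAction Cfsg.Lib.Chars
open scoped ComplexConjugate Classical

universe u v

variable {Γ : Type u} [Group Γ] [Finite Γ] {Ω : Type v} [MulAction Γ Ω] [Finite Ω]

theorem ti_stabilizer_le [FaithfulSMul Γ Ω] (Q : Subgroup Γ) (β : Ω)
    (hQc : ∀ a ∈ Q, ∀ b ∈ Q, a * b = b * a)
    (htr : ∀ x : Ω, ∃ a ∈ Q, a • β = x) (hreg : ∀ a ∈ Q, a • β = β → a = 1)
    (hC : ∀ a ∈ Q, a ≠ 1 → Subgroup.centralizer ({a} : Set Γ) = Q)
    (hsmall : 2 * Nat.card ↥(Subgroup.normalizer (Q : Set Γ) ⊓ stabilizer Γ β) + 1 ≤ Nat.card Ω)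
    (hthree : ∃ u v : Ω, u ≠ β ∧ v ≠ β ∧ ∀ g ∈ stabilizer Γ β, g • u ≠ v)
    (hbig : (Nat.card ↥(Subgroup.normalizer (Q : Set Γ) ⊓ stabilizer Γ β) - 1) ^ 2 < Nat.card Ω) :
    stabilizer Γ β ≤ Subgroup.normalizer (Q : Set Γ) := by
  haveI := Fintype.ofFinite Γ
  haveI := Fintype.ofFinite Ω
  haveI := Fintype.ofFinite Q
  haveI : Nonempty Ω := ⟨β⟩
  haveI hpre : IsPretransitive Γ Ω := ⟨fun x y => by
    obtain ⟨a, -, ha⟩ := htr x
    obtain ⟨b, -, hb⟩ := htr y
    exact ⟨b * a⁻¹, by rw [mul_smul, ← ha, inv_smul_smul, hb]⟩⟩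
  set n := Nat.card Ω with hn
  set N := Subgroup.normalizer (Q : Set Γ) with hN
  set W := N ⊓ stabilizer Γ β with hW
  set w := Nat.card W with hw
  have hQn : Nat.card Q = n := by
    refine Nat.card_congr (Equiv.ofBijective (fun a : Q => (a : Γ) • β) ⟨fun a b e => ?_, fun x => ?_⟩)
    · have h := hreg ((b : Γ)⁻¹ * a) (Q.mul_mem (Q.inv_mem b.2) a.2)
        (by rw [mul_smul, show (a : Γ) • β = (b : Γ) • β from e, inv_smul_smul])
      exact Subtype.ext (inv_mul_eq_one.1 h).symm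
    · obtain ⟨a, ha, e⟩ := htr x; exact ⟨⟨a, ha⟩, e⟩
  have hNcard : Nat.card N = n * w := by
    rw [DerangementIndex.card_eq_orbit_mul N β, show orbit N β = Set.univ from Set.eq_univ_of_forall fun x => ?_,
      Set.ncard_univ]
    obtain ⟨a, ha, e⟩ := htr x
    exact ⟨⟨a, Subgroup.le_normalizer ha⟩, e⟩
  haveI : Fintype (Q →* ℂˣ) := Fintype.ofFinite _
  have hidx : (Q.subgroupOf N).index = w := by
    have h1 := (Q.subgroupOf N).card_mul_index
    rw [Nat.card_congr (Subgroup.subgroupOfEquivOfLe (show Q ≤ N from Subgroup.le_normalizer)).toEquiv, hQn,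
      hNcard] at h1
    exact Nat.eq_of_mul_eq_mul_left Nat.card_pos h1
  obtain ⟨X, -, hXoff, hXconst, -, -, -⟩ := AbelianTI.exists_exceptional hC hidx (by rw [hQn]; exact hsmall)
  have hn0 : (n : ℂ) ≠ 0 := by exact_mod_cast Nat.card_pos.ne'
  have hwpos : 0 < w := Nat.card_pos
  have hn2 : 2 ≤ n := by omega
  -- the permutation character
  let one : Cfsg.IrrCharacter Γ := principal Γ
  have hπ := isCharacter_permChar (G := Γ) Ω
  obtain ⟨a, ha⟩ := IsCharacter.exists_decomp hπ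
  have haC : permChar Γ Ω = ∑ χ : Cfsg.IrrCharacter Γ, (a χ : ℂ) • (χ : Γ → ℂ) := by
    rw [ha]; simp [← Nat.cast_smul_eq_nsmul ℂ]
  have ha1 : a one = 1 := by
    have h := classInner_permChar_one (G := Γ) Ω
    have h1 : Nat.card (orbitRel.Quotient Γ Ω) = 1 :=
      Nat.card_eq_one_iff_unique.2 ⟨(pretransitive_iff_subsingleton_quotient Γ Ω).1 hpre,
        ⟨Quotient.mk'' β⟩⟩
    rw [h1, Nat.cast_one, show (fun _ : Γ => (1 : ℂ)) = (one : Γ → ℂ) from rfl, haC, classInner_irrSum] at h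
    exact_mod_cast h
  let T : Finset (Cfsg.IrrCharacter Γ) := Finset.univ.filter fun χ => χ ≠ one ∧ a χ ≠ 0
  let res : Cfsg.IrrCharacter Γ → Q → ℂ := fun χ x => (χ : Γ → ℂ) x
  have hres : ∀ χ, Cfsg.IsCharacter Q (res χ) := fun χ => IsCharacter.restrict (isCharacter_of_irr χ.2) Q
  choose M hM using fun (χ ψ : Cfsg.IrrCharacter Γ) => classInner_char_nat (hres χ) (hres ψ)
  choose M1 hM1 using fun (χ : Cfsg.IrrCharacter Γ) => classInner_char_nat (hres χ) (isCharacter_one (G := Q))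
  have hdiag : ∀ χ : Cfsg.IrrCharacter Γ, deg (χ : Γ → ℂ) ≤ M χ χ := by
    intro χ
    obtain ⟨m, hm⟩ := IsCharacter.exists_decomp (hres χ)
    have h1 : (M χ χ : ℂ) = ∑ ψ, (m ψ : ℂ) * conj (m ψ : ℂ) := by
      rw [← hM, hm]
      simp only [← Nat.cast_smul_eq_nsmul ℂ]
      exact classInner_self_decomp _
    have h1' : M χ χ = ∑ ψ, m ψ * m ψ := by simpa [← Nat.cast_mul, ← Nat.cast_sum] using h1
    have h2 : deg (χ : Γ → ℂ) = ∑ ψ, m ψ := by
      have h3 : (χ : Γ → ℂ) ((1 : Q) : Γ) = ∑ ψ, (m ψ : ℂ) := by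
        rw [show (χ : Γ → ℂ) ((1 : Q) : Γ) = res χ 1 from rfl, hm, Finset.sum_apply]
        refine Finset.sum_congr rfl fun ψ _ => ?_
        rw [Pi.smul_apply, irr_deg_one_of_comm (fun a b => Subtype.ext (hQc a a.2 b b.2)) ψ.2, nsmul_eq_mul, mul_one]
      rw [Subgroup.coe_one, irr_apply_one_eq_deg] at h3
      exact_mod_cast h3
    rw [h1', h2]
    exact Finset.sum_le_sum fun ψ _ => Nat.le_mul_self _
  -- the restriction of the permutation character minus one
  let φ : Q → ℂ := fun x => if x = 1 then (n : ℂ) - 1 else -1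
  have hφ : φ = ∑ χ ∈ T, (a χ : ℂ) • res χ := by
    funext x
    have h1 := congrFun haC (x : Γ)
    rw [Finset.sum_apply, ← Finset.add_sum_erase _ _ (Finset.mem_univ one),
      ← Finset.sum_subset (s₁ := T) (s₂ := Finset.univ.erase one)
      (fun χ hχ => Finset.mem_erase.2 ⟨(Finset.mem_filter.1 hχ).2.1, Finset.mem_univ _⟩)
      (fun χ hχ hχ' => by
        have : a χ = 0 := by_contra fun h => hχ' (Finset.mem_filter.2 ⟨Finset.mem_univ _, (Finset.mem_erase.1 hχ).1, h⟩)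
        simp [this])] at h1
    have h2 : permChar Γ Ω (x : Γ) = if x = 1 then (n : ℂ) else 0 := by
      show (Nat.card (fixedBy Ω (x : Γ)) : ℂ) = _
      split_ifs with hx
      · subst hx
        rw [Subgroup.coe_one, fixedBy_one_eq_univ, Nat.card_univ, hn]
      · rw [Nat.cast_eq_zero, Nat.card_eq_zero]
        left
        refine ⟨fun ⟨y, hy⟩ => hx (Subtype.ext ?_)⟩
        obtain ⟨b, hb, rfl⟩ := htr y
        refine hreg x x.2 ?_
        have hy' : (x : Γ) • b • β = b • β := hy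
        rw [← mul_smul, hQc x x.2 b hb, mul_smul] at hy'
        exact smul_left_cancel _ hy'
    rw [h2] at h1
    have h3 : ((a one : ℂ) • (one : Γ → ℂ)) (x : Γ) = 1 := by
      rw [ha1, Nat.cast_one, one_smul]; rfl
    rw [h3] at h1
    show (if x = 1 then (n : ℂ) - 1 else -1) = _
    rw [Finset.sum_apply]
    simp only [Pi.smul_apply, smul_eq_mul, res] at h1 ⊢
    split_ifs with hx <;> simp only [hx, if_true, if_false] at h1 ⊢ <;> linear_combination h1
  have hφφ : Cfsg.classInner φ φ = (n : ℂ) - 1 := by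
    rw [classInner_def, hQn, ← Finset.add_sum_erase _ _ (Finset.mem_univ (1 : Q)),
      Finset.sum_congr rfl fun x hx => show φ x * conj (φ x) = 1 by simp [φ, (Finset.mem_erase.1 hx).1]]
    rw [Finset.sum_const, Finset.card_erase_of_mem (Finset.mem_univ _), Finset.card_univ,
      ← Nat.card_eq_fintype_card, hQn, nsmul_eq_mul, mul_one, Nat.cast_sub (by omega)]
    simp only [φ, if_pos, map_sub, map_one, map_natCast, Nat.cast_one]
    field_simp
    ring
  have hsum : ∑ χ ∈ T, a χ * deg (χ : Γ → ℂ) + 1 = n := by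
    have h1 := congrFun hφ 1
    rw [Finset.sum_apply] at h1
    simp only [φ, if_pos, Pi.smul_apply, smul_eq_mul, res, Subgroup.coe_one, irr_apply_one_eq_deg] at h1
    apply Nat.cast_injective (R := ℂ)
    push_cast
    linear_combination -h1
  have hnorm : ∑ χ ∈ T, ∑ ψ ∈ T, a χ * a ψ * M χ ψ + 1 = n := by
    have h1 := hφφ
    rw [hφ, classInner_sum_left] at h1
    simp only [classInner_sum_right, classInner_smul_left, classInner_smul_right, map_natCast, hM] at h1
    apply Nat.cast_injective (R := ℂ)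
    push_cast
    have h2 : ∑ χ ∈ T, ∑ ψ ∈ T, (a χ : ℂ) * a ψ * M χ ψ = (n : ℂ) - 1 := by
      rw [← h1]
      exact Finset.sum_congr rfl fun χ _ => Finset.sum_congr rfl fun ψ _ => by ring
    linear_combination h2
  have htight : ∀ χ ∈ T, a χ = 1 ∧ M χ χ = deg (χ : Γ → ℂ) ∧ ∀ ψ ∈ T, ψ ≠ χ → M χ ψ = 0 := by
    have hge : ∀ χ ∈ T, a χ * deg (χ : Γ → ℂ) ≤ ∑ ψ ∈ T, a χ * a ψ * M χ ψ := fun χ hχ =>
      le_trans (by
        have := Nat.pos_of_ne_zero (Finset.mem_filter.1 hχ).2.2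
        have := hdiag χ
        calc a χ * deg (χ : Γ → ℂ) ≤ a χ * M χ χ := Nat.mul_le_mul_left _ (hdiag χ)
          _ ≤ a χ * a χ * M χ χ := Nat.mul_le_mul_right _ (Nat.le_mul_self _))
        (Finset.single_le_sum (f := fun ψ => a χ * a ψ * M χ ψ) (fun _ _ => Nat.zero_le _) hχ)
    have heq := (Finset.sum_eq_sum_iff_of_le hge).1 (by omega)
    intro χ hχ
    have h0 := heq χ hχ
    rw [← Finset.add_sum_erase _ _ hχ] at h0
    have hpos := Nat.pos_of_ne_zero (Finset.mem_filter.1 hχ).2.2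
    have hd := deg_irr_pos χ
    have hd' := hdiag χ
    have ha' : a χ = 1 := by
      by_contra hne
      have h2 : a χ * deg (χ : Γ → ℂ) < a χ * a χ * M χ χ := by
        calc a χ * deg (χ : Γ → ℂ) ≤ a χ * M χ χ := Nat.mul_le_mul_left _ hd'
          _ < a χ * a χ * M χ χ := Nat.mul_lt_mul_of_pos_right
              (by calc a χ = a χ * 1 := (mul_one _).symm
                    _ < a χ * a χ := Nat.mul_lt_mul_of_pos_left (by omega) hpos) (by omega)
      omega
    rw [ha'] at h0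
    simp only [one_mul] at h0
    refine ⟨ha', by omega, fun ψ hψ hne => ?_⟩
    have h3 : ∑ ψ ∈ T.erase χ, a ψ * M χ ψ = 0 := by omega
    have := Finset.sum_eq_zero_iff.1 h3 ψ (Finset.mem_erase.2 ⟨hne, hψ⟩)
    exact (mul_eq_zero.1 this).resolve_left (Finset.mem_filter.1 hψ).2.2
  have htriv : ∀ χ ∈ T, M1 χ = 0 := by
    have h1 : Cfsg.classInner φ (fun _ => 1) = 0 := by
      rw [classInner_def, ← Finset.add_sum_erase _ _ (Finset.mem_univ (1 : Q)),
        Finset.sum_congr rfl fun x hx => show φ x * conj (1 : ℂ) = -1 by simp [φ, (Finset.mem_erase.1 hx).1]]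
      rw [Finset.sum_const, Finset.card_erase_of_mem (Finset.mem_univ _), Finset.card_univ,
        ← Nat.card_eq_fintype_card, hQn, nsmul_eq_mul, Nat.cast_sub (by omega)]
      simp [φ]
    rw [hφ, classInner_sum_left] at h1
    simp only [classInner_smul_left, hM1] at h1
    have h2 : ∑ χ ∈ T, a χ * M1 χ = 0 := by exact_mod_cast h1
    intro χ hχ
    exact (mul_eq_zero.1 (Finset.sum_eq_zero_iff.1 h2 χ hχ)).resolve_left (Finset.mem_filter.1 hχ).2.2
  -- orbits on pairs
  have hrank : 1 + T.card = Nat.card (orbitRel.Quotient (stabilizer Γ β) Ω) := by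
    have h1 := classInner_permChar_one (G := Γ) (Ω × Ω)
    have h2 : Cfsg.classInner (permChar Γ Ω) (permChar Γ Ω) =
        Cfsg.classInner (permChar Γ (Ω × Ω)) (fun _ => 1) := by
      rw [classInner_def, classInner_def]
      refine congrArg _ (Finset.sum_congr rfl fun g _ => ?_)
      simp only [permChar, map_natCast, map_one, mul_one]
      rw [← Nat.cast_mul, ← Nat.card_prod]
      exact congrArg Nat.cast (Nat.card_congr
        ⟨fun p => ⟨(p.1.1, p.2.1), Prod.ext p.1.2 p.2.2⟩,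
          fun q => (⟨q.1.1, congrArg Prod.fst q.2⟩, ⟨q.1.2, congrArg Prod.snd q.2⟩),
          fun _ => rfl, fun _ => rfl⟩)
    rw [← h2, haC, classInner_self_decomp] at h1
    have h3 : ∑ χ, a χ * a χ = Nat.card (orbitRel.Quotient Γ (Ω × Ω)) := by
      simpa [← Nat.cast_mul, ← Nat.cast_sum] using h1
    have h4 : ∑ χ, a χ * a χ = 1 + T.card := by
      rw [← Finset.add_sum_erase _ _ (Finset.mem_univ one), ha1, mul_one,
        ← Finset.sum_subset (s₁ := T) (s₂ := Finset.univ.erase one)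
        (fun χ hχ => Finset.mem_erase.2 ⟨(Finset.mem_filter.1 hχ).2.1, Finset.mem_univ _⟩)
        (fun χ hχ hχ' => by
          have : a χ = 0 := by_contra fun h => hχ' (Finset.mem_filter.2 ⟨Finset.mem_univ _, (Finset.mem_erase.1 hχ).1, h⟩)
          simp [this]), Finset.card_eq_sum_ones]
      congr 1
      exact Finset.sum_congr rfl fun χ hχ => by rw [(htight χ hχ).1]
    rw [← h4, h3]
    refine (Nat.card_congr (Equiv.ofBijective (Quotient.lift (s := orbitRel (stabilizer Γ β) Ω)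
      (fun x => (Quotient.mk'' (β, x) : orbitRel.Quotient Γ (Ω × Ω))) ?_) ⟨?_, ?_⟩)).symm
    · rintro x y ⟨g, rfl⟩
      exact Quotient.sound' ⟨(g : Γ), Prod.ext g.2 rfl⟩
    · intro p q
      induction p using Quotient.ind with
      | _ x =>
        induction q using Quotient.ind with
        | _ y =>
          intro h
          obtain ⟨g, hg⟩ := Quotient.exact' (show Quotient.mk'' (β, x) = Quotient.mk'' (β, y) from h)
          have h1 : g • β = β := congrArg Prod.fst hg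
          have h2 : g • y = x := congrArg Prod.snd hg
          exact Quotient.sound ⟨⟨g, h1⟩, h2⟩
    · intro p
      induction p using Quotient.inductionOn' with
      | _ p =>
        obtain ⟨x, y⟩ := p
        obtain ⟨g, hg⟩ := exists_smul_eq Γ x β
        exact ⟨Quotient.mk _ (g • y), Quotient.sound' ⟨g, Prod.ext hg rfl⟩⟩
  have hT2 : 2 ≤ T.card := by
    obtain ⟨u, v, hu, hv, huv⟩ := hthree
    by_contra hlt
    have hle : Nat.card (orbitRel.Quotient (stabilizer Γ β) Ω) ≤ 2 := by omega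
    haveI := Fintype.ofFinite (orbitRel.Quotient (stabilizer Γ β) Ω)
    have hne : ∀ x y : Ω, (∀ g ∈ stabilizer Γ β, g • y ≠ x) →
        (Quotient.mk'' x : orbitRel.Quotient (stabilizer Γ β) Ω) ≠ Quotient.mk'' y := fun x y h e => by
      obtain ⟨g, hg⟩ := Quotient.exact' e
      exact h g g.2 hg
    have h1 := hne β u (fun g hg e => hu (by
      have : g • u = g • β := e.trans (hg : g • β = β).symm
      exact smul_left_cancel g this))
    have h2 := hne β v (fun g hg e => hv (by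
      have : g • v = g • β := e.trans (hg : g • β = β).symm
      exact smul_left_cancel g this))
    have h3 := hne v u huv
    have : ({Quotient.mk'' β, Quotient.mk'' u, Quotient.mk'' v} : Finset (orbitRel.Quotient (stabilizer Γ β) Ω)).card = 3 :=
      Finset.card_eq_three.2 ⟨_, _, _, h1, h2, h3.symm, rfl⟩
    have h4 := Finset.card_le_univ ({Quotient.mk'' β, Quotient.mk'' u, Quotient.mk'' v} :
      Finset (orbitRel.Quotient (stabilizer Γ β) Ω))
    rw [this, ← Nat.card_eq_fintype_card] at h4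
    omega
  -- every constituent is exceptional
  have hTX : ∀ χ ∈ T, χ ∈ X := by
    intro χ hχ
    by_contra hnX
    obtain ⟨c, hc⟩ := hXconst χ hnX
    have h0 : Cfsg.classInner (res χ) (fun _ => 1) = 0 := by rw [hM1, htriv χ hχ, Nat.cast_zero]
    rw [classInner_def, ← Finset.add_sum_erase _ _ (Finset.mem_univ (1 : Q)),
      Finset.sum_congr rfl fun x hx => show res χ x * conj (1 : ℂ) = (c : ℂ) by
        rw [map_one, mul_one]; exact hc x x.2 fun e => (Finset.mem_erase.1 hx).1 (Subtype.ext e),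
      Finset.sum_const, Finset.card_erase_of_mem (Finset.mem_univ _), Finset.card_univ,
      ← Nat.card_eq_fintype_card, hQn, nsmul_eq_mul, map_one, mul_one, mul_eq_zero] at h0
    have h1 := h0.resolve_left (inv_ne_zero hn0)
    simp only [res, Subgroup.coe_one, irr_apply_one_eq_deg] at h1
    have h2 : (deg (χ : Γ → ℂ) : ℤ) + ((n - 1 : ℕ) : ℤ) * c = 0 := by exact_mod_cast h1
    have hd := deg_irr_pos χ
    have h3 : n - 1 ≤ deg (χ : Γ → ℂ) := by
      refine Nat.le_of_dvd hd (Int.natCast_dvd_natCast.1 ⟨-c, ?_⟩)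
      linear_combination h2
    obtain ⟨ψ, hψ, hne⟩ := Finset.exists_mem_ne (show 1 < T.card by omega) χ
    have h4 : a χ * deg (χ : Γ → ℂ) + a ψ * deg (ψ : Γ → ℂ) ≤ ∑ χ ∈ T, a χ * deg (χ : Γ → ℂ) := by
      rw [← Finset.add_sum_erase _ _ hχ]
      exact Nat.add_le_add_left (Finset.single_le_sum (f := fun χ => a χ * deg (χ : Γ → ℂ))
        (fun _ _ => Nat.zero_le _) (Finset.mem_erase.2 ⟨hne, hψ⟩)) _
    rw [(htight χ hχ).1, (htight ψ hψ).1, one_mul, one_mul] at h4
    have := deg_irr_pos ψ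
    omega
  -- constituents have degree w
  have hTI : ∀ g : Γ, g ∉ Subgroup.normalizer (Q : Set Γ) → ∀ t ∈ (Q : Set Γ), g * t * g⁻¹ ∈ (Q : Set Γ) → t = 1 := by
    intro g hg t ht hgt
    by_contra ht1
    exact hg ((AbelianTI.setting hC).ti g t ht ht1 hgt)
  haveI : Fintype N := Fintype.ofFinite _
  have hdeg : ∀ χ ∈ T, deg (χ : Γ → ℂ) = w := by
    intro χ hχ
    obtain ⟨ψ, hψ, hne⟩ := Finset.exists_mem_ne (show 1 < T.card by omega) χ
    let f : Γ → ℂ := fun g => (χ : Γ → ℂ) g - (ψ : Γ → ℂ) g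
    have hf : Cfsg.IsClassFunction Γ f := fun g h => by
      simp only [f, isClassFunction_irr χ g h, isClassFunction_irr ψ g h]
    have hoff : ∀ g : Γ, (∀ x : Γ, x⁻¹ * g * x ∈ Q → x⁻¹ * g * x = 1) → f g = 0 := fun g hg =>
      sub_eq_zero.2 (hXoff χ (hTX χ hχ) ψ (hTX ψ hψ) g hg)
    have hf1 : f 1 = 0 := hoff 1 fun x _ => by group
    let g₀ : N → ℂ := fun x => if (x : Γ) ∈ Q then f x else 0
    have hg₀ : Cfsg.IsClassFunction N g₀ := by
      intro g h
      have hiff : (((h * g * h⁻¹ : N)) : Γ) ∈ Q ↔ (g : Γ) ∈ Q :=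
        ((Subgroup.mem_normalizer_iff.1 h.2) (g : Γ)).symm
      show (if _ then _ else _) = if _ then _ else _
      by_cases hgQ : (g : Γ) ∈ Q
      · rw [if_pos (hiff.2 hgQ), if_pos hgQ]; exact hf g h
      · rw [if_neg (fun h' => hgQ (hiff.1 h')), if_neg hgQ]
    have hg₀T : ∀ x : N, (x : Γ) ∉ (Q : Set Γ) → g₀ x = 0 := fun x hx => if_neg hx
    have hind : f = Cfsg.indFun N g₀ := by
      funext g
      by_cases hg : ∀ x : Γ, x⁻¹ * g * x ∈ Q → x⁻¹ * g * x = 1
      · rw [hoff g hg, indFun_apply, Finset.sum_eq_zero (fun x _ => ?_), mul_zero]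
        by_cases hm : x⁻¹ * g * x ∈ N
        · rw [extendByZero_mem _ hm]
          show (if _ then _ else _) = _
          split_ifs with hq
          · show f (x⁻¹ * g * x) = 0
            rw [hg x hq]; exact hf1
          · rfl
        · exact extendByZero_not_mem _ hm
      · push Not at hg
        obtain ⟨x, hx, hx1⟩ := hg
        have e : f g = f (x⁻¹ * g * x) := by
          rw [← hf (x⁻¹ * g * x) x]; congr 1; group
        have e2 : Cfsg.indFun N g₀ g = Cfsg.indFun N g₀ (x⁻¹ * g * x) := by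
          rw [← isClassFunction_indFun N g₀ (x⁻¹ * g * x) x]; congr 1; group
        rw [e, e2, indFun_TI_apply' N (Q : Set Γ) hTI hg₀ hg₀T ⟨x⁻¹ * g * x, Subgroup.le_normalizer hx⟩ hx
          (fun h => hx1 (congrArg Subtype.val h))]
        exact (if_pos hx).symm
    have h2 : Cfsg.classInner f f = 2 := by
      rw [show f = (χ : Γ → ℂ) - (ψ : Γ → ℂ) from rfl, classInner_sub_left, classInner_sub_right,
        classInner_sub_right, classInner_irr_self, classInner_irr_self, classInner_irr_ne hne,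
        classInner_irr_ne hne.symm]
      norm_num
    have h3 : Cfsg.classInner f f = Cfsg.classInner g₀ g₀ := by
      conv_lhs => rw [hind]
      exact classInner_indFun_TI (Q : Set Γ) hTI hg₀T
        (show (if _ then _ else _) = (0 : ℂ) by rw [if_pos (by simp)]; exact hf1) hg₀ hg₀T
    have h4 : Cfsg.classInner g₀ g₀ * w = Cfsg.classInner (fun x : Q => f x) (fun x : Q => f x) := by
      rw [classInner_def, classInner_def, hNcard, hQn, Nat.cast_mul,
        show ∑ x : N, g₀ x * conj (g₀ x) = ∑ x : Q, f x * conj (f x) from ?_]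
      · have hw0 : (w : ℂ) ≠ 0 := by exact_mod_cast Nat.card_pos.ne'
        field_simp
      · rw [← Finset.sum_filter_add_sum_filter_not Finset.univ (fun x : N => (x : Γ) ∈ Q),
          Finset.sum_eq_zero (s := Finset.univ.filter fun x : N => ¬ (x : Γ) ∈ Q)
            (fun x hx => by simp [g₀, (Finset.mem_filter.1 hx).2]), add_zero]
        refine Finset.sum_nbij' (fun x => if h : (x : Γ) ∈ Q then (⟨x, h⟩ : Q) else 1)
          (fun y => ⟨y, Subgroup.le_normalizer y.2⟩) ?_ ?_ ?_ ?_ ?_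
        · intro x _; simp
        · intro y _; simp
        · intro x hx; simp [(Finset.mem_filter.1 hx).2]
        · intro y _; simp
        · intro x hx; simp [g₀, (Finset.mem_filter.1 hx).2]
    have h5 : Cfsg.classInner (fun x : Q => f x) (fun x : Q => f x) =
        (deg (χ : Γ → ℂ) : ℂ) + deg (ψ : Γ → ℂ) := by
      rw [show (fun x : Q => f x) = res χ - res ψ from rfl, classInner_sub_left, classInner_sub_right,
        classInner_sub_right, hM, hM, hM, hM, (htight χ hχ).2.1, (htight ψ hψ).2.1,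
        (htight χ hχ).2.2 ψ hψ hne, (htight ψ hψ).2.2 χ hχ hne.symm]
      simp
    have h6 : deg (χ : Γ → ℂ) = deg (ψ : Γ → ℂ) := by
      have := sub_eq_zero.1 hf1
      rw [irr_apply_one_eq_deg, irr_apply_one_eq_deg] at this
      exact_mod_cast this
    rw [← h3, h2, h5, ← h6] at h4
    have h7 : (2 * w : ℕ) = deg (χ : Γ → ℂ) + deg (χ : Γ → ℂ) := by exact_mod_cast h4
    omega
  have hkw : T.card * w + 1 = n := by
    rw [← hsum, Finset.sum_congr rfl (fun χ hχ => by rw [(htight χ hχ).1, one_mul, hdeg χ hχ]),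
      Finset.sum_const, smul_eq_mul]
  -- orbits of W
  have hWfix : ∀ g ∈ W, g ≠ 1 → ∀ x : Ω, g • x = x → x = β := by
    intro g hg hg1 x hx
    obtain ⟨b, hb, rfl⟩ := htr x
    by_contra hne
    have hb1 : b ≠ 1 := fun e => hne (by rw [e, one_smul])
    have hcb : g * b * g⁻¹ = b := by
      have hmem : g * b * g⁻¹ ∈ Q := (Subgroup.mem_normalizer_iff.1 hg.1 b).1 hb
      have h := hreg (b⁻¹ * (g * b * g⁻¹)) (Q.mul_mem (Q.inv_mem hb) hmem) (by
        rw [mul_smul, mul_smul (g * b), show g⁻¹ • β = β from inv_smul_eq_iff.2 hg.2.symm, mul_smul, hx,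
          inv_smul_smul])
      exact (inv_mul_eq_one.1 h).symm
    have hgQ : g ∈ Q := by
      rw [← hC b hb hb1, Subgroup.mem_centralizer_singleton_iff]
      exact mul_inv_eq_iff_eq_mul.1 hcb
    exact hg1 (hreg g hgQ hg.2)
  have horbW : Nat.card (orbitRel.Quotient W Ω) = 1 + T.card := by
    haveI := Fintype.ofFinite W
    haveI := Fintype.ofFinite (orbitRel.Quotient W Ω)
    have hB := sum_card_fixedBy_eq_card_orbits_mul_card_group W Ω
    simp only [Fintype.card_eq_nat_card] at hB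
    rw [← Finset.add_sum_erase _ _ (Finset.mem_univ (1 : W)), Finset.sum_congr rfl (g := fun _ => 1)
      (fun g hg => ?_), Finset.sum_const, Finset.card_erase_of_mem (Finset.mem_univ _), Finset.card_univ,
      ← Nat.card_eq_fintype_card, smul_eq_mul, mul_one, fixedBy_one_eq_univ, Nat.card_univ, ← hn, ← hw] at hB
    · refine Nat.eq_of_mul_eq_mul_right (show 0 < w from Nat.card_pos) ?_
      rw [← hB, add_mul, one_mul]
      have := Nat.card_pos (α := W)
      omega
    · rw [Nat.card_eq_one_iff_unique]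
      refine ⟨⟨fun p q => Subtype.ext ?_⟩, ⟨β, g.2.2⟩⟩
      have h1 := fun (p : fixedBy Ω g) => hWfix g g.2 (fun e => (Finset.mem_erase.1 hg).1 (Subtype.ext e)) p p.2
      rw [h1 p, h1 q]
  have horb : ∀ x : Ω, ∀ g ∈ stabilizer Γ β, ∃ h ∈ W, h • x = g • x := by
    haveI := Fintype.ofFinite (orbitRel.Quotient W Ω)
    haveI := Fintype.ofFinite (orbitRel.Quotient (stabilizer Γ β) Ω)
    let p : orbitRel.Quotient W Ω → orbitRel.Quotient (stabilizer Γ β) Ω :=
      Quotient.map' id fun x y ⟨g, hg⟩ => ⟨⟨(g : Γ), g.2.2⟩, hg⟩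
    have hps : Function.Surjective p := fun q => by
      induction q using Quotient.inductionOn' with
      | _ x => exact ⟨Quotient.mk'' x, rfl⟩
    have hp : Function.Bijective p := (Fintype.bijective_iff_surjective_and_card p).2
      ⟨hps, by rw [← Nat.card_eq_fintype_card, ← Nat.card_eq_fintype_card, horbW, hrank]⟩
    intro x g hg
    have e := hp.1 (show p (Quotient.mk'' (g • x)) = p (Quotient.mk'' x) from Quotient.sound' ⟨⟨g, hg⟩, rfl⟩)
    obtain ⟨h, hh⟩ := Quotient.exact' e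
    exact ⟨h, h.2, hh⟩
  -- fixed points
  have hmove : ∀ x : Γ, ∀ b ∈ Q, x • b • β = b • β → ∀ δ : Ω, x • δ ≠ δ →
      ∃ g ∈ W, g ≠ 1 ∧ x • δ = (b * g * b⁻¹) • δ := by
    intro x b _ hx δ hδ
    have hmem : b⁻¹ * x * b ∈ stabilizer Γ β := by
      rw [mem_stabilizer_iff, mul_smul, mul_smul, hx, inv_smul_smul]
    obtain ⟨g, hg, e⟩ := horb (b⁻¹ • δ) _ hmem
    rw [mul_smul, mul_smul, smul_inv_smul] at e
    have e' : x • δ = (b * g * b⁻¹) • δ := by rw [mul_smul, mul_smul, e, smul_inv_smul]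
    refine ⟨g, hg, fun h1 => hδ ?_, e'⟩
    rw [e', h1, mul_one, mul_inv_cancel, one_smul]
  have hact : ∀ g ∈ W, ∀ b ∈ Q, ∀ c ∈ Q, (b * g * b⁻¹) • c • β = (b * (g * (b⁻¹ * c) * g⁻¹)) • β := by
    intro g hg b _ c _
    have : g⁻¹ • β = β := inv_smul_eq_iff.2 hg.2.symm
    rw [← mul_smul, mul_smul b, mul_smul (g * (b⁻¹ * c)), this, ← mul_smul]
    congr 1
    group
  have hQinj : ∀ b ∈ Q, ∀ c ∈ Q, b • β = c • β → b = c := by
    intro b hb c hc e
    exact (inv_mul_eq_one.1 (hreg (c⁻¹ * b) (Q.mul_mem (Q.inv_mem hc) hb) (by rw [mul_smul, e, inv_smul_smul]))).symm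
  have hconjQ : ∀ g ∈ W, ∀ b ∈ Q, g * b * g⁻¹ ∈ Q := fun g hg b hb =>
    (Subgroup.mem_normalizer_iff.1 hg.1 b).1 hb
  have hcommW : ∀ g ∈ W, ∀ h ∈ W, ∀ d ∈ Q, d ≠ 1 → g * d * g⁻¹ = h * d * h⁻¹ → g = h := by
    intro g hg h hh d hd hd1 e
    have hmem : h⁻¹ * g ∈ Subgroup.centralizer ({d} : Set Γ) := by
      rw [Subgroup.mem_centralizer_singleton_iff]
      calc h⁻¹ * g * d = h⁻¹ * (g * d * g⁻¹) * g := by group
        _ = d * (h⁻¹ * g) := by rw [e]; group
    rw [hC d hd hd1] at hmem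
    exact (inv_mul_eq_one.1 (hreg _ hmem (W.mul_mem (W.inv_mem hh) hg).2)).symm
  have hfixle : ∀ x : Γ, x ≠ 1 → Nat.card (fixedBy Ω x) ≤ w - 1 := by
    intro x hx
    obtain ⟨δ, hδ⟩ : ∃ δ : Ω, x • δ ≠ δ := by
      by_contra hc
      push Not at hc
      exact hx (eq_of_smul_eq_smul fun δ : Ω => by rw [hc δ, one_smul])
    have hex : ∀ p : fixedBy Ω x, ∃ bg : Γ × Γ, bg.1 ∈ Q ∧ bg.2 ∈ W ∧ bg.2 ≠ 1 ∧ bg.1 • β = (p : Ω) ∧
        x • δ = (bg.1 * bg.2 * bg.1⁻¹) • δ := by
      intro p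
      obtain ⟨b, hb, e⟩ := htr (p : Ω)
      obtain ⟨g, hg, hg1, e'⟩ := hmove x b hb (by rw [e]; exact p.2) δ hδ
      exact ⟨(b, g), hb, hg, hg1, e, e'⟩
    choose bg hbQ hgW hg1 hbp hbg using hex
    obtain ⟨d, hd, rfl⟩ := htr δ
    refine le_trans (Nat.card_le_card_of_injective (β := {g : Γ // g ∈ W ∧ g ≠ 1})
      (fun p => ⟨(bg p).2, hgW p, hg1 p⟩) fun p q e => ?_) (le_of_eq ?_)
    · have e' : (bg p).2 = (bg q).2 := congrArg Subtype.val e
      refine Subtype.ext ?_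
      rw [← hbp p, ← hbp q]
      congr 1
      set g := (bg p).2
      set b := (bg p).1
      set c := (bg q).1
      have hb := hbQ p
      have hc := hbQ q
      have hg := hgW p
      have h1 := (hbg p).symm.trans (hbg q)
      rw [← e', hact g hg b hb d hd, hact g hg c hc d hd] at h1
      have h2 := hQinj _ (Q.mul_mem hb (hconjQ g hg _ (Q.mul_mem (Q.inv_mem hb) hd))) _
        (Q.mul_mem hc (hconjQ g hg _ (Q.mul_mem (Q.inv_mem hc) hd))) h1
      by_contra hne
      refine hg1 p ?_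
      refine hcommW g hg 1 W.one_mem (c⁻¹ * b) (Q.mul_mem (Q.inv_mem hc) hb)
        (fun h => hne (inv_mul_eq_one.1 h).symm) ?_
      rw [one_mul, inv_one, mul_one]
      have hQ' : ∀ u ∈ Q, ∀ v ∈ Q, g * (u * v) * g⁻¹ = (g * u * g⁻¹) * (g * v * g⁻¹) := fun u _ v _ => by group
      have h3 : c⁻¹ * b = g * (c⁻¹ * d) * g⁻¹ * (g * (b⁻¹ * d) * g⁻¹)⁻¹ := by
        rw [eq_mul_inv_iff_mul_eq, mul_assoc, h2, ← mul_assoc, inv_mul_cancel, one_mul]
      have hcd := hQc _ (Q.mul_mem (Q.inv_mem hc) hd) _ (Q.inv_mem (Q.mul_mem (Q.inv_mem hb) hd))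
      calc g * (c⁻¹ * b) * g⁻¹ = g * ((c⁻¹ * d) * (b⁻¹ * d)⁻¹) * g⁻¹ := by group
        _ = g * (c⁻¹ * d) * g⁻¹ * (g * (b⁻¹ * d) * g⁻¹)⁻¹ := by group
        _ = c⁻¹ * b := h3.symm
    · haveI := Fintype.ofFinite W
      rw [hw, Nat.card_congr (⟨fun g => ⟨⟨g.1, g.2.1⟩, fun e => g.2.2 (congrArg Subtype.val e)⟩,
        fun g => ⟨g.1.1, g.1.2, fun e => g.2 (Subtype.ext e)⟩, fun _ => rfl, fun _ => rfl⟩ :
        {g : Γ // g ∈ W ∧ g ≠ 1} ≃ {g : W // g ≠ 1}), Nat.card_eq_fintype_card, Fintype.card_subtype_compl]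
      simp
  intro x hx
  obtain ⟨u₀, -, hu₀, -, -⟩ := hthree
  obtain ⟨h, hh, hhx⟩ := horb u₀ x hx
  suffices hy : h⁻¹ * x = 1 by
    rw [← inv_mul_eq_one.1 hy]; exact hh.1
  by_contra hy
  set y := h⁻¹ * x with hydef
  have hyβ : y • β = β := by rw [hydef, mul_smul, show x • β = β from hx]; exact inv_smul_eq_iff.2 hh.2.symm
  have hyu : y • u₀ = u₀ := by rw [hydef, mul_smul, ← hhx, inv_smul_smul]
  obtain ⟨a₀, ha₀, ea₀⟩ := htr u₀
  have ha₀1 : a₀ ≠ 1 := fun e => hu₀ (by rw [← ea₀, e, one_smul])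
  have hex : ∀ p : {δ : Ω // y • δ ≠ δ}, ∃ gh : Γ × Γ, gh.1 ∈ W ∧ gh.2 ∈ W ∧ gh.1 ≠ 1 ∧ gh.2 ≠ 1 ∧
      y • (p : Ω) = gh.1 • (p : Ω) ∧ y • (p : Ω) = (a₀ * gh.2 * a₀⁻¹) • (p : Ω) := by
    intro p
    obtain ⟨g, hg, hg1, e⟩ := hmove y 1 Q.one_mem (by simpa using hyβ) p p.2
    obtain ⟨g', hg', hg1', e'⟩ := hmove y a₀ ha₀ (by rw [ea₀]; exact hyu) p p.2
    exact ⟨(g, g'), hg, hg', hg1, hg1', by simpa using e, e'⟩
  choose gh hgW hhW hg1 hh1 heg heh using hex
  have hne : ∀ p, (gh p).1 ≠ (gh p).2 := by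
    intro p e
    obtain ⟨b, hb, eb⟩ := htr (p : Ω)
    have h1 := (heg p).symm.trans (heh p)
    rw [← eb, ← e] at h1
    set g := (gh p).1
    have hg := hgW p
    rw [hact g hg a₀ ha₀ b hb, show g • b • β = (g * b * g⁻¹) • β by
      rw [mul_smul, mul_smul, inv_smul_eq_iff.2 hg.2.symm]] at h1
    have h2 := hQinj _ (hconjQ g hg b hb) _
      (Q.mul_mem ha₀ (hconjQ g hg _ (Q.mul_mem (Q.inv_mem ha₀) hb))) h1
    refine hg1 p (hcommW g hg 1 W.one_mem a₀ ha₀ ha₀1 ?_)
    rw [one_mul, inv_one, mul_one]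
    have h3 : (g * b * g⁻¹) * (g * (a₀⁻¹ * b) * g⁻¹)⁻¹ = a₀ := by
      conv_lhs => rw [h2]
      rw [mul_inv_cancel_right]
    calc g * a₀ * g⁻¹ = (g * b * g⁻¹) * (g * (a₀⁻¹ * b) * g⁻¹)⁻¹ := by group
      _ = a₀ := h3
  haveI := Fintype.ofFinite W
  let P : Finset (W × W) := ((Finset.univ.erase (1 : W)).offDiag)
  have hmoved : Nat.card {δ : Ω // y • δ ≠ δ} ≤ P.card := by
    rw [← Fintype.card_coe, ← Nat.card_eq_fintype_card]
    refine Nat.card_le_card_of_injective (fun p => ⟨(⟨(gh p).1, hgW p⟩, ⟨(gh p).2, hhW p⟩),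
      Finset.mem_offDiag.2 ⟨Finset.mem_erase.2 ⟨fun e => hg1 p (congrArg Subtype.val e), Finset.mem_univ _⟩,
        Finset.mem_erase.2 ⟨fun e => hh1 p (congrArg Subtype.val e), Finset.mem_univ _⟩,
        fun e => hne p (congrArg Subtype.val e)⟩⟩) fun p q e => ?_
    have e1 : (gh p).1 = (gh q).1 := congrArg (fun z : {z // z ∈ P} => ((z : W × W).1 : Γ)) e
    have e2 : (gh p).2 = (gh q).2 := congrArg (fun z : {z // z ∈ P} => ((z : W × W).2 : Γ)) e
    obtain ⟨b, hb, eb⟩ := htr (p : Ω)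
    obtain ⟨c, hc, ec⟩ := htr (q : Ω)
    refine Subtype.ext ?_
    rw [← eb, ← ec]
    congr 1
    set g := (gh p).1
    set k := (gh p).2
    have hg := hgW p
    have hk := hhW p
    have hgs : ∀ b ∈ Q, g • b • β = (g * b * g⁻¹) • β := fun b _ => by
      rw [mul_smul, mul_smul, inv_smul_eq_iff.2 hg.2.symm]
    have h1 := (heg p).symm.trans (heh p)
    have h2 := (heg q).symm.trans (heh q)
    rw [← e1, ← e2, ← ec] at h2
    rw [← eb] at h1
    rw [hact k hk a₀ ha₀ b hb, hgs b hb] at h1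
    rw [hact k hk a₀ ha₀ c hc, hgs c hc] at h2
    have h1' := hQinj _ (hconjQ g hg b hb) _ (Q.mul_mem ha₀ (hconjQ k hk _ (Q.mul_mem (Q.inv_mem ha₀) hb))) h1
    have h2' := hQinj _ (hconjQ g hg c hc) _ (Q.mul_mem ha₀ (hconjQ k hk _ (Q.mul_mem (Q.inv_mem ha₀) hc))) h2
    by_contra hbc
    refine hne p (hcommW g hg k hk (c⁻¹ * b) (Q.mul_mem (Q.inv_mem hc) hb)
      (fun h => hbc (inv_mul_eq_one.1 h).symm) ?_)
    calc g * (c⁻¹ * b) * g⁻¹ = (g * c * g⁻¹)⁻¹ * (g * b * g⁻¹) := by group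
      _ = (a₀ * (k * (a₀⁻¹ * c) * k⁻¹))⁻¹ * (a₀ * (k * (a₀⁻¹ * b) * k⁻¹)) := by rw [h1', h2']
      _ = k * (c⁻¹ * b) * k⁻¹ := by group
  have hsplit : Nat.card (fixedBy Ω y) + Nat.card {δ : Ω // y • δ ≠ δ} = n := by
    rw [hn, ← Nat.card_congr (Equiv.sumCompl (fun δ : Ω => y • δ = δ)), Nat.card_sum]
    rfl
  have hP : P.card = (w - 1) * (w - 1) - (w - 1) := by
    simp only [P, Finset.offDiag_card, Finset.card_erase_of_mem (Finset.mem_univ _), Finset.card_univ,
      ← Nat.card_eq_fintype_card, hw]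
  have h1 := hfixle y hy
  rw [pow_two] at hbig
  have : w - 1 ≤ (w - 1) * (w - 1) := Nat.le_mul_self _
  omega

end Cfsg.Lib.DerangeSqrt
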