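import Cfsg.Agent.DerangeSqrt.Frattini
import Cfsg.Agent.DerangeSqrt.Linear
import Cfsg.Agent.DerangeSqrt.TI
import Mathlib.GroupTheory.Transfer
import Mathlib.GroupTheory.GroupAction.Blocks
import Mathlib.GroupTheory.SpecificGroups.Alternating

/-!
The index of the derangement subgroup of a primitive group without abelian normal subgroups.
-/

set_option autoImplicit false
set_option linter.style.haveILetI false

namespace Cfsg.Lib.DerangeSqrt

open MulAction Cfsg.Lib.DerangementIndex

variable {G Ω : Type*} [Group G] [Finite G] [MulAction G Ω] [FaithfulSMul G Ω] [Finite Ω]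
  [htrans : IsPretransitive G Ω]

/-- A group without abelian normal subgroups does not act faithfully on fewer than four points. -/
theorem four_le_card (hΩ : 2 ≤ Nat.card Ω)
    (hna : ∀ N : Subgroup G, N.Normal → IsMulCommutative ↥N → N = ⊥) : 4 ≤ Nat.card Ω := by
  classical
  by_contra hlt
  haveI := Fintype.ofFinite Ω
  haveI hA : IsMulCommutative (alternatingGroup Ω) :=
    alternatingGroup.isMulCommutative_iff_card_le_three.2 (by omega)
  let p := MulAction.toPermHom G Ω
  have hp : Function.Injective p := fun a b h => eq_of_smul_eq_smul fun x : Ω => Equiv.congr_fun h x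
  let N := (alternatingGroup Ω).comap p
  haveI : N.Normal := inferInstance
  have hN : N = ⊥ := hna N inferInstance ⟨⟨fun a b => Subtype.ext (hp (by
    show p ((a : G) * b) = p ((b : G) * a)
    rw [map_mul, map_mul]
    exact congrArg Subtype.val
      (hA.is_comm.comm (⟨p a, a.2⟩ : alternatingGroup Ω) ⟨p b, b.2⟩)))⟩⟩
  have hcomm : ∀ a b : G, a * b = b * a := fun a b => by
    have : a * b * (b * a)⁻¹ ∈ N := by
      show p (a * b * (b * a)⁻¹) ∈ alternatingGroup Ω
      rw [Equiv.Perm.mem_alternatingGroup]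
      simp only [map_mul, map_inv]
      rw [mul_comm (Equiv.Perm.sign (p b)) (Equiv.Perm.sign (p a)), mul_inv_cancel]
    rw [hN, Subgroup.mem_bot] at this
    exact mul_inv_eq_one.1 this
  have htop := hna ⊤ inferInstance ⟨⟨fun a b => Subtype.ext (hcomm a b)⟩⟩
  haveI : Nontrivial Ω := Finite.one_lt_card_iff_nontrivial.1 (by omega)
  obtain ⟨x, y, hxy⟩ := exists_pair_ne Ω
  obtain ⟨g, hg⟩ := exists_smul_eq G x y
  refine hxy ?_
  have h1 : g ∈ (⊥ : Subgroup G) := htop ▸ Subgroup.mem_top g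
  rw [← hg, Subgroup.mem_bot.1 h1, one_smul]

/-- The centraliser of an element of an abelian regular Sylow subgroup whose normaliser has no
non-trivial element fixing a point and centralising it. -/
theorem centralizer_eq_of_semiregular {Γ X : Type*} [Group Γ] [Finite Γ] [MulAction Γ X] [Finite X]
    [FaithfulSMul Γ X] (q : ℕ) [hq : Fact q.Prime] (Q : Subgroup Γ) (β : X)
    (hQc : ∀ a ∈ Q, ∀ b ∈ Q, a * b = b * a) (htr : ∀ x : X, ∃ a ∈ Q, a • β = x)
    (hQcard : Nat.card Q = q ^ (Nat.card Γ).factorization q) (hXQ : Nat.card X = Nat.card Q)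
    (hs : ∀ s ∈ Subgroup.normalizer (Q : Set Γ), s • β = β → ∀ a ∈ Q, a ≠ 1 → s * a = a * s → s = 1)
    {a : Γ} (ha : a ∈ Q) (ha1 : a ≠ 1) : Subgroup.centralizer ({a} : Set Γ) = Q := by
  set C := Subgroup.centralizer ({a} : Set Γ) with hCdef
  have hQC : Q ≤ C := fun b hb => Subgroup.mem_centralizer_singleton_iff.2 (hQc b hb a ha)
  have hQ'card : Nat.card ↥(Q.subgroupOf C) = q ^ (Nat.card C).factorization q := by
    rw [Nat.card_congr (Subgroup.subgroupOfEquivOfLe hQC).toEquiv, hQcard]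
    congr 1
    refine le_antisymm ((hq.out.pow_dvd_iff_le_factorization Nat.card_pos.ne').1
      (hQcard ▸ Subgroup.card_dvd_of_le hQC)) ?_
    exact (Nat.factorization_le_iff_dvd Nat.card_pos.ne' Nat.card_pos.ne').2
      C.card_subgroup_dvd_card q
  let P : Sylow q C := Sylow.ofCard (Q.subgroupOf C) hQ'card
  have hP : Subgroup.normalizer (P : Set C) ≤ Subgroup.centralizer (P : Set C) := by
    intro x hx
    obtain ⟨b, hb, eb⟩ := htr ((x : Γ) • β)
    have hxC : (x : Γ) * a = a * x := Subgroup.mem_centralizer_singleton_iff.1 x.2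
    have hxN : (x : Γ) ∈ Subgroup.normalizer (Q : Set Γ) := by
      refine Subgroup.mem_normalizer_iff.2 fun z => ⟨fun hz => ?_, fun hz => ?_⟩
      · exact (Subgroup.mem_normalizer_iff.1 hx ⟨z, hQC hz⟩).1 hz
      · have hzC : z ∈ C := by
          have := C.mul_mem (C.mul_mem (C.inv_mem x.2) (hQC hz)) x.2
          simpa [mul_assoc] using this
        exact (Subgroup.mem_normalizer_iff.1 hx ⟨z, hzC⟩).2 hz
    have hsx : b⁻¹ * (x : Γ) = 1 := by
      refine hs _ ((Subgroup.normalizer (Q : Set Γ)).mul_mem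
        ((Subgroup.normalizer (Q : Set Γ)).inv_mem (Subgroup.le_normalizer hb)) hxN)
        (by rw [mul_smul, ← eb, inv_smul_smul]) a ha ha1 ?_
      calc b⁻¹ * (x : Γ) * a = b⁻¹ * a * x := by rw [mul_assoc, hxC, mul_assoc]
        _ = a * (b⁻¹ * x) := by rw [hQc _ (Q.inv_mem hb) a ha, mul_assoc]
    have hxb : (x : Γ) = b := (inv_mul_eq_one.1 hsx).symm
    refine Subgroup.mem_centralizer_iff.2 fun z hz => Subtype.ext ?_
    show (z : Γ) * x = x * z
    rw [hxb]
    exact hQc z hz b hb
  set O := (MonoidHom.transferSylow P hP).ker with hO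
  have hcompl : O.IsComplement' (P : Subgroup C) := MonoidHom.ker_transferSylow_isComplement' P hP
  haveI : IsPretransitive C X := ⟨fun x y => by
    obtain ⟨b, hb, e⟩ := htr x
    obtain ⟨c, hc, e'⟩ := htr y
    refine ⟨⟨c * b⁻¹, C.mul_mem (hQC hc) (C.inv_mem (hQC hb))⟩, ?_⟩
    show (c * b⁻¹) • x = y
    rw [mul_smul, ← e, inv_smul_smul, e']⟩
  have hcop : (Nat.card O).Coprime (Nat.card X) := by
    rw [hXQ, hQcard, ← hcompl.index_eq_card]
    exact Nat.Coprime.pow_right _ (Nat.Coprime.symm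
      ((hq.out.coprime_iff_not_dvd).2 P.not_dvd_index))
  have hObot : O = ⊥ := by
    refine (Subgroup.eq_bot_iff_forall _).2 fun o ho => Subtype.ext (eq_of_smul_eq_smul fun x : X => ?_)
    have hblock : IsBlock C (orbit O x) := IsBlock.orbit_of_normal x
    have h1 : (orbit O x).ncard ∣ Nat.card X := hblock.ncard_dvd_card ⟨x, mem_orbit_self x⟩
    have h2 : (orbit O x).ncard ∣ Nat.card O := ⟨_, card_eq_orbit_mul O x⟩
    obtain ⟨z, hz⟩ := Set.ncard_eq_one.1 (Nat.eq_one_of_dvd_coprimes hcop h2 h1)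
    have h3 : o • x ∈ orbit O x := ⟨⟨o, ho⟩, rfl⟩
    have h4 : x ∈ orbit O x := mem_orbit_self x
    rw [hz, Set.mem_singleton_iff] at h3 h4
    show (o : Γ) • x = (1 : Γ) • x
    rw [one_smul]
    exact h3.trans h4.symm
  rw [hObot, Subgroup.isComplement'_bot_left] at hcompl
  exact le_antisymm (Subgroup.subgroupOf_eq_top.1 hcompl) hQC

theorem index_succ_sq_le_primitive (hΩ : 2 ≤ Nat.card Ω)
    (hna : ∀ N : Subgroup G, N.Normal → IsMulCommutative ↥N → N = ⊥) :
    ((dergroup G Ω).index + 1) ^ 2 ≤ Nat.card Ω := by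
  classical
  have hm0 : 0 < (dergroup G Ω).index := Nat.pos_of_ne_zero Subgroup.index_ne_zero_of_finite
  rcases Nat.lt_or_ge (dergroup G Ω).index 2 with h1 | hm
  · have := four_le_card hΩ hna
    rw [show (dergroup G Ω).index = 1 by omega]
    omega
  have hmtop : dergroup G Ω ≠ ⊤ := fun h => by rw [h, Subgroup.index_top] at hm; omega
  refine (reduce hmtop hΩ).elim id ?_
  rintro ⟨q, Q, β, hq, hQD, hQp, hQc, htr, hreg, hgood, hQcard, hndvd⟩
  by_contra hbound
  haveI : Fact q.Prime := ⟨hq⟩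
  set D := dergroup G Ω with hD
  set N := Subgroup.normalizer (Q : Set G) with hN
  set K : Subgroup G := N ⊓ stabilizer G β with hK
  have hnQ : Nat.card Q = Nat.card Ω := by
    refine Nat.card_congr (Equiv.ofBijective (fun a : Q => (a : G) • β) ⟨fun a b e => ?_, fun x => ?_⟩)
    · have h := hreg ((b : G)⁻¹ * a) (Q.mul_mem (Q.inv_mem b.2) a.2)
        (by rw [mul_smul, show (a : G) • β = (b : G) • β from e, inv_smul_smul])
      exact Subtype.ext (inv_mul_eq_one.1 h).symm
    · obtain ⟨a, ha, e⟩ := htr x; exact ⟨⟨a, ha⟩, e⟩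
  letI : CommGroup Q :=
    { (inferInstance : Group Q) with mul_comm := fun a b => Subtype.ext (hQc a a.2 b b.2) }
  letI : MulDistribMulAction K Q :=
    { smul := fun k a => ⟨(k : G) * a * (k : G)⁻¹, (Subgroup.mem_normalizer_iff.1 k.2.1 a).1 a.2⟩
      one_smul := fun a => Subtype.ext (show ((1 : K) : G) * a * ((1 : K) : G)⁻¹ = a by simp)
      mul_smul := fun k l a => Subtype.ext
        (show ((k : G) * l) * a * ((k : G) * l)⁻¹ = k * (l * a * (l : G)⁻¹) * (k : G)⁻¹ by group)
      smul_mul := fun k a b => Subtype.ext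
        (show (k : G) * (a * b) * (k : G)⁻¹ = (k * a * (k : G)⁻¹) * (k * b * (k : G)⁻¹) by group)
      smul_one := fun k => Subtype.ext (show (k : G) * 1 * (k : G)⁻¹ = 1 by group) }
  have hval : ∀ (k : K) (a : Q), ((k • a : Q) : G) = k * a * (k : G)⁻¹ := fun _ _ => rfl
  have hkβ : ∀ k : K, (k : G) • β = β := fun k => k.2.2
  have hmove : ∀ (k : K) (a : Q), (k : G) • (a : G) • β = ((k • a : Q) : G) • β := fun k a => by
    rw [hval, mul_smul, mul_smul, inv_smul_eq_iff.2 (hkβ k).symm]
  set W : Subgroup K := D.subgroupOf K with hW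
  haveI : W.Normal := dergroup_normal.comap K.subtype
  have hmW : W.index = D.index := by
    show D.relIndex K = D.index
    rw [← Subgroup.relIndex_sup_right, show K ⊔ D = ⊤ from top_le_iff.1 fun g _ => ?_,
      Subgroup.relIndex_top_right]
    obtain ⟨l, hl, hlβ, hlD⟩ := hgood g
    rw [show g = l * (g⁻¹ * l)⁻¹ by group]
    exact Subgroup.mul_mem_sup ⟨hl, hlβ⟩ (D.inv_mem hlD)
  have hfpf : ∀ k : K, k ∉ W → ∀ a : Q, k • a = a → a = 1 := by
    intro k hk a hka
    by_contra ha
    refine hk (stabilizer_le_dergroup (fun e : (a : G) • β = β => ha (Subtype.ext (hreg a a.2 e))) ?_ (hkβ k))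
    show (k : G) • (a : G) • β = (a : G) • β
    rw [hmove, hka]
  have hfaith : ∀ k : K, (∀ a : Q, k • a = a) → k = 1 := fun k hk => by
    refine Subtype.ext (eq_of_smul_eq_smul fun x : Ω => ?_)
    obtain ⟨a, ha, rfl⟩ := htr x
    have := hmove k ⟨a, ha⟩
    rw [hk] at this
    rw [Subgroup.coe_one, one_smul]
    exact this
  have hWmap : W.map K.subtype ≤ D ⊓ stabilizer G β := by
    rintro _ ⟨k, hk, rfl⟩
    exact ⟨hk, hkβ k⟩
  have hcop : (Nat.card W).Coprime (Nat.card Q) := by
    rw [hQcard]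
    refine Nat.Coprime.pow_right _ (Nat.Coprime.symm ((hq.coprime_iff_not_dvd).2 fun h => hndvd ?_))
    refine h.trans ?_
    rw [← Subgroup.card_subtype K W]
    exact Subgroup.card_dvd_of_le hWmap
  by_cases hns : ∃ k ∈ W, k ≠ 1 ∧ ∃ a : Q, a ≠ 1 ∧ k • a = a
  · have h := linear_bound hfpf hcop hfaith hns
    rw [hmW, hnQ] at h
    exact hbound h
  push Not at hns
  -- counting orbits
  haveI := Fintype.ofFinite Q
  have hcount : D.index * Nat.card W + 1 ≤ Nat.card Ω := by
    have hne : (Finset.univ.erase (1 : Q)).Nonempty := by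
      rw [← Finset.card_pos, Finset.card_erase_of_mem (Finset.mem_univ _), Finset.card_univ,
        ← Nat.card_eq_fintype_card, hnQ]
      omega
    have hinv : ∀ k : K, ∀ a ∈ Finset.univ.erase (1 : Q), k • a ∈ Finset.univ.erase (1 : Q) :=
      fun k a ha => Finset.mem_erase.2 ⟨fun e => (Finset.mem_erase.1 ha).1
        (((smul_eq_iff_eq_inv_smul _).1 e).trans (smul_one _)), Finset.mem_univ _⟩
    have h := count_le (L := (⊤ : Subgroup K)) (R := W) hfpf
      (fun g => ⟨g, Subgroup.mem_top _, by rw [inv_mul_cancel]; exact W.one_mem⟩) le_rfl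
      (fun l _ r hr => Subgroup.Normal.conj_mem inferInstance r hr l)
      (Finset.univ.erase (1 : Q)) (fun h => (Finset.mem_erase.1 h).1 rfl) hne
      (fun l _ => hinv l) (fun r _ => hinv r)
    rw [Finset.sum_congr rfl (g := fun _ => 1) (fun a ha => ?_), Finset.sum_const, smul_eq_mul, mul_one,
      Finset.card_erase_of_mem (Finset.mem_univ _), Finset.card_univ, ← Nat.card_eq_fintype_card, hnQ,
      hmW] at h
    · omega
    · rw [Subgroup.card_eq_one, eq_bot_iff]
      rintro k ⟨hk, hka⟩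
      by_contra hk1
      exact hns k hk hk1 a (Finset.mem_erase.1 ha).1 hka
  -- the normaliser inside the derangement subgroup
  set Q' : Subgroup D := Q.subgroupOf D with hQ'
  have htr' : ∀ x : Ω, ∃ a ∈ Q', a • β = x := fun x => by
    obtain ⟨a, ha, e⟩ := htr x
    exact ⟨⟨a, hQD ha⟩, ha, e⟩
  have hreg' : ∀ a ∈ Q', a • β = β → a = 1 := fun a ha e => Subtype.ext (hreg a ha e)
  have hQ'c : ∀ a ∈ Q', ∀ b ∈ Q', a * b = b * a := fun a ha b hb => Subtype.ext (hQc a ha b hb)
  have hnormN : ∀ d : D, d ∈ Subgroup.normalizer (Q' : Set D) ↔ (d : G) ∈ N := fun d => by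
    refine ⟨fun h => Subgroup.mem_normalizer_iff.2 fun z => ⟨fun hz => ?_, fun hz => ?_⟩,
      fun h => Subgroup.mem_normalizer_iff.2 fun z => Subgroup.mem_normalizer_iff.1 h z⟩
    · exact (Subgroup.mem_normalizer_iff.1 h ⟨z, hQD hz⟩).1 hz
    · have hzD : z ∈ D := by
        have := D.mul_mem (D.mul_mem (D.inv_mem d.2) (hQD hz)) d.2
        simpa [mul_assoc] using this
      exact (Subgroup.mem_normalizer_iff.1 h ⟨z, hzD⟩).2 hz
  have hw : Nat.card ↥(Subgroup.normalizer (Q' : Set D) ⊓ stabilizer D β) = Nat.card W :=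
    Nat.card_congr
      ⟨fun d => ⟨⟨(d : D), (hnormN _).1 d.2.1, d.2.2⟩, (d : D).2⟩,
        fun k => ⟨⟨(k : K), k.2⟩, (hnormN _).2 (k : K).2.1, (k : K).2.2⟩, fun _ => rfl, fun _ => rfl⟩
  have hQ'card : Nat.card Q' = q ^ (Nat.card D).factorization q := by
    rw [Nat.card_congr (Subgroup.subgroupOfEquivOfLe hQD).toEquiv, hQcard]
  have hC : ∀ a ∈ Q', a ≠ 1 → Subgroup.centralizer ({a} : Set D) = Q' := fun a ha ha1 =>
    centralizer_eq_of_semiregular q Q' β hQ'c htr' hQ'card
      (by rw [Nat.card_congr (Subgroup.subgroupOfEquivOfLe hQD).toEquiv, hnQ])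
      (fun s hs hsβ b hb hb1 hsb => by
        by_contra hs1
        refine hns ⟨(s : G), (hnormN s).1 hs, hsβ⟩ s.2 (fun e => hs1 (Subtype.ext ?_)) ⟨b, hb⟩
          (fun e => hb1 (Subtype.ext ?_)) (Subtype.ext ?_)
        · exact congrArg (fun z : K => (z : G)) e
        · exact congrArg (fun z : Q => (z : G)) e
        · rw [hval]
          exact mul_inv_eq_iff_eq_mul.2 (congrArg Subtype.val hsb)) ha ha1
  set w := Nat.card W with hwdef
  have hw0 : 0 < w := Nat.card_pos
  have hsmall : 2 * w + 1 ≤ Nat.card Ω := by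
    have := Nat.mul_le_mul_right w hm
    omega
  have hbig : (w - 1) ^ 2 < Nat.card Ω := by
    by_contra hge
    push Not at hge
    refine hbound ?_
    obtain ⟨u, hu⟩ : ∃ u, w = u + 1 := ⟨w - 1, by omega⟩
    rw [hu] at hge hcount
    simp only [add_tsub_cancel_right] at hge
    rcases le_or_gt (D.index + 1) u with h | h
    · nlinarith
    · nlinarith
  have hthree : ∃ u v : Ω, u ≠ β ∧ v ≠ β ∧ ∀ d ∈ stabilizer D β, d • u ≠ v := by
    obtain ⟨k, hk⟩ : ∃ k : K, k ∉ W := by
      by_contra h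
      push Not at h
      rw [← hmW, Subgroup.index_eq_one.2 (top_le_iff.1 fun k _ => h k)] at hm
      omega
    haveI : Nontrivial Ω := Finite.one_lt_card_iff_nontrivial.1 (by omega)
    obtain ⟨u, hu⟩ := exists_ne β
    refine ⟨u, (k : G) • u, hu, fun e => hu (smul_left_cancel (k : G) (e.trans (hkβ k).symm)),
      fun d hd e => hk ?_⟩
    have h1 : (d : G)⁻¹ * (k : G) ∈ D := stabilizer_le_dergroup hu
      (by rw [mul_smul, ← e]; exact inv_smul_smul (d : G) u)
      (by rw [mul_smul, hkβ, inv_smul_eq_iff]; exact (show (d : G) • β = β from hd).symm)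
    show (k : G) ∈ D
    simpa using D.mul_mem d.2 h1
  have hle := ti_stabilizer_le Q' β hQ'c htr' hreg' hC (by rw [hw]; exact hsmall) hthree
    (by rw [hw]; exact hbig)
  -- the Sylow subgroup is normal
  haveI hn' : Q'.Normal := by
    refine Subgroup.normalizer_eq_top_iff.1 (top_le_iff.1 fun d _ => ?_)
    obtain ⟨b, hb, e⟩ := htr' (d • β)
    have hs : b⁻¹ * d ∈ stabilizer D β := by
      rw [mem_stabilizer_iff, mul_smul, ← e, inv_smul_smul]
    rw [show d = b * (b⁻¹ * d) by group]
    exact (Subgroup.normalizer (Q' : Set D)).mul_mem (Subgroup.le_normalizer hb) (hle hs)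
  let P : Sylow q D := Sylow.ofCard Q' hQ'card
  have hPn : (P : Subgroup D).Normal := hn'
  haveI : (P : Subgroup D).Characteristic := P.characteristic_of_normal hPn
  haveI : Q'.Characteristic := this
  have hQn : Q.Normal := by
    have hn : (Q'.map D.subtype).Normal := inferInstance
    rwa [Subgroup.subgroupOf_map_subtype, inf_eq_left.2 hQD] at hn
  have hbot := hna Q hQn ⟨⟨fun a b => Subtype.ext (hQc a a.2 b b.2)⟩⟩
  rw [hbot, Subgroup.card_bot] at hnQ
  omega

end Cfsg.Lib.DerangeSqrt
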