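import Cfsg.Agent.DerangeSqrt.Fixed

/-!
Two-groups with centre of order two and squares in the centre: the orbit count.
-/

set_option autoImplicit false

namespace Cfsg.Lib.DerangeSqrt

open scoped Classical

variable {K : Type*} [Group K]

/-- A subgroup of exponent two with squares and commutators in `⟨z⟩`, nondegenerate modulo it. -/
structure QSet (C : Subgroup K) (z : K) : Prop where
  zC : z ∈ C
  z_ne : z ≠ 1
  zz : z * z = 1
  zcomm : ∀ c ∈ C, c * z = z * c
  sq : ∀ c ∈ C, c * c = 1 ∨ c * c = z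
  comm : ∀ c ∈ C, ∀ d ∈ C, d * c = c * d ∨ d * c = c * d * z
  nondeg : ∀ c ∈ C, c ≠ 1 → c ≠ z → ∃ d ∈ C, d * c ≠ c * d

/-- The sign of a square. -/
noncomputable def sgn (c : K) : ℤ := if c * c = 1 then 1 else -1

/-- The sign of a commutator. -/
noncomputable def bsgn (c d : K) : ℤ := if d * c = c * d then 1 else -1

theorem bsgn_comm (c d : K) : bsgn c d = bsgn d c := by
  unfold bsgn
  by_cases h : d * c = c * d
  · rw [if_pos h, if_pos h.symm]
  · rw [if_neg h, if_neg (Ne.symm h)]

theorem sgn_mul_self (c : K) : sgn c * sgn c = 1 := by unfold sgn; split_ifs <;> norm_num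

variable {C : Subgroup K} {z : K} (h : QSet C z)
include h

theorem sgn_mul {c d : K} (hc : c ∈ C) (hd : d ∈ C) : sgn (c * d) = sgn c * sgn d * bsgn c d := by
  have hz := h.z_ne
  have hzz := h.zz
  have e : ∀ t, d * c = c * d * t → (t = 1 ∨ t = z) → c * d * (c * d) = c * c * (d * d) * t := by
    intro t ht htz
    have htd : t * d = d * t := by
      rcases htz with rfl | rfl
      · simp
      · exact (h.zcomm d hd).symm
    calc c * d * (c * d) = c * (d * c) * d := by group
      _ = c * c * d * (t * d) := by rw [ht]; group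
      _ = c * c * (d * d) * t := by rw [htd]; group
  rcases h.comm c hc d hd with hcd | hcd
  · have e' := e 1 (by rw [mul_one]; exact hcd) (Or.inl rfl)
    rw [mul_one] at e'
    unfold sgn bsgn
    rw [if_pos hcd, e']
    rcases h.sq c hc with h1 | h1 <;> rcases h.sq d hd with h2 | h2 <;> simp [h1, h2, hz, hzz]
  · have hne : ¬ d * c = c * d := fun e0 => hz (by simpa using hcd.symm.trans e0)
    have e' := e z hcd (Or.inr rfl)
    unfold sgn bsgn
    rw [if_neg hne, e']
    rcases h.sq c hc with h1 | h1 <;> rcases h.sq d hd with h2 | h2 <;> simp [h1, h2, hz, hzz]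

theorem bsgn_mul {x d e : K} (hx : x ∈ C) (hd : d ∈ C) (he : e ∈ C) :
    bsgn x (d * e) = bsgn x d * bsgn x e := by
  have hz := h.z_ne
  have key : ∀ t u, d * x = x * d * t → e * x = x * e * u → (t = 1 ∨ t = z) →
      d * e * x = x * (d * e) * (t * u) := by
    intro t u ht hu htz
    have hte : t * e = e * t := by
      rcases htz with rfl | rfl
      · simp
      · exact (h.zcomm e he).symm
    calc d * e * x = d * (e * x) := by group
      _ = d * x * e * u := by rw [hu]; group
      _ = x * d * (t * e) * u := by rw [ht]; group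
      _ = x * (d * e) * (t * u) := by rw [hte]; group
  have hv : ∀ w, d * e * x = x * (d * e) * w → (bsgn x (d * e) = if w = 1 then 1 else -1) := by
    intro w hw
    unfold bsgn
    rw [hw]
    by_cases h1 : w = 1 <;> simp [h1]
  rcases h.comm x hx d hd with h1 | h1 <;> rcases h.comm x hx e he with h2 | h2
  · rw [hv 1 (by simpa using key 1 1 (by simpa using h1) (by simpa using h2) (Or.inl rfl))]
    simp [bsgn, h1, h2]
  · rw [hv z (by simpa using key 1 z (by simpa using h1) h2 (Or.inl rfl))]
    simp [bsgn, h1, h2, hz]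
  · rw [hv z (by simpa using key z 1 h1 (by simpa using h2) (Or.inr rfl))]
    simp [bsgn, h1, h2, hz]
  · rw [hv 1 (by simpa [h.zz] using key z z h1 h2 (Or.inr rfl))]
    simp [bsgn, h1, h2, hz]

variable [Fintype K]

theorem sum_shift {α : Subgroup K} {d : K} (hd : d ∈ α) (f : K → ℤ) :
    ∑ x ∈ Finset.univ.filter (· ∈ α), f (x * d) = ∑ x ∈ Finset.univ.filter (· ∈ α), f x := by
  refine Finset.sum_nbij' (fun x => x * d) (fun x => x * d⁻¹) ?_ ?_ ?_ ?_ ?_
  · intro x hx; simpa using α.mul_mem (by simpa using hx) hd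
  · intro x hx; simpa using α.mul_mem (by simpa using hx) (α.inv_mem hd)
  · intro x _; simp
  · intro x _; simp
  · intro x _; rfl

theorem sum_bsgn_eq_zero {P : Subgroup K} (hP : P ≤ C) {w d : K} (hw : w ∈ C) (hd : d ∈ P)
    (hne : d * w ≠ w * d) : ∑ x ∈ Finset.univ.filter (· ∈ P), bsgn w x = 0 := by
  have h1 := sum_shift h hd (bsgn w)
  rw [Finset.sum_congr rfl fun x hx => bsgn_mul h hw (hP (Finset.mem_filter.1 hx).2) (hP hd),
    ← Finset.sum_mul, show bsgn w d = -1 from if_neg hne] at h1
  linarith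

/-- The sum of the signs over the centraliser of an isotropic subgroup does not depend on it. -/
theorem iso_identities {P : Subgroup K} (hP : P ≤ C) (hzP : z ∈ P) (hsq : ∀ p ∈ P, p * p = 1) :
    ∑ x ∈ Finset.univ.filter (· ∈ C ⊓ Subgroup.centralizer (P : Set K)), sgn x =
      ∑ x ∈ Finset.univ.filter (· ∈ C), sgn x ∧
    Nat.card ↥(C ⊓ Subgroup.centralizer (P : Set K)) * Nat.card P = 2 * Nat.card C := by
  set Cs := Finset.univ.filter (· ∈ C)
  set Ps := Finset.univ.filter (· ∈ P)
  set Ms := Finset.univ.filter (· ∈ C ⊓ Subgroup.centralizer (P : Set K))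
  have key : ∀ G' : Subgroup K, Nat.card G' = (Finset.univ.filter (· ∈ G')).card := fun G' => by
    rw [Nat.card_eq_fintype_card, Fintype.card_subtype]
  have hin : ∀ x ∈ Cs, ∑ p ∈ Ps, bsgn x p = if x ∈ Ms then (Nat.card P : ℤ) else 0 := by
    intro x hx
    have hxC : x ∈ C := (Finset.mem_filter.1 hx).2
    split_ifs with hxM
    · rw [Finset.sum_congr rfl fun p (hp : p ∈ Ps) => show bsgn x p = 1 from
        if_pos (Subgroup.mem_centralizer_iff.1 (Finset.mem_filter.1 hxM).2.2 p (Finset.mem_filter.1 hp).2),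
        Finset.sum_const, key]
      simp [Ps]
    · obtain ⟨p, hp, hne⟩ : ∃ p ∈ P, p * x ≠ x * p := by
        by_contra hc
        push Not at hc
        exact hxM (Finset.mem_filter.2 ⟨Finset.mem_univ _, hxC, Subgroup.mem_centralizer_iff.2 hc⟩)
      exact sum_bsgn_eq_zero h hP hxC hp hne
  constructor
  · have h1 : ∑ p ∈ Ps, ∑ x ∈ Cs, sgn (x * p) = (Nat.card P : ℤ) * ∑ x ∈ Cs, sgn x := by
      rw [Finset.sum_congr rfl fun p hp => sum_shift h (hP (Finset.mem_filter.1 hp).2) sgn, Finset.sum_const,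
        key, nsmul_eq_mul]
    rw [Finset.sum_comm, Finset.sum_congr rfl fun x hx => show ∑ p ∈ Ps, sgn (x * p) =
        sgn x * (if x ∈ Ms then (Nat.card P : ℤ) else 0) by
      rw [← hin x hx, Finset.mul_sum]
      refine Finset.sum_congr rfl fun p hp => ?_
      rw [sgn_mul h (Finset.mem_filter.1 hx).2 (hP (Finset.mem_filter.1 hp).2),
        show sgn p = 1 from if_pos (hsq p (Finset.mem_filter.1 hp).2), mul_one]] at h1
    simp only [mul_ite, mul_zero] at h1
    rw [← Finset.sum_filter, ← Finset.sum_mul, mul_comm _ (Nat.card P : ℤ),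
      show Cs.filter (· ∈ Ms) = Ms from Finset.ext fun x => by
        simp only [Cs, Ms, Finset.mem_filter, Finset.mem_univ, true_and, Subgroup.mem_inf]; tauto] at h1
    exact mul_left_cancel₀ (by exact_mod_cast Nat.card_pos.ne') h1
  · have h1 : ∑ x ∈ Cs, ∑ p ∈ Ps, bsgn x p = 2 * (Nat.card C : ℤ) := by
      rw [Finset.sum_comm, ← Finset.sum_subset (s₁ := {1, z}) (fun p hp => ?_) (fun p hp hp' => ?_)]
      · rw [Finset.sum_pair h.z_ne.symm, two_mul]
        congr 1
        · rw [Finset.sum_congr rfl fun (x : K) _ => show bsgn x 1 = 1 from if_pos (by simp), Finset.sum_const, key]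
          simp [Cs]
        · rw [Finset.sum_congr rfl fun x (hx : x ∈ Cs) => show bsgn x z = 1 from
            if_pos (h.zcomm x (Finset.mem_filter.1 hx).2).symm, Finset.sum_const, key]
          simp [Cs]
      · simp only [Finset.mem_insert, Finset.mem_singleton] at hp
        rcases hp with rfl | rfl <;> simp [Ps, hzP, P.one_mem]
      · simp only [Finset.mem_insert, Finset.mem_singleton, not_or] at hp'
        have hpC : p ∈ C := hP (Finset.mem_filter.1 hp).2
        obtain ⟨d, hd, hne⟩ := h.nondeg p hpC hp'.1 hp'.2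
        rw [Finset.sum_congr rfl fun x _ => bsgn_comm x p]
        exact sum_bsgn_eq_zero h le_rfl hpC hd hne
    rw [Finset.sum_congr rfl hin, ← Finset.sum_filter, Finset.sum_const,
      show Cs.filter (· ∈ Ms) = Ms from Finset.ext fun x => by
        simp only [Cs, Ms, Finset.mem_filter, Finset.mem_univ, true_and, Subgroup.mem_inf]; tauto,
      ← key, nsmul_eq_mul] at h1
    exact_mod_cast h1

theorem sum_sgn_sq : (∑ x ∈ Finset.univ.filter (· ∈ C), sgn x) ^ 2 = 2 * (Nat.card C : ℤ) := by
  set Cs := Finset.univ.filter (· ∈ C)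
  have h1 : ∑ x ∈ Cs, ∑ y ∈ Cs, sgn x * sgn (y * x) = (∑ x ∈ Cs, sgn x) ^ 2 := by
    rw [pow_two, Finset.sum_mul]
    refine Finset.sum_congr rfl fun x hx => ?_
    rw [← Finset.mul_sum, sum_shift h (Finset.mem_filter.1 hx).2 sgn]
  rw [← h1, Finset.sum_comm, ← Finset.sum_subset (s₁ := {1, z}) (fun p hp => ?_) (fun y hy hy' => ?_)]
  · rw [Finset.sum_pair h.z_ne.symm, two_mul]
    have key : (Nat.card C : ℤ) = Cs.card := by rw [Nat.card_eq_fintype_card, Fintype.card_subtype]
    congr 1
    · rw [Finset.sum_congr rfl fun (x : K) _ => show sgn x * sgn (1 * x) = 1 by rw [one_mul, sgn_mul_self],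
        Finset.sum_const, key]
      simp
    · rw [Finset.sum_congr rfl fun x (hx : x ∈ Cs) => show sgn x * sgn (z * x) = 1 by
          rw [sgn_mul h h.zC (Finset.mem_filter.1 hx).2, show bsgn z x = 1 from
            if_pos (h.zcomm x (Finset.mem_filter.1 hx).2), show sgn z = 1 from if_pos h.zz, one_mul, mul_one,
            sgn_mul_self], Finset.sum_const, key]
      simp
  · simp only [Finset.mem_insert, Finset.mem_singleton] at hp
    rcases hp with rfl | rfl <;> simp [Cs, h.zC, C.one_mem]
  · simp only [Finset.mem_insert, Finset.mem_singleton, not_or] at hy'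
    have hyC : y ∈ C := (Finset.mem_filter.1 hy).2
    obtain ⟨d, hd, hne⟩ := h.nondeg y hyC hy'.1 hy'.2
    rw [Finset.sum_congr rfl fun x (hx : x ∈ Cs) => show sgn x * sgn (y * x) = sgn y * bsgn y x by
      rw [sgn_mul h hyC (Finset.mem_filter.1 hx).2]
      linear_combination (sgn y * bsgn y x) * sgn_mul_self x, ← Finset.mul_sum,
      sum_bsgn_eq_zero h le_rfl hyC hd hne, mul_zero]

omit h in
theorem two_mul_card_invol (M : Subgroup K) :
    2 * ((Finset.univ.filter fun x => x ∈ M ∧ x * x = 1).card : ℤ) =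
      (Nat.card M : ℤ) + ∑ x ∈ Finset.univ.filter (· ∈ M), sgn x := by
  have e : ∀ x : K, sgn x + 1 = if x * x = 1 then (2 : ℤ) else 0 := fun x => by
    unfold sgn; split_ifs <;> norm_num
  have h1 : ∑ x ∈ Finset.univ.filter (· ∈ M), (sgn x + 1) =
      2 * ((Finset.univ.filter fun x => x ∈ M ∧ x * x = 1).card : ℤ) := by
    rw [Finset.sum_congr rfl fun x _ => e x, ← Finset.sum_filter, Finset.filter_filter, Finset.sum_const,
      nsmul_eq_mul, mul_comm]
  rw [Finset.sum_add_distrib, Finset.sum_const, nsmul_eq_mul, mul_one] at h1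
  rw [← h1, Nat.card_eq_fintype_card, Fintype.card_subtype]
  ring

end Cfsg.Lib.DerangeSqrt
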